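import Cfsg.Agent.Omega.F4Leaf.Match
import Cfsg.Agent.Omega.NSix.MatchApp
import Cfsg.Agent.Omega.NSix.FixApp
import Cfsg.Agent.MinSimple.Geo
import Cfsg.Agent.Omega.MinPar

/-!
# LeafF4 (O4) (bb OMEGA #15257, #15619): the matching lemma with `V₀` inside a group

`V` is the even-subset module of degree `2 ^ m + 1` of `P ≥ S` (labels `ε`, `S` fixes the label 0), `V₀ ≤ Z(P)`,
`Y ≥ V` is elementary abelian and normal in `P`, `S ∩ C(V)` centralises `Y` and `C_Y(S) ≤ V₀ × ⟨z_0⟩`.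

* `Big.cen` : `C_P(V)` centralises `Y`;
* `Big.phi_eq` : an equivariant homomorphism `φ : V_n → Y` is trivial or the inclusion;
* `Vn_cen` : `V_n ≤ Z(W)`, `W = O₂(C_G(n))`.
-/

set_option autoImplicit false
set_option linter.dupNamespace false

namespace Cfsg.Agent.Omega.F4Leaf.App

open Subgroup Pointwise Cfsg.Agent Cfsg.Agent.Omega.S5.Def Cfsg.Agent.Omega.S5.Syl Cfsg.Agent.Omega.NSix.Match
open Cfsg.Agent.Omega.NSix.Base Cfsg.Agent.Omega.NSix.Basic Cfsg.Agent.Omega.NSix.FixApp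
open Cfsg.Agent.Omega.NSix.StabPerm (St)
open Cfsg.Agent.Omega.NSix.MatchApp (fix_all)

universe u

variable {G : Type u} [Group G]

/-- `Y` for `P`, `S`, `V₀`, `V`, `ε`. -/
structure Big (S P V0 V Y : Subgroup G) {m : ℕ} (ε : (Fin (2 ^ m + 1) → ZMod 2) → G) : Prop where
  ev : EvenSet (2 ^ m + 1) V P ε
  fix0 : Fix0 ε S
  le : S ≤ P
  comm : ∀ y ∈ Y, ∀ y' ∈ Y, y * y' = y' * y
  sq : ∀ y ∈ Y, y * y = 1
  ge : V ≤ Y
  nrm : ∀ g ∈ P, ∀ y ∈ Y, g * y * g⁻¹ ∈ Y
  syl : ∀ s ∈ S, s ∈ centralizer (V : Set G) → s ∈ centralizer (Y : Set G)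
  cz : ∀ v ∈ V0, ∀ g ∈ P, g * v = v * g
  fixed : ∀ y ∈ Y, (∀ s ∈ S, s * y = y * s) → ∃ v ∈ V0, y = v ∨ y = v * ε (Pi.single 0 1)

namespace Big

variable {S P V0 V Y : Subgroup G} {m : ℕ} {ε : (Fin (2 ^ m + 1) → ZMod 2) → G} (h : Big S P V0 V Y ε)
include h

theorem inv_nrm {g : G} (hg : g ∈ P) {y : G} (hy : y ∈ Y) : g⁻¹ * y * g ∈ Y := by
  have h1 := h.nrm g⁻¹ (P.inv_mem hg) y hy
  rwa [inv_inv] at h1

/-- `P` acts on `Y`. -/
noncomputable def cjY : P →* MulAut Y where
  toFun g :=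
    { toFun := fun y => ⟨g * y * (g : G)⁻¹, h.nrm g g.2 y y.2⟩
      invFun := fun y => ⟨(g : G)⁻¹ * y * g, h.inv_nrm g.2 y.2⟩
      left_inv := fun y => Subtype.ext (by simp [mul_assoc])
      right_inv := fun y => Subtype.ext (by simp [mul_assoc])
      map_mul' := fun x y => Subtype.ext (by simp [mul_assoc]) }
  map_one' := MulEquiv.ext fun y => Subtype.ext (by simp)
  map_mul' a b := MulEquiv.ext fun y => Subtype.ext (by simp [mul_assoc])

theorem cjY_apply (g : P) (y : Y) : ((h.cjY g y : Y) : G) = g * y * (g : G)⁻¹ := rfl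

/-- `C_P(V)` centralises `Y`. -/
theorem cen [Finite G] (hS2 : ¬ 2 ∣ S.relIndex P) (hS : IsPGroup 2 S) {g : G} (hg : g ∈ P)
    (hgV : g ∈ centralizer (V : Set G)) : g ∈ centralizer (Y : Set G) := by
  have hf : Fact (Nat.Prime 2) := ⟨Nat.prime_two⟩
  letI : CommGroup Y := { (inferInstance : Group Y) with mul_comm := fun a b => Subtype.ext (h.comm a a.2 b b.2) }
  have hVn : P ≤ normalizer (V : Set G) := h.ev.le_normalizer
  let K : Subgroup P := (P ⊓ centralizer (V : Set G)).subgroupOf P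
  have hKn : K.Normal := by
    constructor
    rintro k ⟨-, hk⟩ g
    refine ⟨(g * k * g⁻¹).2, ?_⟩
    replace hk : ∀ v ∈ V, v * (k : G) = k * v := mem_centralizer_iff.mp hk
    change ((g * k * g⁻¹ : P) : G) ∈ centralizer (V : Set G)
    rw [mem_centralizer_iff]
    intro v hv
    have h1 : (g : G)⁻¹ * v * g ∈ V := by
      have := (mem_normalizer_iff.mp (hVn (P.inv_mem g.2)) v).mp hv
      rwa [inv_inv] at this
    have h2 := hk _ h1
    change v * (g * k * (g : G)⁻¹) = g * k * (g : G)⁻¹ * v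
    calc v * (g * k * (g : G)⁻¹) = g * ((g : G)⁻¹ * v * g * k) * (g : G)⁻¹ := by group
      _ = g * (k * ((g : G)⁻¹ * v * g)) * (g : G)⁻¹ := by rw [h2]
      _ = _ := by group
  have hS' : IsPGroup 2 (S.subgroupOf P) := hS.comap_of_injective _ P.subtype_injective
  have hSi : ¬ 2 ∣ (S.subgroupOf P).index := hS2
  have h1 : ¬ 2 ∣ (S.subgroupOf P).relIndex K :=
    Lib.SylowNormalInf.not_dvd_relIndex (hS'.toSylow hSi) K
  have hker : S.subgroupOf P ⊓ K ≤ h.cjY.ker := by
    rintro s ⟨hs, -, hk⟩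
    rw [MonoidHom.mem_ker]
    refine MulEquiv.ext fun y => Subtype.ext ?_
    have h2 := h.syl s hs hk
    rw [mem_centralizer_iff] at h2
    rw [h.cjY_apply, ← h2 y y.2, mul_inv_cancel_right]
    rfl
  have hR : ¬ 2 ∣ Nat.card (K.map h.cjY) := by
    rw [← relIndex_ker]
    intro h2
    apply h1
    rw [← inf_relIndex_right]
    exact h2.trans (relIndex_dvd_of_le_left K hker)
  have key := fix_all (Y := Y) (fun y => Subtype.ext (h.sq y y.2)) (K.map h.cjY)
    ((S.subgroupOf P).map h.cjY) hR (hS'.map _) (by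
      rintro _ ⟨t, -, rfl⟩ _ ⟨r, hr, rfl⟩
      rw [← map_inv, ← map_mul, ← map_mul]
      exact ⟨_, hKn.conj_mem r hr t, rfl⟩) (by
      rintro y hy _ ⟨r, ⟨-, hr⟩, rfl⟩
      have h2 : ∀ s ∈ S, s * (y : G) = y * s := by
        intro s hs
        have h3 := congrArg Subtype.val (hy _ ⟨⟨s, h.le hs⟩, hs, rfl⟩)
        rw [h.cjY_apply] at h3
        change s * (y : G) * s⁻¹ = y at h3
        rw [mul_inv_eq_iff_eq_mul] at h3
        exact h3
      replace hr : ∀ v ∈ V, v * (r : G) = r * v := mem_centralizer_iff.mp hr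
      have h3 : (y : G) * r = r * y := by
        obtain ⟨v, hv, h4 | h4⟩ := h.fixed y y.2 h2
        · rw [h4]
          exact (h.cz v hv r r.2).symm
        · rw [h4]
          calc v * ε (Pi.single 0 1) * r = v * (ε (Pi.single 0 1) * r) := by group
            _ = v * r * ε (Pi.single 0 1) := by rw [hr _ (h.ev.mem _), mul_assoc]
            _ = _ := by rw [← h.cz v hv r r.2, mul_assoc]
      refine Subtype.ext ?_
      rw [h.cjY_apply, ← h3, mul_inv_cancel_right])
  rw [mem_centralizer_iff]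
  intro y hy
  have h2 := congrArg Subtype.val (key _ ⟨⟨g, hg⟩, ⟨hg, hgV⟩, rfl⟩ ⟨y, hy⟩)
  rw [h.cjY_apply] at h2
  change g * y * g⁻¹ = y at h2
  rw [mul_inv_eq_iff_eq_mul] at h2
  exact h2.symm

/-- `x` and `y` induce the same permutation: they act in the same way on `Y`. -/
theorem act_eq [Finite G] (hS2 : ¬ 2 ∣ S.relIndex P) (hS : IsPGroup 2 S) {g k : G} (hg : g ∈ P) (hk : k ∈ P)
    {σ : Equiv.Perm (Fin (2 ^ m + 1))} (hgσ : Acts ε g σ) (hkσ : Acts ε k σ) {y : G} (hy : y ∈ Y) :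
    g * y * g⁻¹ = k * y * k⁻¹ := by
  have h1 := h.cen hS2 hS (P.mul_mem (P.inv_mem hk) hg) (h.ev.mem_centralizer_of_acts hgσ hkσ)
  have h2 := mem_centralizer_iff.mp h1 y hy
  calc g * y * g⁻¹ = k * (k⁻¹ * g * y) * g⁻¹ := by group
    _ = k * (y * (k⁻¹ * g)) * g⁻¹ := by rw [h2]
    _ = _ := by group

end Big

/-! ### The vectors `u_k = Ω - n - k` of `V_n` -/

theorem ind_single {n : ℕ} (i : Fin n) : (ind ({i} : Finset (Fin n))) = Pi.single i 1 := by
  funext k
  by_cases hk : k = i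
  · subst hk
    simp [ind]
  · simp [ind, hk]

/-- `r_ij z_k ∈ V_n` for `k ≠ i, j`: it is the even set `Ω - {i, j, k}`. -/
theorem uu_mem {m : ℕ} {ε : (Fin (2 ^ m + 1) → ZMod 2) → G} {V P : Subgroup G} (hm : 1 ≤ m)
    (h : EvenSet (2 ^ m + 1) V P ε) {i j k : Fin (2 ^ m + 1)} (hij : i ≠ j) (hk : k ≠ i ∧ k ≠ j) :
    rr ε i j * zz ε k ∈ Vn ε i j := by
  classical
  have key : ∀ s : Finset (Fin (2 ^ m + 1)), i ∉ s → j ∉ s →
      ε (ind s + s.card • ind {k}) ∈ Vn ε i j := by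
    intro s
    induction s using Finset.induction_on with
    | empty =>
      intro _ _
      have h1 : (ind (∅ : Finset (Fin (2 ^ m + 1))) + (∅ : Finset (Fin (2 ^ m + 1))).card • ind {k}) = 0 := by
        funext x
        simp [ind]
      rw [h1, h.zero]
      exact one_mem _
    | insert a s ha ih =>
      intro hi hj
      rw [Finset.mem_insert, not_or] at hi hj
      have h1 : (ind (insert a s) + (insert a s).card • ind {k} : Fin (2 ^ m + 1) → ZMod 2) =
          (ind s + s.card • ind {k}) + (ind {a} + ind {k}) := by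
        have h2 : (ind (insert a s) : Fin (2 ^ m + 1) → ZMod 2) = ind s + ind {a} := by
          funext x
          by_cases hx : x = a
          · subst hx
            simp [ind, ha]
          · simp [ind, hx]
        rw [h2, Finset.card_insert_of_notMem ha, add_nsmul, one_nsmul]
        abel
      rw [h1, h.add, h.add (ind {a})]
      refine mul_mem (ih hi.2 hj.2) ?_
      rw [ind_single, ind_single]
      exact rr_mem_Vn ⟨Ne.symm hi.1, Ne.symm hj.1⟩ hk
  have h1 := key ({i, j, k} : Finset (Fin (2 ^ m + 1)))ᶜ (by simp) (by simp)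
  have hc : ({i, j, k} : Finset (Fin (2 ^ m + 1))).card = 3 :=
    Finset.card_eq_three.mpr ⟨i, j, k, hij, hk.1.symm, hk.2.symm, rfl⟩
  have h2 : (({i, j, k} : Finset (Fin (2 ^ m + 1)))ᶜ.card • ind {k} : Fin (2 ^ m + 1) → ZMod 2) = 0 := by
    rw [Finset.card_compl, hc, Fintype.card_fin]
    obtain ⟨l, rfl⟩ : ∃ l, m = l + 1 := ⟨m - 1, by omega⟩
    have h3 : 1 ≤ 2 ^ l := Nat.one_le_two_pow
    have h4 : 2 ^ (l + 1) + 1 - 3 = (2 ^ l - 1) * 2 := by rw [pow_succ]; omega
    rw [h4, mul_nsmul, two_nsmul, add_self]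
  rw [h2, add_zero] at h1
  have h3 : ε (ind ({i, j, k} : Finset (Fin (2 ^ m + 1)))ᶜ) = ε (ind {i, j, k}) := by
    rw [h.eq_iff]
    right
    funext x
    by_cases hx : x ∈ ({i, j, k} : Finset (Fin (2 ^ m + 1)))
    · simp only [ind, Finset.mem_compl, hx, not_true, if_false, if_true, Pi.add_apply, Pi.one_apply]
      decide
    · simp only [ind, Finset.mem_compl, hx, not_false_iff, if_false, if_true, Pi.add_apply, Pi.one_apply, zero_add]
  have h4 : (ind ({i, j, k} : Finset (Fin (2 ^ m + 1))) : Fin (2 ^ m + 1) → ZMod 2) =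
      (Pi.single i 1 + Pi.single j 1) + Pi.single k 1 := by
    rw [← ind_single, ← ind_single, ← ind_single]
    funext x
    have hik := hk.1
    have hjk := hk.2
    by_cases hx1 : x = i
    · subst hx1
      simp [ind, hij, hk.1.symm]
    · by_cases hx2 : x = j
      · subst hx2
        simp [ind, hx1, hk.2.symm]
      · simp [ind, hx1, hx2]
  rw [h3, h4, h.add, h.add] at h1
  exact h1

namespace Big

variable {S P V0 V Y : Subgroup G} {m : ℕ} {ε : (Fin (2 ^ m + 1) → ZMod 2) → G} (h : Big S P V0 V Y ε)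
include h

/-- The matching lemma: an equivariant homomorphism `φ : V_n → Y` is trivial or the inclusion. -/
theorem phi_eq [Finite G] (hm : 2 ≤ m) (hS2 : ¬ 2 ∣ S.relIndex P) (hS : IsPGroup 2 S)
    {i j : Fin (2 ^ m + 1)} (hij : i ≠ j) {φ : G → G} (hφY : ∀ v ∈ Vn ε i j, φ v ∈ Y)
    (hmul : ∀ v ∈ Vn ε i j, ∀ w ∈ Vn ε i j, φ (v * w) = φ v * φ w)
    (heq : ∀ σ ∈ St i j, ∃ g ∈ P, Acts ε g σ ∧ ∀ v ∈ Vn ε i j, φ (g * v * g⁻¹) = g * φ v * g⁻¹) :
    (∀ v ∈ Vn ε i j, φ v = 1) ∨ ∀ v ∈ Vn ε i j, φ v = v := by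
  classical
  have hf : Fact (Nat.Prime 2) := ⟨Nat.prime_two⟩
  have hn : 3 ≤ 2 ^ m + 1 := three_le (by omega)
  letI : CommGroup Y := { (inferInstance : Group Y) with mul_comm := fun a b => Subtype.ext (h.comm a a.2 b b.2) }
  -- the action of the symmetric group
  choose f hfP hfA using h.ev.full
  let act : DistribMulAction (Equiv.Perm (Fin (2 ^ m + 1))) (Additive Y) :=
    { smul := fun σ y => Additive.ofMul ⟨f σ * (y.toMul : G) * (f σ)⁻¹, h.nrm _ (hfP σ) _ y.toMul.2⟩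
      one_smul := fun y => by
        refine congrArg Additive.ofMul (Subtype.ext ?_)
        have h1 := h.act_eq hS2 hS (hfP 1) P.one_mem (hfA 1) Acts.one y.toMul.2
        rw [one_mul, inv_one, mul_one] at h1
        exact h1
      mul_smul := fun σ τ y => by
        refine congrArg Additive.ofMul (Subtype.ext ?_)
        have h1 := h.act_eq hS2 hS (hfP (σ * τ)) (P.mul_mem (hfP σ) (hfP τ)) (hfA (σ * τ))
          ((hfA σ).mul (hfA τ)) y.toMul.2
        refine h1.trans ?_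
        change f σ * f τ * (y.toMul : G) * (f σ * f τ)⁻¹ = f σ * (f τ * (y.toMul : G) * (f τ)⁻¹) * (f σ)⁻¹
        group
      smul_zero := fun σ => by
        refine congrArg Additive.ofMul (Subtype.ext ?_)
        change f σ * (1 : G) * (f σ)⁻¹ = 1
        group
      smul_add := fun σ x y => by
        refine congrArg Additive.ofMul (Subtype.ext ?_)
        change f σ * ((x.toMul : G) * (y.toMul : G)) * (f σ)⁻¹ =
          f σ * (x.toMul : G) * (f σ)⁻¹ * (f σ * (y.toMul : G) * (f σ)⁻¹)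
        group }
  have hact : ∀ (σ : Equiv.Perm (Fin (2 ^ m + 1))) (y : Additive Y),
      (((σ • y).toMul : Y) : G) = f σ * (y.toMul : G) * (f σ)⁻¹ := fun _ _ => rfl
  let ι : (Fin (2 ^ m + 1) → ZMod 2) → Additive Y := fun v => Additive.ofMul ⟨ε v, h.ge (h.ev.mem v)⟩
  have hι : ∀ v, (((ι v).toMul : Y) : G) = ε v := fun _ => rfl
  have hext : ∀ {x y : Additive Y}, ((x.toMul : Y) : G) = ((y.toMul : Y) : G) → x = y := by
    intro x y hxy
    exact congrArg Additive.ofMul (Subtype.ext hxy)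
  have hM : Mod ι :=
    { two := fun y => hext (h.sq _ y.toMul.2)
      add := fun u v => hext (h.ev.add u v)
      act := fun σ v => hext ((hfA σ) v)
      ker := fun v => by
        rw [← h.ev.ker v]
        exact ⟨fun h1 => congrArg (fun w : Additive Y => (w.toMul : G)) h1, fun h1 => hext h1⟩ }
  -- the Sylow 2-subgroup
  let π := h.ev.hom hn
  have hS' : IsPGroup 2 ((S.subgroupOf P).map π) := (hS.comap_of_injective _ P.subtype_injective).map _
  have hSi : ¬ 2 ∣ ((S.subgroupOf P).map π).index :=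
    fun h2 => hS2 (h2.trans (index_map_dvd _ (h.ev.hom_surjective hn)))
  have hFix : F4Leaf.Match.FixS ((hS'.toSylow hSi : Sylow 2 _) : Subgroup (Equiv.Perm (Fin (2 ^ m + 1)))) ι := by
    intro o ho y hy
    have ho0 : o = 0 := by
      by_contra hne
      have hcard : ({0, o} : Finset (Fin (2 ^ m + 1))).card < (Finset.univ : Finset (Fin (2 ^ m + 1))).card := by
        rw [Finset.card_univ, Fintype.card_fin]
        exact lt_of_le_of_lt Finset.card_le_two (by omega)
      obtain ⟨j, -, hj⟩ := Finset.exists_mem_notMem_of_card_lt_card hcard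
      simp only [Finset.mem_insert, Finset.mem_singleton, not_or] at hj
      obtain ⟨s, hs, σ, hσ, hσo⟩ := trans (by omega) h.ev h.le hS2 h.fix0 hne hj.1
      have h4 : σ ∈ (((hS'.toSylow hSi : Sylow 2 _)) : Subgroup (Equiv.Perm (Fin (2 ^ m + 1)))) :=
        ⟨⟨s, h.le hs⟩, hs, h.ev.hom_eq hn hσ⟩
      rw [ho σ h4] at hσo
      exact hj.2 hσo.symm
    subst ho0
    have h1 : ∀ s ∈ S, s * ((y.toMul : Y) : G) = (y.toMul : Y) * s := by
      intro s hs
      obtain ⟨σ, hσ⟩ := h.ev.perm s (h.le hs)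
      have h4 : σ ∈ (((hS'.toSylow hSi : Sylow 2 _)) : Subgroup (Equiv.Perm (Fin (2 ^ m + 1)))) :=
        ⟨⟨s, h.le hs⟩, hs, h.ev.hom_eq hn hσ⟩
      have h5 := congrArg (fun w : Additive Y => (w.toMul : G)) (hy σ h4)
      change f σ * ((y.toMul : Y) : G) * (f σ)⁻¹ = _ at h5
      rw [h.act_eq hS2 hS (hfP σ) (h.le hs) (hfA σ) hσ y.toMul.2, mul_inv_eq_iff_eq_mul] at h5
      exact h5
    rw [ind_single]
    obtain ⟨v, hv, h2⟩ := h.fixed _ y.toMul.2 h1
    have hvY : v ∈ Y := by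
      rcases h2 with h2 | h2
      · rw [← h2]
        exact y.toMul.2
      · have h3 : v = ((y.toMul : Y) : G) * ε (Pi.single 0 1) := by
          rw [h2, mul_assoc, h.ev.sq, mul_one]
        rw [h3]
        exact Y.mul_mem y.toMul.2 (h.ge (h.ev.mem _))
    refine ⟨Additive.ofMul ⟨v, hvY⟩, fun σ => hext ?_, ?_⟩
    · rw [hact]
      change f σ * v * (f σ)⁻¹ = v
      rw [h.cz v hv _ (hfP σ), mul_inv_cancel_right]
    · rcases h2 with h2 | h2
      · exact Or.inl (hext h2)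
      · exact Or.inr (hext h2)
  -- the vectors `u_k`
  let e : Finset (Fin (2 ^ m + 1)) := {i, j}
  have hne : ∀ {k}, k ∉ e → k ≠ i ∧ k ≠ j := by
    intro k hk
    simpa [e] using hk
  have hecard : e.card = 2 := Finset.card_pair hij
  letI : CommGroup (Vn ε i j) := { (inferInstance : Group (Vn ε i j)) with
    mul_comm := fun a b => Subtype.ext (h.ev.comm_mem (Vn_le h.ev a.2) (Vn_le h.ev b.2)) }
  let J : Additive (Vn ε i j) →+ Additive Y := MonoidHom.toAdditive (Subgroup.inclusion ((Vn_le h.ev).trans h.ge))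
  let Φ : Additive (Vn ε i j) →+ Additive Y := MonoidHom.toAdditive (MonoidHom.mk'
    (fun v : Vn ε i j => (⟨φ v, hφY v v.2⟩ : Y)) fun a b => Subtype.ext (hmul a a.2 b b.2))
  have hJinj : Function.Injective J := fun a b hab => by
    have h1 : (((J a).toMul : Y) : G) = ((J b).toMul : Y) := by rw [hab]
    exact congrArg Additive.ofMul (Subtype.ext h1)
  let U : Fin (2 ^ m + 1) → Additive (Vn ε i j) := fun k =>
    if hk : k ∉ e then Additive.ofMul ⟨rr ε i j * zz ε k, uu_mem (by omega) h.ev hij (hne hk)⟩ else 0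
  have hU : ∀ k, k ∉ e → (((U k).toMul : Vn ε i j) : G) = rr ε i j * zz ε k := by
    intro k hk
    have h1 : U k = Additive.ofMul ⟨rr ε i j * zz ε k, uu_mem (by omega) h.ev hij (hne hk)⟩ := dif_pos hk
    rw [h1]
    rfl
  have hJU : ∀ k, k ∉ e → J (U k) = ι (ind e) + ι (ind {k}) := by
    intro k hk
    refine hext ?_
    change (((U k).toMul : Vn ε i j) : G) = ε (ind e) * ε (ind {k})
    have h1 : (ind e : Fin (2 ^ m + 1) → ZMod 2) = Pi.single i 1 + Pi.single j 1 := by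
      rw [← ind_single, ← ind_single]
      funext x
      by_cases h1 : x = i
      · subst h1
        simp [ind, e, hij]
      · by_cases h2 : x = j
        · subst h2
          simp [ind, e, h1]
        · simp [ind, e, h1, h2]
    rw [hU k hk, h1, h.ev.add, ind_single]
    rfl
  have hsumU : ∑ k ∈ eᶜ, U k = 0 := by
    apply hJinj
    rw [map_sum, map_zero, Finset.sum_congr rfl (fun k hk => hJU k (Finset.mem_compl.mp hk)),
      Finset.sum_add_distrib, Finset.sum_const, F4Leaf.Match.sum_ind hM, F4Leaf.Match.ind_compl hM,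
      NSix.MatchP.odd_nsmul hM.two, hM.two]
    rw [Finset.card_compl, hecard, Fintype.card_fin]
    obtain ⟨k, rfl⟩ : ∃ k, m = k + 1 := ⟨m - 1, by omega⟩
    have h1 : 1 ≤ 2 ^ k := Nat.one_le_two_pow
    exact ⟨2 ^ k - 1, by rw [pow_succ]; omega⟩
  have hmain := F4Leaf.Match.matching_lemma hM hm (by rw [Fintype.card_fin]) (hS'.toSylow hSi) hFix hecard
    (f := fun k => Φ (U k)) (by
      intro σ hσ k hk
      have hσi : σ i ∈ e := by
        rw [← hσ]
        exact Finset.smul_mem_smul_finset (by simp [e])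
      have hσj : σ j ∈ e := by
        rw [← hσ]
        exact Finset.smul_mem_smul_finset (by simp [e])
      have hσk : σ k ∉ e := fun h0 => hk (by
        rw [← hσ] at h0
        exact (Finset.smul_mem_smul_finset_iff σ).mp h0)
      have hSt : σ ∈ St i j := by
        have h1 : σ i = i ∨ σ i = j := by simpa [e] using hσi
        have h2 : σ j = i ∨ σ j = j := by simpa [e] using hσj
        have h3 : σ i ≠ σ j := σ.injective.ne hij
        rcases h1 with h1 | h1 <;> rcases h2 with h2 | h2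
        · exact absurd (h1.trans h2.symm) h3
        · exact Or.inl ⟨h1, h2⟩
        · exact Or.inr ⟨h1, h2⟩
        · exact absurd (h1.trans h2.symm) h3
      obtain ⟨g, hg, hgσ, hg2⟩ := heq σ hSt
      refine hext ?_
      rw [hact]
      change f σ * φ (((U k).toMul : Vn ε i j) : G) * (f σ)⁻¹ = φ (((U (σ k)).toMul : Vn ε i j) : G)
      rw [hU k hk, hU _ hσk, h.act_eq hS2 hS (hfP σ) hg (hfA σ) hgσ (hφY _ (uu_mem (by omega) h.ev hij (hne hk))),
        ← hg2 _ (uu_mem (by omega) h.ev hij (hne hk))]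
      congr 1
      have h1 : g * (rr ε i j * zz ε k) * g⁻¹ = (g * rr ε i j * g⁻¹) * (g * zz ε k * g⁻¹) := by group
      rw [h1, rr_conj hgσ, zz_conj hgσ]
      rcases hSt with ⟨h2, h3⟩ | ⟨h2, h3⟩
      · rw [h2, h3]
      · rw [h2, h3, rr_symm h.ev]) (by
      rw [← map_sum, hsumU, map_zero])
  have hgen : ∀ k l, (k ≠ i ∧ k ≠ j) → (l ≠ i ∧ l ≠ j) →
      rr ε k l = (rr ε i j * zz ε k) * (rr ε i j * zz ε l) := by
    intro k l _ _
    have h1 : zz ε k * rr ε i j = rr ε i j * zz ε k := h.ev.comm_mem (zz_mem h.ev k) (rr_mem h.ev i j)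
    calc rr ε k l = zz ε k * zz ε l := rfl
      _ = (rr ε i j * rr ε i j) * zz ε k * zz ε l := by rw [rr_sq h.ev, one_mul]
      _ = rr ε i j * (rr ε i j * zz ε k) * zz ε l := by group
      _ = rr ε i j * (zz ε k * rr ε i j) * zz ε l := by rw [h1]
      _ = _ := by group
  have hφ1 : φ 1 = 1 := by
    have h5 := hmul 1 (one_mem _) 1 (one_mem _)
    rw [one_mul] at h5
    exact mul_eq_left.mp h5.symm
  have hnot : ∀ {k}, (k ≠ i ∧ k ≠ j) → k ∉ e := by
    intro k hk
    simpa [e] using hk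
  rcases hmain with h1 | h1
  · left
    have h2 : ∀ k, (k ≠ i ∧ k ≠ j) → φ (rr ε i j * zz ε k) = 1 := by
      intro k hk
      have h3 := congrArg (fun w : Additive Y => (w.toMul : G)) (h1 k (hnot hk))
      change φ (((U k).toMul : Vn ε i j) : G) = 1 at h3
      rwa [hU k (hnot hk)] at h3
    intro v hv
    unfold Vn at hv
    induction hv using closure_induction with
    | mem x hx =>
      obtain ⟨k, l, hk, hl, rfl⟩ := hx
      rw [hgen k l hk hl, hmul _ (uu_mem (by omega) h.ev hij hk) _ (uu_mem (by omega) h.ev hij hl), h2 k hk, h2 l hl,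
        one_mul]
    | one => exact hφ1
    | mul x y hx' hy' hx hy => rw [hmul x hx' y hy', hx, hy, one_mul]
    | inv x hx' hx =>
      have h9 := hmul x hx' x⁻¹ (inv_mem hx')
      rw [mul_inv_cancel, hφ1, hx, one_mul] at h9
      exact h9.symm
  · right
    have h2 : ∀ k, (k ≠ i ∧ k ≠ j) → φ (rr ε i j * zz ε k) = rr ε i j * zz ε k := by
      intro k hk
      have h4 : Φ (U k) = J (U k) := (h1 k (hnot hk)).trans (hJU k (hnot hk)).symm
      have h3 := congrArg (fun w : Additive Y => (w.toMul : G)) h4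
      change φ (((U k).toMul : Vn ε i j) : G) = (((U k).toMul : Vn ε i j) : G) at h3
      rwa [hU k (hnot hk)] at h3
    intro v hv
    unfold Vn at hv
    induction hv using closure_induction with
    | mem x hx =>
      obtain ⟨k, l, hk, hl, rfl⟩ := hx
      rw [hgen k l hk hl, hmul _ (uu_mem (by omega) h.ev hij hk) _ (uu_mem (by omega) h.ev hij hl), h2 k hk, h2 l hl]
    | one => exact hφ1
    | mul x y hx' hy' hx hy => rw [hmul x hx' y hy', hx, hy]
    | inv x hx' hx =>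
      have h9 := hmul x hx' x⁻¹ (inv_mem hx')
      rw [mul_inv_cancel, hφ1, hx] at h9
      exact (eq_inv_of_mul_eq_one_right h9.symm)

end Big

/-! ### `V_n ≤ Z(O₂(C_G(n)))` -/

open Cfsg.Agent.ZN (o2 zc zl)
open Cfsg.Agent.MinSimple.VModule (o2_le o2_isPGroup le_normalizer_o2 mem_zc)
open Cfsg.Agent.MinSimple.Geo (inf_centralizer_o2_le isTwoLocal_centralizer)
open Cfsg.Agent.Omega.MinPar

/-- `O₂` of a conjugate -/
theorem o2_NN_conj {n : ℕ} {ε : (Fin n → ZMod 2) → G} {g x : G} {σ : Equiv.Perm (Fin n)} (hg : Acts ε g σ)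
    {i j : Fin n} (hx : x ∈ o2 (NN ε i j)) : g * x * g⁻¹ ∈ o2 (NN ε (σ i) (σ j)) := by
  have hback : ∀ y ∈ NN ε (σ i) (σ j), g⁻¹ * y * g ∈ NN ε i j := by
    intro y hy
    have h1 := conj_NN hg.inv hy
    have e : ∀ m, σ⁻¹ (σ m) = m := fun m => σ.symm_apply_apply m
    rwa [e, e, inv_inv] at h1
  have h3 : (o2 (NN ε i j)).map (MulAut.conj g).toMonoidHom ≤ o2 (NN ε (σ i) (σ j)) := by
    apply MinSimple.VModule.le_o2
    · rintro _ ⟨y, hy, rfl⟩
      exact conj_NN hg (o2_le _ hy)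
    · exact (o2_isPGroup _).map _
    · have key : ∀ l ∈ NN ε (σ i) (σ j), ∀ y ∈ (o2 (NN ε i j)).map (MulAut.conj g).toMonoidHom,
          l * y * l⁻¹ ∈ (o2 (NN ε i j)).map (MulAut.conj g).toMonoidHom := by
        rintro l hl _ ⟨y, hy, rfl⟩
        refine ⟨(g⁻¹ * l * g) * y * (g⁻¹ * l * g)⁻¹,
          (mem_normalizer_iff.mp (le_normalizer_o2 _ (hback l hl)) y).mp hy, ?_⟩
        change g * ((g⁻¹ * l * g) * y * (g⁻¹ * l * g)⁻¹) * g⁻¹ = l * (g * y * g⁻¹) * l⁻¹
        group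
      intro l hl
      rw [mem_normalizer_iff]
      refine fun y => ⟨key l hl y, fun hy => ?_⟩
      have := key l⁻¹ (inv_mem hl) _ hy
      have h3 : l⁻¹ * (l * y * l⁻¹) * l⁻¹⁻¹ = y := by group
      rwa [h3] at this
  exact h3 ⟨x, hx, rfl⟩

/-- `S` induces a transposition. -/
theorem exists_swap [Finite G] {m : ℕ} (hm : 1 ≤ m) {V P : Subgroup G} {ε : (Fin (2 ^ m + 1) → ZMod 2) → G}
    (h : EvenSet (2 ^ m + 1) V P ε) {S : Subgroup G} (hSP : S ≤ P) (hS2 : ¬ 2 ∣ S.relIndex P)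
    (hS : IsPGroup 2 S) : ∃ i j, i ≠ j ∧ ∃ a ∈ S, Acts ε a (Equiv.swap i j) := by
  have hf : Fact (Nat.Prime 2) := ⟨Nat.prime_two⟩
  have hn : 3 ≤ 2 ^ m + 1 := three_le hm
  let π := h.hom hn
  have hS' : IsPGroup 2 ((S.subgroupOf P).map π) := (hS.comap_of_injective _ P.subtype_injective).map _
  have hSi : ¬ 2 ∣ ((S.subgroupOf P).map π).index :=
    fun h2 => hS2 (h2.trans (index_map_dvd _ (h.hom_surjective hn)))
  let i0 : Fin (2 ^ m + 1) := ⟨0, by omega⟩
  let i1 : Fin (2 ^ m + 1) := ⟨1, by omega⟩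
  have h01 : i0 ≠ i1 := by
    intro h1
    have := congrArg Fin.val h1
    simp [i0, i1] at this
  have hp : IsPGroup 2 (zpowers (Equiv.swap i0 i1)) := by
    rw [IsPGroup.iff_card]
    refine ⟨1, ?_⟩
    rw [Nat.card_zpowers, pow_one]
    refine orderOf_eq_prime ?_ ?_
    · rw [pow_two, Equiv.swap_mul_self]
    · rw [Ne, Equiv.swap_eq_one_iff]
      exact h01
  obtain ⟨R, hR⟩ := hp.exists_le_sylow
  obtain ⟨g, hg⟩ := MulAction.exists_smul_eq (Equiv.Perm (Fin (2 ^ m + 1))) R (hS'.toSylow hSi)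
  have h1 : g * Equiv.swap i0 i1 * g⁻¹ ∈ ((hS'.toSylow hSi : Sylow 2 _) : Subgroup (Equiv.Perm (Fin (2 ^ m + 1)))) := by
    rw [← hg, Sylow.coe_subgroup_smul]
    exact Subgroup.smul_mem_pointwise_smul _ (MulAut.conj g) _ (hR (mem_zpowers _))
  rw [← Equiv.swap_apply_apply] at h1
  obtain ⟨s, hs, hs2⟩ := h1
  refine ⟨g i0, g i1, g.injective.ne h01, (s : G), hs, ?_⟩
  rw [← hs2]
  exact h.acts_hom hn s

/-- **`V_n ≤ Z(O₂(C_G(n)))`**, with `V₀`. -/
theorem Vn_cen [Finite G] (hG : IsCharacteristicTwoType G) (S : Sylow 2 G) {P A V0 : Subgroup G} {m : ℕ} (hm : 2 ≤ m)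
    {ε : (Fin (2 ^ m + 1) → ZMod 2) → G} (h : EvenSet (2 ^ m + 1) A P ε) (hP : IsParS (S : Subgroup G) P)
    (h0 : Fix0 ε (S : Subgroup G)) (hV0 : ∀ v ∈ V0, ∀ g ∈ P, g * v = v * g)
    (hV : ∀ v ∈ zl (S : Subgroup G) P, ∃ c ∈ V0, ∃ a ∈ A, v = c * a) (hA : A ≤ zl (S : Subgroup G) P)
    {i j : Fin (2 ^ m + 1)} (hij : i ≠ j) {v : G} (hv : v ∈ Vn ε i j) :
    v ∈ o2 (NN ε i j) ∧ ∀ x ∈ o2 (NN ε i j), v * x = x * v := by
  have hf : Fact (Nat.Prime 2) := ⟨Nat.prime_two⟩
  have hn : 3 ≤ 2 ^ m + 1 := three_le (by omega)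
  have hSP : (S : Subgroup G) ≤ P := hP.le
  have hS2 : ¬ 2 ∣ (S : Subgroup G).relIndex P := MinSimple.Basic.not_dvd_relIndex S hSP
  have hinf := hP.inf_centralizer S hG
  have hQS : o2 P ≤ (S : Subgroup G) := by
    rw [← hinf]
    exact inf_le_left
  have hQz : o2 P ≤ centralizer (zl (S : Subgroup G) P : Set G) := by
    rw [← hinf]
    exact inf_le_right
  -- `C_G(O₂(P)) ≤ O₂(P)`
  have hQc : ∀ g : G, (∀ q ∈ o2 P, g * q = q * g) → g ∈ o2 P := by
    intro g hg
    have h1 := hP.isLoc.normalizer_o2 S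
    have h2 : o2 (normalizer (o2 P : Set G)) ≤ o2 P := o2_le_o2 S hSP (le_normalizer_o2 P)
    have h3 : g ∈ centralizer (o2 P : Set G) := mem_centralizer_iff.mpr fun q hq => (hg q hq).symm
    have h4 : g ∈ centralizer (o2 (normalizer (o2 P : Set G)) : Set G) :=
      mem_centralizer_iff.mpr fun q hq => (hg q (h2 hq)).symm
    exact h2 (h1.char2 S hG ⟨centralizer_le_normalizer _ h3, h4⟩)
  have hSA : ∀ s ∈ (S : Subgroup G), s ∈ centralizer (A : Set G) → s ∈ o2 P := by
    intro s hs hsA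
    rw [← hinf]
    refine ⟨hs, mem_centralizer_iff.mpr fun v hv => ?_⟩
    obtain ⟨c, hc, a, ha, rfl⟩ := hV v hv
    have h1 := mem_centralizer_iff.mp hsA a ha
    calc c * a * s = c * (a * s) := by group
      _ = c * s * a := by rw [h1, mul_assoc]
      _ = s * (c * a) := by rw [← hV0 c hc s (hSP hs), mul_assoc]
  have hB : Big (S : Subgroup G) P V0 A (zc (o2 P)) ε :=
    { ev := h
      fix0 := h0
      le := hSP
      comm := fun y hy y' hy' => (mem_zc.mp hy').2.1 y (mem_zc.mp hy).1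
      sq := fun y hy => by rw [← pow_two]; exact (mem_zc.mp hy).2.2
      ge := hA.trans (hP.isLoc.zl_le S hG)
      nrm := fun g hg y hy => (mem_normalizer_iff.mp
        (MinSimple.VModule.normalizer_le_normalizer_zc _ (le_normalizer_o2 P hg)) y).mp hy
      syl := fun s hs hsA => by
        rw [mem_centralizer_iff]
        intro y hy
        exact ((mem_zc.mp hy).2.1 s (hSA s hs hsA)).symm
      cz := hV0
      fixed := fun y hy hys => by
        have h1 : y ∈ zc (S : Subgroup G) := mem_zc.mpr ⟨hQS (mem_zc.mp hy).1, hys, (mem_zc.mp hy).2.2⟩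
        obtain ⟨c, hc, a, ha, rfl⟩ := hV y (MinSimple.VModule.zc_le_zl _ _ h1)
        refine ⟨c, hc, ?_⟩
        have h2 : ∀ s ∈ (S : Subgroup G), s * a = a * s := by
          intro s hs
          have h3 := hys s hs
          have h4 := hV0 c hc s (hSP hs)
          have h5 : c * (s * a) = c * (a * s) := by
            calc c * (s * a) = s * (c * a) := by rw [← mul_assoc, ← h4, mul_assoc]
              _ = c * (a * s) := by rw [h3, mul_assoc]
          exact mul_left_cancel h5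
        rcases fixed (by omega) h hSP hS2 h0 ha h2 with h3 | h3
        · left
          rw [h3, mul_one]
        · right
          rw [h3] }
  -- a pair whose transposition is induced by `S`
  obtain ⟨i0, j0, hij0, hsw⟩ := exists_swap (by omega) h hSP hS2 S.isPGroup'
  have hyp : NSix.CosetAct.Hyp A P (S : Subgroup G) (o2 (NN ε i0 j0)) ε i0 j0 :=
    { even := h
      VP := hA.trans ((hP.isLoc.zl_le S hG).trans ((MinSimple.VModule.zc_le _).trans (hQS.trans hSP)))
      two_le := hm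
      le := hSP
      isP := S.isPGroup'
      max := fun T hT => by
        obtain ⟨R, hR⟩ := hT.exists_le_sylow
        have h1 : Nat.card (R : Subgroup G) = Nat.card (S : Subgroup G) := by
          rw [R.card_eq_multiplicity, S.card_eq_multiplicity]
        rw [← h1]
        exact Subgroup.card_le_of_le hR
      fix0 := h0
      ne := hij0
      swap := hsw
      isPW := o2_isPGroup _
      leW := o2_le _
      norm := le_normalizer_o2 _ }
  have hr2 : rr ε i0 j0 * rr ε i0 j0 = 1 := rr_sq h i0 j0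
  have hr1 : rr ε i0 j0 ≠ 1 := rr_ne_one h hn hij0
  have hWc : ∀ g ∈ NN ε i0 j0, (∀ w ∈ o2 (NN ε i0 j0), g * w = w * g) → g ∈ o2 (NN ε i0 j0) := by
    intro g hg hgw
    exact inf_centralizer_o2_le hG (isTwoLocal_centralizer hr2 hr1)
      ⟨hg, mem_centralizer_iff.mpr fun w hw => (hgw w hw).symm⟩
  obtain ⟨φ, f1, f2, f3, f4⟩ := exists_phi hyp hWc (Q := o2 P) (o2_le P) (o2_isPGroup P)
    (hQz.trans (centralizer_le hA)) hQc
  have hmain := hB.phi_eq hm hS2 S.isPGroup' hij0 (φ := φ) (fun v hv => by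
      obtain ⟨-, -, h3, h4, h5⟩ := f3 v hv
      refine mem_zc.mpr ⟨h3, fun b hb => (h4 b hb).symm, ?_⟩
      rw [pow_two]
      exact h5) f1 (fun σ hσ => by
      obtain ⟨g, hg, hgσ, h3⟩ := f4 σ hσ
      exact ⟨g, hg.1, hgσ, fun v hv => (h3 v hv).2⟩)
  have hid : ∀ v ∈ Vn ε i0 j0, φ v = v := by
    rcases hmain with h1 | h1
    · exfalso
      obtain ⟨k, hk, -, -⟩ := hyp.exists_third i0 j0
      obtain ⟨l, hl, hlk, -⟩ := hyp.exists_third k k
      exact rr_ne_one h hn hlk.symm (f2 _ (rr_mem_Vn hk hl) (h1 _ (rr_mem_Vn hk hl)))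
    · exact h1
  have hcen : ∀ v ∈ Vn ε i0 j0, v ∈ o2 (NN ε i0 j0) ∧ ∀ x ∈ o2 (NN ε i0 j0), v * x = x * v := by
    intro v hv
    obtain ⟨h1, h2, -, -, -⟩ := f3 v hv
    rw [hid v hv] at h1 h2
    exact ⟨h1, h2⟩
  -- all pairs
  obtain ⟨σ, h1, h2, -⟩ := NSix.Basic.exists_perm hij hij0
  obtain ⟨g, hg, hσ⟩ := h.full σ
  have hgv : g * v * g⁻¹ ∈ Vn ε i0 j0 := by
    have key : ∀ v ∈ Vn ε i j, g * v * g⁻¹ ∈ Vn ε (σ i) (σ j) := by
      intro v hv
      unfold Vn at hv
      induction hv using closure_induction with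
      | mem x hx =>
        obtain ⟨k, l, hk, hl, rfl⟩ := hx
        rw [rr_conj hσ]
        exact rr_mem_Vn ⟨σ.injective.ne hk.1, σ.injective.ne hk.2⟩ ⟨σ.injective.ne hl.1, σ.injective.ne hl.2⟩
      | one =>
        rw [mul_one, mul_inv_cancel]
        exact one_mem _
      | mul x y _ _ hx hy =>
        have : g * (x * y) * g⁻¹ = (g * x * g⁻¹) * (g * y * g⁻¹) := by group
        rw [this]
        exact mul_mem hx hy
      | inv x _ hx =>
        have : g * x⁻¹ * g⁻¹ = (g * x * g⁻¹)⁻¹ := by group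
        rw [this]
        exact inv_mem hx
    have h3 := key v hv
    rwa [h1, h2] at h3
  have hback : ∀ x ∈ o2 (NN ε i0 j0), g⁻¹ * x * g ∈ o2 (NN ε i j) := by
    intro x hx
    have h3 := o2_NN_conj hσ.inv hx
    have h4 : σ⁻¹ i0 = i := by rw [← h1]; exact σ.symm_apply_apply i
    have h5 : σ⁻¹ j0 = j := by rw [← h2]; exact σ.symm_apply_apply j
    rwa [h4, h5, inv_inv] at h3
  obtain ⟨h3, h4⟩ := hcen _ hgv
  refine ⟨?_, fun x hx => ?_⟩
  · have h5 := hback _ h3
    have h6 : g⁻¹ * (g * v * g⁻¹) * g = v := by group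
    rwa [h6] at h5
  · have h5 := o2_NN_conj hσ hx
    rw [h1, h2] at h5
    have h6 := h4 _ h5
    calc v * x = g⁻¹ * ((g * v * g⁻¹) * (g * x * g⁻¹)) * g := by group
      _ = g⁻¹ * ((g * x * g⁻¹) * (g * v * g⁻¹)) * g := by rw [h6]
      _ = x * v := by group

end Cfsg.Agent.Omega.F4Leaf.App
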