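import Cfsg.Agent.Omega.F4Leaf.Pos
import Cfsg.Agent.Omega.S5.SymBig
import Cfsg.Agent.Omega.NSix.Free.End

/-!
# LeafF4, `m ≥ 3`: the member in the form `Free.SixF`, the facts on the partner (#18458, helper300)

* `Fac A P ε` : `A` an even-subset module for `P` (degree `n`), `A ≤ O₂(C_G(r))`, `[A, O₂(C_G(r))] ≤ ⟨r⟩`, the pairs
  off `i`, `j` and their `C_G(r_ij)`-conjugates are in `Z(O₂(C_G(r_ij)))`, `O₂(C_G(r_ij))` acts on `A` as `⟨(i j)⟩`;
* `Sit.fac`, `Fac.conj`;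
* `Fac.sixF` : (H2) and an element of some `WP ε i j` which moves `A` imply `SixF A P ε (WP ε)`;
* `Fac.false` : no partner of type `T` which meets a `SixF`.
-/

set_option autoImplicit false

namespace Cfsg.Agent.Omega.F4Leaf.Facts

open Subgroup Pointwise Cfsg Cfsg.Agent Cfsg.Agent.Omega.MinPar
open Cfsg.Agent.ZN (o2 zc zl)
open Cfsg.Agent.ZN.ChoiceBase (cj mem_cj)
open Cfsg.Agent.Omega.S5.Def Cfsg.Agent.Omega.S5.Syl
open Cfsg.Agent.Omega.S5.SymBig (H2 rr_cj NN_cj)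
open Cfsg.Agent.Omega.NSix.Base Cfsg.Agent.Omega.NSix.Basic Cfsg.Agent.Omega.NSix.FixApp
open Cfsg.Agent.Omega.NSix.Zero (WP mem_WP WP_norm WP_conj zpow_cases)
open Cfsg.Agent.Omega.NSix.Free
open Cfsg.Agent.MinSimple.VModule (o2_isPGroup o2_le le_normalizer_o2)

universe u

variable {G : Type u} [Group G]

/-- the facts on a member of type `S_n` (any `V₀`), used by the END -/
structure Fac {n : ℕ} (A P : Subgroup G) (ε : (Fin n → ZMod 2) → G) : Prop where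
  ev : EvenSet n A P ε
  le : ∀ i j, i ≠ j → A ≤ o2 (NN ε i j)
  conj_A : ∀ i j, i ≠ j → ∀ x ∈ o2 (NN ε i j), ∀ v ∈ A, x * v * x⁻¹ = v ∨ x * v * x⁻¹ = v * rr ε i j
  act : ∀ i j, i ≠ j → ∀ x ∈ o2 (NN ε i j), Acts ε x 1 ∨ Acts ε x (Equiv.swap i j)
  cen : ∀ i j, i ≠ j → ∀ k l, k ≠ i → k ≠ j → l ≠ i → l ≠ j → ∀ f ∈ NN ε i j, ∀ x ∈ o2 (NN ε i j),
    f * rr ε k l * f⁻¹ * x = x * (f * rr ε k l * f⁻¹)

theorem o2_NN_cj [Finite G] {n : ℕ} (ε : (Fin n → ZMod 2) → G) (y : G) (i j : Fin n) :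
    o2 (NN (fun x => y * ε x * y⁻¹) i j) = cj y (o2 (NN ε i j)) := by
  rw [NN_cj, ZN.ChoiceSit.o2_cj]

theorem Fac.conj [Finite G] {n : ℕ} {A P : Subgroup G} {ε : (Fin n → ZMod 2) → G} (h : Fac A P ε) (y : G) :
    Fac (cj y A) (cj y P) (fun x => y * ε x * y⁻¹) where
  ev := h.ev.conj y
  le i j hij x hx := by
    rw [o2_NN_cj, mem_cj]
    exact h.le i j hij (mem_cj.mp hx)
  conj_A i j hij x hx v hv := by
    rw [o2_NN_cj, mem_cj] at hx
    rw [mem_cj] at hv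
    rw [rr_cj]
    rcases h.conj_A i j hij _ hx _ hv with h1 | h1
    · left
      calc x * v * x⁻¹ = y * (y⁻¹ * x * y * (y⁻¹ * v * y) * (y⁻¹ * x * y)⁻¹) * y⁻¹ := by group
        _ = v := by rw [h1]; group
    · right
      calc x * v * x⁻¹ = y * (y⁻¹ * x * y * (y⁻¹ * v * y) * (y⁻¹ * x * y)⁻¹) * y⁻¹ := by group
        _ = _ := by rw [h1]; group
  act i j hij x hx := by
    rw [o2_NN_cj, mem_cj] at hx
    have e : y * (y⁻¹ * x * y) * y⁻¹ = x := by group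
    rw [← e, acts_conj_label_iff, acts_conj_label_iff]
    exact h.act i j hij _ hx
  cen i j hij k l k1 k2 l1 l2 f hf x hx := by
    rw [o2_NN_cj, mem_cj] at hx
    rw [NN_cj, mem_cj] at hf
    rw [rr_cj]
    have h1 := h.cen i j hij k l k1 k2 l1 l2 _ hf _ hx
    calc f * (y * rr ε k l * y⁻¹) * f⁻¹ * x
        = y * (y⁻¹ * f * y * rr ε k l * (y⁻¹ * f * y)⁻¹ * (y⁻¹ * x * y)) * y⁻¹ := by group
      _ = _ := by rw [h1]; group

/-- the facts hold in `Pos.Sit` -/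
theorem _root_.Cfsg.Agent.Omega.F4Leaf.Pos.Sit.fac [Finite G] {S : Sylow 2 G} {P : Subgroup G} {m : ℕ}
    {A : Subgroup G} {ε : (Fin (2 ^ m + 1) → ZMod 2) → G} (h : Pos.Sit S P m A ε) : Fac A P ε where
  ev := h.split.even
  le _ _ hij := h.split.A_le.trans (h.V_le hij)
  conj_A _ _ hij _ hx _ hv := h.conj_V hij hx (h.split.A_le hv)
  act _ _ hij _ hx := h.acts hij hx
  cen i j hij k l k1 k2 l1 l2 f hf x hx :=
    h.uz_comm hij (subset_closure ⟨f, hf, _, Or.inr (rr_mem_Vn ⟨k1, k2⟩ ⟨l1, l2⟩), rfl⟩) hx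

namespace Fac

section

variable {n : ℕ} {A P : Subgroup G} {ε : (Fin n → ZMod 2) → G} (h : Fac A P ε)
include h

/-- the points off `i`, `j` commute with `O₂(C_G(r_ij))` -/
theorem pt (hodd : Odd n) (hn : 3 ≤ n) {i j k : Fin n} (hij : i ≠ j) (ki : k ≠ i) (kj : k ≠ j) :
    zz ε k ∈ centralizer (o2 (NN ε i j) : Set G) := by
  refine zz_mem_of_rr h.ev hodd hn hij ?_ ?_ ki kj
  · rw [mem_centralizer_iff]
    intro x hx
    exact mem_NN.mp (o2_le _ hx)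
  · intro a c _ ai aj ci cj
    rw [mem_centralizer_iff]
    intro x hx
    have h1 := h.cen i j hij a c ai aj ci cj 1 (one_mem _) x hx
    rw [one_mul, inv_one, mul_one] at h1
    exact h1.symm

theorem uu_cen (hodd : Odd n) (hn : 3 ≤ n) {i j : Fin n} (hij : i ≠ j) :
    UU ε i j ≤ centralizer (o2 (NN ε i j) : Set G) := by
  unfold UU
  rw [closure_le]
  rintro u ⟨g, hg, k, k1, k2, rfl⟩
  have h1 := NSix.End.Six.norm_cen _ (le_normalizer_o2 _ hg)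
  exact (mem_normalizer_iff.mp h1 _).mp (h.pt hodd hn hij k1 k2)

theorem ww [Finite G] (hG : IsCharacteristicTwoType G) (hn : 3 ≤ n) {i j : Fin n} (hij : i ≠ j) :
    WP ε i j ≤ o2 (NN ε i j) := by
  intro g hg
  exact MinSimple.Geo.mem_o2_of_stab hG (rr_sq h.ev i j) (rr_ne_one h.ev hn hij) hg.1 hg.2

theorem wp_conj {i j : Fin n} {x w : G} (hx : x ∈ o2 (NN ε i j)) (hw : w ∈ WP ε i j) :
    w * x * w⁻¹ = x ∨ w * x * w⁻¹ = x * rr ε i j := by
  rcases zpow_cases (rr_sq h.ev i j) (hw.2 x hx) with h1 | h1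
  · left
    rwa [mul_inv_eq_one] at h1
  · right
    rw [mul_inv_eq_iff_eq_mul] at h1
    rw [h1]
    exact (mem_NN.mp (o2_le _ hx)).symm

theorem mem_wp {i j : Fin n} (hij : i ≠ j) {v : G} (hv : v ∈ A) : v ∈ WP ε i j := by
  rw [mem_WP]
  refine ⟨o2_le _ (h.le i j hij hv), fun q hq => ?_⟩
  have e : v * q * v⁻¹ * q⁻¹ = v * (q * v * q⁻¹)⁻¹ := by group
  rw [e]
  rcases h.conj_A i j hij q hq v hv with h1 | h1
  · rw [h1, mul_inv_cancel]
    exact one_mem _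
  · rw [h1, mul_inv_rev, rr_inv h.ev]
    have h2 : rr ε i j * v⁻¹ = v⁻¹ * rr ε i j := h.ev.comm_mem (rr_mem h.ev i j) (inv_mem hv)
    rw [h2, mul_inv_cancel_left]
    exact mem_zpowers _

/-- **`SixF` from (H2)** -/
theorem sixF [Finite G] (hG : IsCharacteristicTwoType G) (hodd : Odd n) (hn : 3 ≤ n) (hq : H2 ε)
    (hN : ∃ i j, i ≠ j ∧ ∃ g ∈ WP ε i j, ¬ g ∈ centralizer (A : Set G)) : SixF A P ε (WP ε) where
  ev := h.ev
  Vle _ _ hij _ hv := h.mem_wp hij hv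
  wn _ _ _ _ hg _ hx := WP_norm hg hx
  wc _ _ hg _ _ _ _ hx := WP_conj hg hx
  cen i j hij u hu w hw := (mem_centralizer_iff.mp (h.uu_cen hodd hn hij hu) w (h.ww hG hn hij hw)).symm
  act i j hij w hw := h.act i j hij w (h.ww hG hn hij hw)
  mov := by
    obtain ⟨i0, j0, hij0, g, hg, hgV⟩ := hN
    have hgs : Acts ε g (Equiv.swap i0 j0) :=
      (h.act i0 j0 hij0 g (h.ww hG hn hij0 hg)).resolve_left fun h1 => hgV (h.ev.acts_one_iff.mp h1)
    intro i j hij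
    obtain ⟨σ, h1, h2, -⟩ := exists_perm hij0 hij
    obtain ⟨p, -, hp⟩ := h.ev.full σ
    refine ⟨p * g * p⁻¹, ?_, ?_⟩
    · have := WP_conj hp hg
      rwa [h1, h2] at this
    · have h3 := hp.conj hgs
      have h4 : σ * Equiv.swap i0 j0 * σ⁻¹ = Equiv.swap i j := by
        rw [← Equiv.swap_apply_apply, h1, h2]
      rwa [h4] at h3
  tra i j k l hij hkl h1 h2 h3 h4 _ hu _ hw := h.wp_conj (hq i j k l hij hkl h1 h2 h3 h4 hu) hw
  hq := hq
  qc _ _ _ _ hx _ hw := h.wp_conj hx hw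
  uq i j hij u hu q hq := (mem_centralizer_iff.mp (h.uu_cen hodd hn hij hu) q hq).symm

end

/-- three letters off two letters -/
theorem exists_three' {n : ℕ} (hn : 5 ≤ n) (i j : Fin n) : ∃ p q r : Fin n, p ≠ q ∧ p ≠ r ∧ q ≠ r ∧
    (p ≠ i ∧ p ≠ j) ∧ (q ≠ i ∧ q ≠ j) ∧ (r ≠ i ∧ r ≠ j) := by
  have hcard : 2 < (Finset.univ \ {i, j} : Finset (Fin n)).card := by
    have h1 := Finset.le_card_sdiff {i, j} (Finset.univ : Finset (Fin n))
    rw [Finset.card_univ, Fintype.card_fin] at h1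
    have h2 : ({i, j} : Finset (Fin n)).card ≤ 2 := Finset.card_le_two
    omega
  obtain ⟨p, hp, q, hq, r, hr, hpq, hpr, hqr⟩ := Finset.two_lt_card.mp hcard
  simp only [Finset.mem_sdiff, Finset.mem_univ, true_and, Finset.mem_insert,
    Finset.mem_singleton, not_or] at hp hq hr
  exact ⟨p, q, r, hpq, hpr, hqr, hp, hq, hr⟩

/-- **END for a partner of type `T`**: `r_ij = r'_{i'j'}`, `a' ∈ A'` induces `(i j)` on `A`. -/
theorem false [Finite G] (hG : IsCharacteristicTwoType G) {n n' : ℕ} {A A' L P' : Subgroup G}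
    {ε : (Fin n → ZMod 2) → G} {ε' : (Fin n' → ZMod 2) → G} {W : Fin n → Fin n → Subgroup G}
    (b : SixF A L ε W) (hodd : Odd n) (hn : 7 ≤ n) (S : Sylow 2 G) (hS : (S : Subgroup G) ≤ L) {o : Fin n}
    (ho : ∀ s ∈ (S : Subgroup G), s * zz ε o = zz ε o * s) (h' : Fac A' P' ε') (hn' : 5 ≤ n')
    {i j : Fin n} (hij : i ≠ j) {i' j' : Fin n'} (hij' : i' ≠ j') (hr : rr ε i j = rr ε' i' j')
    (ha : ∃ a ∈ A', Acts ε a (Equiv.swap i j)) : False := by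
  obtain ⟨a, haA, ha⟩ := ha
  obtain ⟨p, q, r, hpq, hpr, hqr, ⟨p1, p2⟩, ⟨q1, q2⟩, ⟨r1, r2⟩⟩ := exists_three' hn' i' j'
  have hNN : NN ε i j = NN ε' i' j' := by unfold NN; rw [hr]
  have key : ∀ k l, k ≠ l → k ≠ i' → k ≠ j' → l ≠ i' → l ≠ j' → rr ε' k l ∈ o2 (NN ε i j) ∧
      (∀ x ∈ o2 (NN ε i j), rr ε' k l * x = x * rr ε' k l) ∧
      ∀ f : G, f * rr ε' k l = rr ε' k l * f → a * (f * rr ε i j * f⁻¹) = (f * rr ε i j * f⁻¹) * a := by
    intro k l hkl k1 k2 l1 l2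
    rw [hNN, hr]
    refine ⟨h'.le i' j' hij' (rr_mem h'.ev k l), fun x hx => ?_, fun f hf => ?_⟩
    · have h1 := h'.cen i' j' hij' k l k1 k2 l1 l2 1 (one_mem _) x hx
      rwa [one_mul, inv_one, mul_one] at h1
    · exact (h'.cen k l hkl i' j' k1.symm l1.symm k2.symm l2.symm f (mem_NN.mpr hf) a
        (h'.le k l hkl haA)).symm
  have kpq := key p q hpq p1 p2 q1 q2
  have kqr := key q r hqr q1 q2 r1 r2
  have kpr := key p r hpr p1 p2 r1 r2
  refine SixF.false_three hG b hodd hn S hS ho hij (c := ![rr ε' p q, rr ε' q r, rr ε' p r])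
    ?_ ?_ ?_ ha ?_
  · intro k
    fin_cases k
    · exact kpq.1
    · exact kqr.1
    · exact kpr.1
  · intro k
    fin_cases k
    · exact kpq.2.1
    · exact kqr.2.1
    · exact kpr.2.1
  · change rr ε' p q * rr ε' q r * rr ε' p r = 1
    rw [rr_add h'.ev, rr_sq h'.ev]
  · intro k
    fin_cases k
    · exact kpq.2.2
    · exact kqr.2.2
    · exact kpr.2.2

end Fac

end Cfsg.Agent.Omega.F4Leaf.Facts
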