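import Cfsg.Agent.Omega.F4Leaf.Main
import Cfsg.Agent.Omega.F4Leaf.Fac

/-!
# LeafF4, `m ≥ 3`, partner of type `T`: `F4SymBig` from (H2) (#17439, #18458, helper300)

* `two_of_labZ` : the position of `A`, `A' = A₂ ^ y` (`NSix.NoTk.Two`) for any `V₀`, `V₀'`;
* `exists_common` : `A'` induces exactly `⟨(i j)⟩` on `A`, `A` induces `⟨(i' j')⟩` on `A'`, `r_ij = r'_{i'j'}`;
* `false_two` : (H2) for the member `A` (`m ≥ 3`) is impossible;
* `MemH2 K` : (H2) for the members of degree `≥ 9` with `V₀ ≠ 1`; `f4SymBig_of : MemH2 K → F4SymBig K`.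
-/

set_option autoImplicit false

namespace Cfsg.Agent.Omega.F4Leaf.Two

open Subgroup Pointwise Cfsg Cfsg.Agent.ZN Cfsg.Agent.ZN.ChoiceBase Cfsg.Agent.Omega.MinPar
open Cfsg.Agent.Omega.Frame Cfsg.Agent.Omega.FFThm
open Cfsg.Agent.Omega.FrameLE (AllIn)
open Cfsg.Agent.Omega.FrameFF (cv Single Free)
open Cfsg.Agent.Omega.FrameMulti (IsSym IsNat Typed AllTyped NoWr LeafF4)
open Cfsg.Agent.Omega.S5.Def Cfsg.Agent.Omega.S5.Syl Cfsg.Agent.Omega.S5.Pair Cfsg.Agent.Omega.S5.Main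
open Cfsg.Agent.Omega.S5.SymBig (H2 pos_symm)
open Cfsg.Agent.Omega.F4Leaf.Def Cfsg.Agent.Omega.F4Leaf.Main Cfsg.Agent.Omega.F4Leaf.Facts
open Cfsg.Agent.Omega.NSix.Base Cfsg.Agent.Omega.NSix.Basic
open Cfsg.Agent.Omega.NSix.RThree (acts_swap')
open Cfsg.Agent.Omega.NSix.Zero (WP mem_WP)

universe u

section abs

variable {G : Type u} [Group G]

/-- a factor acts like the whole group -/
theorem side_of {n : ℕ} {A B B' P : Subgroup G} {ε : (Fin n → ZMod 2) → G} (hE : EvenSet n A P ε)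
    (h : Side B ε) (hB : B' ≤ B)
    (hf : ∀ b ∈ B, ∃ c ∈ centralizer (A : Set G), ∃ a ∈ B', b = c * a) : Side B' ε := by
  intro a ha
  obtain ⟨τ, h1, h2⟩ := h a (hB ha)
  refine ⟨τ, h1, fun i hi => ⟨(h2 i hi).1, ?_⟩⟩
  obtain ⟨b, hb, h3⟩ := (h2 i hi).2
  obtain ⟨c, hc, a', ha', rfl⟩ := hf b hb
  refine ⟨a', ha', ?_⟩
  have h4 := (hE.acts_one_iff.mpr (inv_mem hc)).mul h3
  rwa [one_mul, inv_mul_cancel_left] at h4

/-- the common pair -/
theorem rr_eq {n n' : ℕ} {V V' L L' : Subgroup G} {ε : (Fin n → ZMod 2) → G} {ε' : (Fin n' → ZMod 2) → G}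
    (hE : EvenSet n V L ε) (hE' : EvenSet n' V' L' ε') (hn : 3 ≤ n) (hn' : 3 ≤ n') {i j : Fin n} {i' j' : Fin n'}
    (hij : i ≠ j) (hij' : i' ≠ j') (mov : ∃ b ∈ V', Acts ε b (Equiv.swap i j))
    (act : ∀ b ∈ V', Acts ε b 1 ∨ Acts ε b (Equiv.swap i j)) (mov' : ∃ a ∈ V, Acts ε' a (Equiv.swap i' j')) :
    rr ε i j = rr ε' i' j' := by
  obtain ⟨b, hb, hb1⟩ := mov
  obtain ⟨a, ha, ha1⟩ := mov'
  -- a common witness: `a` moved by `b`
  obtain ⟨x, rfl⟩ := hE.surj a ha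
  obtain ⟨y, rfl⟩ := hE'.surj b hb
  by_cases hx : x i = x j
  · -- `a` is fixed by `V'`
    exfalso
    have h1 : ∀ c ∈ V', c * ε x * c⁻¹ = ε x := by
      intro c hc
      rcases act c hc with h2 | h2
      · exact h2 x
      · exact (acts_swap' hE h2 x).1 hx
    have h2 : ε x ∈ centralizer (V' : Set G) := by
      rw [mem_centralizer_iff]
      intro c hc
      exact mul_inv_eq_iff_eq_mul.mp (h1 c hc)
    have h3 := hE'.acts_unique hn' (hE'.acts_one_iff.mpr h2) ha1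
    exact hij' (Equiv.swap_eq_one_iff.mp h3.symm)
  by_cases hy : y i' = y j'
  · exfalso
    have h1 := (acts_swap' hE' ha1 y).1 hy
    have h2 := (acts_swap' hE hb1 x).2 hx
    have h3 : ε' y * ε x * (ε' y)⁻¹ = ε x := by
      rw [mul_inv_eq_iff_eq_mul] at h1 ⊢
      exact h1.symm
    rw [h3] at h2
    exact rr_ne_one hE hn hij (left_eq_mul.mp h2)
  · have h1 := (acts_swap' hE' ha1 y).2 hy
    have h2 := (acts_swap' hE hb1 x).2 hx
    have e1 : rr ε i j = (ε x)⁻¹ * (ε' y * ε x * (ε' y)⁻¹) := by rw [h2]; group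
    have e2 : rr ε' i' j' = (ε' y)⁻¹ * (ε x * ε' y * (ε x)⁻¹) := by rw [h1]; group
    have e3 : (rr ε' i' j')⁻¹ = rr ε' i' j' := rr_inv hE' _ _
    rw [← e3, e2, e1, hE.inv x]
    have e4 : (ε' y)⁻¹ = ε' y := hE'.inv y
    rw [e4]
    simp only [mul_inv_rev, hE.inv x, e4]
    group

theorem wp_eq {n n' : ℕ} {ε : (Fin n → ZMod 2) → G} {ε' : (Fin n' → ZMod 2) → G} {i j : Fin n} {i' j' : Fin n'}
    (h : rr ε i j = rr ε' i' j') : WP ε i j = WP ε' i' j' := by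
  have hN : NN ε i j = NN ε' i' j' := by unfold NN; rw [h]
  ext x
  rw [mem_WP, mem_WP, hN, h]

end abs

section pair

variable {G : Type u} [Group G] [Finite G] {S : Sylow 2 G} {P₁ P₂ : Subgroup G} {y : G} {m m' : ℕ} {A : Subgroup G}
  {ε : (Fin (2 ^ m + 1) → ZMod 2) → G} {A₂ : Subgroup G} {ε₂ : (Fin (2 ^ m' + 1) → ZMod 2) → G}

theorem labTwoZ_symm (h : LabTwoZ S P₁ P₂ y m m' A ε A₂ ε₂) : LabTwoZ S P₂ P₁ y⁻¹ m' m A₂ ε₂ A ε where
  toPos := pos_symm h.toPos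
  split := h.split₂
  side := by
    have h1 := h.side₂.conj y⁻¹
    have e : (fun x => y⁻¹ * (fun x => y * ε₂ x * y⁻¹) x * y⁻¹⁻¹) = ε₂ := by
      funext x
      dsimp only
      group
    rwa [e] at h1
  split₂ := h.split
  side₂ := by
    have h1 := h.side.conj y⁻¹
    rwa [cj_inv_cj] at h1

variable (hG : IsCharacteristicTwoType G) (hl : LabTwoZ S P₁ P₂ y m m' A ε A₂ ε₂)
include hG hl

theorem fac₁ : ∀ b ∈ zl (S : Subgroup G) P₁,
    ∃ c ∈ centralizer ((cj y A₂ : Subgroup G) : Set G), ∃ a ∈ A, b = c * a := by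
  intro b hb
  obtain ⟨v, hv, a, ha, rfl⟩ := hl.split.mul_eq hG hl.pair.star₁ hb
  refine ⟨v, ?_, a, ha, rfl⟩
  rw [mem_centralizer_iff]
  intro x hx
  refine hl.split.comm (hl.pair.star₁.le (hl.le ?_)) hv
  exact cj_mono y hl.split₂.A_le hx

theorem fac₂ : ∀ b ∈ cj y (zl (S : Subgroup G) P₂), ∃ c ∈ centralizer (A : Set G), ∃ a ∈ cj y A₂, b = c * a := by
  intro b hb
  rw [mem_cj] at hb
  obtain ⟨v, hv, a, ha, hva⟩ := hl.split₂.mul_eq hG hl.pair.star₂ hb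
  refine ⟨y * v * y⁻¹, ?_, y * a * y⁻¹, ?_, ?_⟩
  · rw [mem_centralizer_iff]
    intro x hx
    have h1 : y⁻¹ * x * y ∈ (S : Subgroup G) := mem_cj.mp (hl.ge (hl.split.A_le hx))
    have h2 := hl.split₂.comm (hl.pair.star₂.le h1) hv
    calc x * (y * v * y⁻¹) = y * (y⁻¹ * x * y * v) * y⁻¹ := by group
      _ = y * (v * (y⁻¹ * x * y)) * y⁻¹ := by rw [h2]
      _ = _ := by group
  · rw [mem_cj]
    have e : y⁻¹ * (y * a * y⁻¹) * y = a := by group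
    rwa [e]
  · calc b = y * (y⁻¹ * b * y) * y⁻¹ := by group
      _ = _ := by rw [hva]; group

/-- The position of `A`, `A' = A₂ ^ y`. -/
theorem two_of_labZ : NSix.NoTk.Two A (cj y A₂) P₁ (cj y P₂) (S : Subgroup G)
    ((y • S : Sylow 2 G) : Subgroup G) ε fun x => y * ε₂ x * y⁻¹ where
  even := hl.split.even
  even' := hl.split₂.even.conj y
  le := hl.pair.star₁.le
  le' := by rw [NSix.NoTk.coe_smul]; exact cj_mono y hl.pair.star₂.le
  fix := hl.split.fix0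
  fix' := by rw [NSix.NoTk.coe_smul]; exact NSix.NoTk.fix0_conj hl.split₂.fix0 y
  in' := (cj_mono y hl.split₂.A_le).trans hl.le
  in_ := by rw [NSix.NoTk.coe_smul]; exact hl.split.A_le.trans hl.ge
  side := side_of hl.split.even hl.side (cj_mono y hl.split₂.A_le) (fac₂ hG hl)
  side' := side_of (hl.split₂.even.conj y) hl.side₂ hl.split.A_le (fac₁ hG hl)

theorem not_cen₁ : ¬ cj y A₂ ≤ centralizer (A : Set G) := by
  intro h
  apply hl.pair.ne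
  refine commutator_eq_bot_iff_le_centralizer.mpr (le_centralizer_iff.mp ?_)
  change cj y (zl (S : Subgroup G) P₂) ≤ _
  intro b hb
  have hbS := hl.le hb
  obtain ⟨c, hc, a, ha, rfl⟩ := fac₂ hG hl b hb
  rw [mem_centralizer_iff]
  intro x hx
  obtain ⟨v, hv, a1, ha1, rfl⟩ := hl.split.mul_eq hG hl.pair.star₁ hx
  have h1 : a1 * (c * a) = c * a * a1 := mem_centralizer_iff.mp (mul_mem hc (h ha)) a1 ha1
  have h2 : c * a * v = v * (c * a) := hl.split.comm (hl.pair.star₁.le hbS) hv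
  calc v * a1 * (c * a) = v * (a1 * (c * a)) := by group
    _ = v * (c * a) * a1 := by rw [h1]; group
    _ = _ := by rw [← h2]; group

theorem not_cen₂ : ¬ A ≤ centralizer ((cj y A₂ : Subgroup G) : Set G) := fun h =>
  not_cen₁ hG hl (le_centralizer_iff.mp h)

/-- **the common transposition** -/
theorem exists_common (hm : 2 ≤ m) (hm' : 2 ≤ m') : ∃ i j i' j', i ≠ j ∧ i' ≠ j' ∧
    rr ε i j = rr (fun x => y * ε₂ x * y⁻¹) i' j' ∧
    (∃ b ∈ cj y A₂, Acts ε b (Equiv.swap i j)) ∧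
    (∀ b ∈ cj y A₂, Acts ε b 1 ∨ Acts ε b (Equiv.swap i j)) ∧
    (∃ a ∈ A, Acts (fun x => y * ε₂ x * y⁻¹) a (Equiv.swap i' j')) ∧
    ∀ a ∈ A, Acts (fun x => y * ε₂ x * y⁻¹) a 1 ∨ Acts (fun x => y * ε₂ x * y⁻¹) a (Equiv.swap i' j') := by
  have ht := two_of_labZ hG hl
  obtain ⟨i, j, hij, h1, h2⟩ := NSix.NoTk.acts_one_or hG hm hm' ht (not_cen₁ hG hl)
  obtain ⟨i', j', hij', h1', h2'⟩ := NSix.NoTk.acts_one_or hG hm' hm ht.symm (not_cen₂ hG hl)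
  exact ⟨i, j, i', j', hij, hij', rr_eq ht.even ht.even' (three_le (by omega)) (three_le (by omega)) hij hij' h1 h2
    h1', h1, h2, h1', h2'⟩

/-- **(H2) for a member with `m ≥ 3` is impossible, partner of type `T`.** -/
theorem false_two (hm : 3 ≤ m) (hm' : 2 ≤ m') (hq : H2 ε) : False := by
  obtain ⟨i, j, i', j', hij, hij', hr, h1, -, -, -⟩ := exists_common hG hl (by omega) hm'
  have s₁ : Pos.Sit S P₁ m A ε := ⟨hG, hl.pair.star₁, by omega, hl.split⟩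
  have s₂ : Pos.Sit S P₂ m' A₂ ε₂ := ⟨hG, hl.pair.star₂, hm', hl.split₂⟩
  have f₂ := s₂.fac.conj y
  have hn7 : 7 ≤ 2 ^ m + 1 := by
    have : 2 ^ 3 ≤ 2 ^ m := Nat.pow_le_pow_right (by norm_num) hm
    omega
  have hodd : Odd (2 ^ m + 1) := Even.add_one (Nat.even_pow.mpr ⟨even_two, by omega⟩)
  have hn5 : 5 ≤ 2 ^ m' + 1 := five_le hm'
  obtain ⟨a, ha, ha1⟩ := h1
  have b := s₁.fac.sixF hG hodd s₁.three hq ⟨i, j, hij, a, by rw [wp_eq hr]; exact f₂.mem_wp hij' ha, fun h0 =>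
    hij (Equiv.swap_eq_one_iff.mp
      (hl.split.even.acts_unique s₁.three (hl.split.even.acts_one_iff.mpr h0) ha1).symm)⟩
  refine Fac.false hG b hodd hn7 S hl.pair.star₁.le (o := 0) (fun s hs => ?_) f₂ hn5 hij hij' hr ⟨a, ha, ha1⟩
  obtain ⟨σ, hσ⟩ := hl.split.even.perm s (hl.pair.star₁.le hs)
  exact (hl.split.even.fixes_iff s₁.three hσ 0).mpr (hl.split.fix0 s hs σ hσ)

end pair

/-! ### The assembly -/

/-- **(H2)** for the member `V = V_{P₁}` of degree `2^m + 1 ≥ 9`, `V₀ ≠ 1`, of a mutual pair. -/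
def MemH2 (K : Cls.{u}) : Prop :=
  ∀ (G : Type u) [Group G] [Finite G], Ctx G → K G → ∀ (S : Sylow 2 G), Full (S : Subgroup G) →
    AllIn (S : Subgroup G) → AllTyped (S : Subgroup G) → NoWr (S : Subgroup G) →
    ∀ (P₁ P₂ : Subgroup G) (y : G) (m : ℕ) (A : Subgroup G) (ε : (Fin (2 ^ m + 1) → ZMod 2) → G), 3 ≤ m →
      LabZ S P₁ P₂ y m A ε → cv (S : Subgroup G) P₁ ≠ ⊥ → cv (S : Subgroup G) P₂ ≠ ⊥ → ¬ IsKnownSimple' G → H2 ε

/-- **`F4SymBig` from (H2)** -/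
theorem f4SymBig_of {K : Cls.{u}} (h2 : MemH2 K) : F4SymBig K := by
  intro G _ _ hG hcl S hF hI hT hW P₁ P₂ y m m' A ε A₂ ε₂ hm hm' hbig hl hc₁ hc₂
  by_contra hk
  rcases hbig with h3 | h3
  · exact false_two hG.char2 hl h3 hm'
      (h2 G hG hcl S hF hI hT hW P₁ P₂ y m A ε h3 hl.toLabZ hc₁ hc₂ hk)
  · have hl' := labTwoZ_symm hl
    exact false_two hG.char2 hl' h3 hm
      (h2 G hG hcl S hF hI hT hW P₂ P₁ y⁻¹ m' A₂ ε₂ h3 hl'.toLabZ hc₂ hc₁ hk)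

end Cfsg.Agent.Omega.F4Leaf.Two
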