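import Cfsg.Agent.Omega.F4Leaf.Part
import Cfsg.Agent.Omega.F4Leaf.Two
import Cfsg.Agent.Omega.F4Leaf.EndC.Main
import Cfsg.Agent.Omega.NSix.Gam

/-!
# LeafF4, `m ≥ 3`: the END for a partner in the form `Part.Partner`

* `tr` : in the situation `SixF`, `B = V Σ`, `r = r_ij` satisfy `Gam.Tr`;
* `false_partner` : no partner of a `SixF`;
* `f4NatBig_of : MemH2 K → F4NatBig K`.
-/

set_option autoImplicit false
set_option linter.dupNamespace false

namespace Cfsg.Agent.Omega.F4Leaf.Last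

open Subgroup Pointwise Cfsg Cfsg.Agent Cfsg.Agent.Omega.MinPar
open Cfsg.Agent.ZN (o2 zc zl)
open Cfsg.Agent.ZN.ChoiceBase
open Cfsg.Agent.Omega.FFThm
open Cfsg.Agent.Omega.Frame
open Cfsg.Agent.Omega.FrameLE (AllIn)
open Cfsg.Agent.Omega.FrameFF (cv Single Free)
open Cfsg.Agent.Omega.FrameMulti (IsSym IsNat Typed AllTyped NoWr)
open Cfsg.Agent.Omega.S5.Def Cfsg.Agent.Omega.S5.Syl Cfsg.Agent.Omega.S5.Pair Cfsg.Agent.Omega.F4Leaf.Def
open Cfsg.Agent.Omega.S5.SymBig (H2)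
open Cfsg.Agent.Omega.F4Leaf.Main Cfsg.Agent.Omega.F4Leaf.Facts Cfsg.Agent.Omega.F4Leaf.Two
open Cfsg.Agent.Omega.F4Leaf.Part
open Cfsg.Agent.Omega.NSix.Base Cfsg.Agent.Omega.NSix.Basic Cfsg.Agent.Omega.NSix.Gam
open Cfsg.Agent.Omega.NSix.Zero (WP mem_WP)
open Cfsg.Agent.Omega.NSix.Free

universe u

variable {G : Type u} [Group G]

section abs

variable {n : ℕ} {V L : Subgroup G} {ε : (Fin n → ZMod 2) → G} {W : Fin n → Fin n → Subgroup G}

/-- `q` moves `ε y s` iff `y i ≠ y j` and `q` moves `z_i` -/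
theorem comm_iff (b : SixF V L ε W) {i j : Fin n} (hij : i ≠ j) {q : G} (hq : q ∈ o2 (NN ε i j))
    {y : Fin n → ZMod 2} {s : G} (hs : s ∈ SG ε) :
    q * (ε y * s) ≠ ε y * s * q ↔ y i ≠ y j ∧ q * zz ε i ≠ zz ε i * q := by
  have hsq : q * s = s * q := (b.uq i j hij s (hs i j hij) q hq).symm
  have e1 : q * (ε y * s) = ε y * s * q ↔ q * ε y = ε y * q := by
    constructor
    · intro h
      have h1 : q * ε y * s = ε y * q * s := by
        rw [mul_assoc, h, mul_assoc, ← hsq, ← mul_assoc]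
      exact mul_right_cancel h1
    · intro h
      rw [← mul_assoc, h, mul_assoc, hsq, ← mul_assoc]
  rw [Ne, e1]
  by_cases hy : y i = y j
  · have h1 : q * ε y = ε y * q := (b.uq i j hij _ (mem_uu_coord b.ev hy) q hq).symm
    exact ⟨fun h => absurd h1 h, fun h => absurd hy h.1⟩
  · have h2 : ε y = zz ε i * ε (Pi.single i 1 + y) := by
      unfold zz
      rw [← b.ev.add, ← add_assoc]
      congr 1
      have h3 : (Pi.single i 1 : Fin n → ZMod 2) + Pi.single i 1 = 0 := by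
        funext k
        exact CharTwo.add_self_eq_zero _
      rw [h3, zero_add]
    have h4 : ε (Pi.single i 1 + y) ∈ UU ε i j := by
      apply mem_uu_coord b.ev
      rw [Pi.add_apply, Pi.add_apply, Pi.single_eq_same, Pi.single_eq_of_ne hij.symm, zero_add]
      have key : ∀ a c : ZMod 2, a ≠ c → 1 + a = c := by decide
      exact key _ _ hy
    have h5 : q * ε (Pi.single i 1 + y) = ε (Pi.single i 1 + y) * q := (b.uq i j hij _ h4 q hq).symm
    have h6 : q * ε y = ε y * q ↔ q * zz ε i = zz ε i * q := by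
      rw [h2]
      constructor
      · intro h
        have h1 : q * zz ε i * ε (Pi.single i 1 + y) = zz ε i * q * ε (Pi.single i 1 + y) := by
          rw [mul_assoc, h, mul_assoc, ← h5, ← mul_assoc]
        exact mul_right_cancel h1
      · intro h
        rw [← mul_assoc, h, mul_assoc, h5, ← mul_assoc]
    rw [h6]
    exact ⟨fun h => ⟨hy, h⟩, fun h => h.2⟩

variable [Finite G] (hG : IsCharacteristicTwoType G) (b : SixF V L ε W) (hodd : Odd n) (hn : 7 ≤ n)
  (S : Sylow 2 G) (hS : (S : Subgroup G) ≤ L) {o : Fin n}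
  (ho : ∀ s ∈ (S : Subgroup G), s * zz ε o = zz ε o * s)
include hG b hodd hn S hS ho

theorem bb_le_o2 {i j : Fin n} (hij : i ≠ j) : BB V ε ≤ o2 (NN ε i j) :=
  sup_le (fun _ hv => EndC.w_le_o2 hG b (by omega) hij (b.Vle i j hij hv))
    fun _ hx => all_le hG b hodd hn S hS ho hij hij (hx i j hij)

/-- **`Tr`** -/
theorem tr {i j : Fin n} (hij : i ≠ j) (hm : ∃ q ∈ o2 (NN ε i j), q * zz ε i ≠ zz ε i * q) :
    Tr (BB V ε) (rr ε i j) where
  comm _ ha _ hb := bb_comm b.toBase (by omega) ha hb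
  sq _ hb := bb_sq b.toBase (by omega) hb
  mem := v_le_BB (rr_mem b.ev i j)
  nor := nn_le hG b hodd hn S hS ho hij
  le := bb_le_o2 hG b hodd hn S hS ho hij
  act := by
    intro q hq x hx
    obtain ⟨v, hv, s, hs, rfl⟩ := (mem_BB b.toBase (by omega)).mp hx
    have hsq : q * s * q⁻¹ = s := by
      rw [← b.uq i j hij s (hs i j hij) q hq, mul_inv_cancel_right]
    have e : q * (v * s) * q⁻¹ = (q * v * q⁻¹) * (q * s * q⁻¹) := by group
    have hrs : rr ε i j * s = s * rr ε i j := (sg_comm b.toBase (by omega) hs (rr_mem b.ev i j)).symm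
    have hqv : q * v * q⁻¹ = v ∨ q * v * q⁻¹ = v * rr ε i j := by
      have hvr := b.ev.comm_mem hv (rr_mem b.ev i j)
      rcases b.qc i j hij q hq v (b.Vle i j hij hv) with h1 | h1
      · left
        have h2 : v * q = q * v := mul_inv_eq_iff_eq_mul.mp h1
        rw [← h2, mul_inv_cancel_right]
      · right
        have h2 : v * q = q * rr ε i j * v := mul_inv_eq_iff_eq_mul.mp h1
        have h3 : q * v = v * q * rr ε i j := by
          rw [h2, mul_assoc q, ← hvr, ← mul_assoc, mul_assoc, rr_sq b.ev, mul_one]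
        have h4 : q * rr ε i j = rr ε i j * q := mem_NN.mp (MinSimple.VModule.o2_le _ hq)
        rw [h3, mul_assoc v, h4, ← mul_assoc, mul_inv_cancel_right]
    rw [e, hsq]
    rcases hqv with h1 | h1
    · left; rw [h1]
    · right; rw [h1, mul_assoc, hrs, ← mul_assoc]
  one := by
    intro q hq q' hq' x hx x' hx' h1 h2
    obtain ⟨v, hv, s, hs, rfl⟩ := (mem_BB b.toBase (by omega)).mp hx
    obtain ⟨v', hv', s', hs', rfl⟩ := (mem_BB b.toBase (by omega)).mp hx'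
    obtain ⟨y, rfl⟩ := b.ev.surj v hv
    obtain ⟨y', rfl⟩ := b.ev.surj v' hv'
    rw [comm_iff b hij hq hs] at h1
    rw [comm_iff b hij hq' hs'] at h2
    rw [comm_iff b hij hq' hs]
    exact ⟨h1.1, h2.2⟩
  mov := by
    obtain ⟨q, hq, h1⟩ := hm
    exact ⟨q, hq, zz ε i, v_le_BB (zz_mem b.ev i), h1⟩

omit hG hodd hn S hS ho in
theorem rr_mem_KK {i j k l : Fin n} (hij : i ≠ j) (hkl : k ≠ l) : rr ε k l ∈ KK (BB V ε) (rr ε i j) := by
  obtain ⟨σ, h1, h2, -⟩ := exists_perm hij hkl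
  obtain ⟨g, hg, hgs⟩ := b.ev.full σ
  refine ⟨g, l_le_GG b.toBase hg, ?_⟩
  rw [rr_conj hgs, h1, h2]

/-- **no partner** -/
theorem false_partner {i j : Fin n} {e p : G} (hp : Partner ε i j e p) : False := by
  have hij := hp.ne
  have t := tr hG b hodd hn S hS ho hij ⟨e, hp.mem, hp.mov⟩
  have sw : Sw (BB V ε) (rr ε i j) e p :=
    { tr := t
      pr := hp.pr
      pe := hp.pe
      mem := hp.mem
      mov := ⟨zz ε i, v_le_BB (zz_mem b.ev i), hp.mov⟩ }
  obtain ⟨c, hc, ⟨w, hw, hwc⟩, hcc⟩ := EndC.exists_b hG b hodd hn S hS ho hij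
  obtain ⟨k, l, m, hkl, hkm, hlm, ⟨ki, kj⟩, ⟨li, lj⟩, ⟨mi, mj⟩⟩ := Fac.exists_three' (by omega) i j
  have hf : ∀ k l : Fin n, k ≠ i → k ≠ j → l ≠ i → l ≠ j → fv (rr ε i j) (rr ε k l) = 0 := by
    intro k l k1 k2 l1 l2
    exact fv_eq_zero.mpr fun q hq => (b.uq i j hij _ (rr_mem_UU k1 k2 l1 l2) q hq).symm
  refine sw.false_of_b hc (fv_eq_one.mpr ⟨w, hw, hwc⟩) (fun g hg => hcc g (mem_NN.mpr hg))
    (rr_mem_KK b hij hkl) (hf k l ki kj li lj)
    (rr_mem_KK b hij hlm) (hf l m li lj mi mj) ?_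
  rw [rr_add b.ev]
  exact rr_mem_KK b hij hkm

end abs

section nat

variable [Finite G] {S : Sylow 2 G} {P₁ P₂ : Subgroup G} {y : G} {m : ℕ} {A : Subgroup G}
  {ε : (Fin (2 ^ m + 1) → ZMod 2) → G}

/-- **(H2) for a member with `m ≥ 3` is impossible, natural partner.** -/
theorem false_nat (hG : IsCharacteristicTwoType G) (hm : 3 ≤ m) (hl : LabZ S P₁ P₂ y m A ε)
    (hN : IsNat (S : Subgroup G) P₂ 1) (hq : H2 ε) : False := by
  obtain ⟨i, j, e, p, hp⟩ := partner_nat hG (by omega) hl hN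
  have s₁ : Pos.Sit S P₁ m A ε := ⟨hG, hl.pair.star₁, by omega, hl.split⟩
  have hn7 : 7 ≤ 2 ^ m + 1 := by
    have : 2 ^ 3 ≤ 2 ^ m := Nat.pow_le_pow_right (by norm_num) hm
    omega
  have hodd : Odd (2 ^ m + 1) := Even.add_one (Nat.even_pow.mpr ⟨even_two, by omega⟩)
  have b := s₁.fac.sixF hG hodd s₁.three hq ⟨i, j, hp.ne, e, hp.wp, fun h0 =>
    hp.mov (mem_centralizer_iff.mp h0 _ (zz_mem hl.split.even i)).symm⟩
  refine false_partner hG b hodd hn7 S hl.pair.star₁.le (o := 0) (fun s hs => ?_) hp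
  obtain ⟨σ, hσ⟩ := hl.split.even.perm s (hl.pair.star₁.le hs)
  exact (hl.split.even.fixes_iff s₁.three hσ 0).mpr (hl.split.fix0 s hs σ hσ)

end nat

/-- **`F4NatBig` from (H2)** -/
theorem f4NatBig_of {K : Cls.{u}} (h2 : MemH2 K) : F4NatBig K := by
  intro G _ _ hG hcl S hF hI hT hW P₁ P₂ y m A ε hm hl hN _ hc₁ hc₂
  by_contra hk
  exact false_nat hG.char2 hm hl hN (h2 G hG hcl S hF hI hT hW P₁ P₂ y m A ε hm hl hc₁ hc₂ hk)

end Cfsg.Agent.Omega.F4Leaf.Last
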