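import Cfsg.Agent.Omega.TTn.Z.Member

/-!
# LeafF4, `m = m' = 2`, `n` not 2-central: reduction to (O1) (#15257, #16767)

`O1` : `Z.Base S M M k` (a mutual pair `A`, `A ^ k`), `V₀ ≠ 1`, all known facts, and the ten groups `U_π` have a common
element `≠ 1`. `f4nc_of : O1 → F4NC`.
-/

set_option autoImplicit false
set_option linter.unusedSectionVars false

namespace Cfsg.Agent.Omega.F4Leaf.NC

open Subgroup Cfsg Cfsg.Agent.ZN Cfsg.Agent.ZN.ChoiceBase Cfsg.Agent.Omega.MinPar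
open Cfsg.Agent.Omega.Frame Cfsg.Agent.Omega.FFThm
open Cfsg.Agent.Omega.FrameLE (AllIn)
open Cfsg.Agent.Omega.FrameFF (cv)
open Cfsg.Agent.Omega.FrameMulti (AllTyped NoWr)
open Cfsg.Agent.Omega.S5.Mod Cfsg.Agent.Omega.S5.TT Cfsg.Agent.Omega.S5.Pair Cfsg.Agent.Omega.S5.Main
open Cfsg.Agent.Omega.F4Leaf.Def Cfsg.Agent.Omega.F4Leaf.Main Cfsg.Agent.Omega.TTn

universe u

/-- **(O1)** -/
def O1 : Prop :=
  ∀ (G : Type u) [Group G] [Finite G], Ctx G → ∀ (S : Sylow 2 G), Full (S : Subgroup G) →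
    AllIn (S : Subgroup G) → AllTyped (S : Subgroup G) → NoWr (S : Subgroup G) →
    ∀ (P A : Subgroup G) (ε : (Fin (2 ^ 2 + 1) → ZMod 2) → G) (M : FiveMod A P) (k : G),
      IsParS (S : Subgroup G) P → Split (S : Subgroup G) P 2 A ε → Z.Base S M M k →
      Z.OmT.Dat S M (cv (S : Subgroup G) P) (zc (o2 P)) →
      zc ((S : Subgroup G) ⊓ centralizer ({M.e nn} : Set G)) ≤ zc (o2 P) →
      cv (S : Subgroup G) P ≠ ⊥ → A ≤ Q (M.e ss) →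
      ¬ UU (M.e nn) (M.e aa) ≤ Q (M.e aa) →
      (∃ x, x ≠ 1 ∧ ∀ i j, i ≠ j → x ∈ Di.UP M i j) → False

/-- **F4NC from (O1)** -/
theorem f4nc_of (h1 : O1.{u}) : F4NC.{u} := by
  intro G _ _ hG S hF hI hT hW P₁ P₂ y A ε A₂ ε₂ hl hc₁ hc₂ hC
  have hp₁ := hl.pair.star₁
  have hp₂ := hl.pair.star₂
  obtain ⟨g, k, M₁, M₂, -, b⟩ := Z.exists_base hG.char2 hl
    (fun M t => Z.Member.hB hG.char2 hl.split hp₁ M t) (fun M t => Z.Member.hB hG.char2 hl.split₂ hp₂ M t) hC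
  obtain ⟨k', b'⟩ := b.to_one₁
  have t := Z.Member.dat hG.char2 hl.split hp₁ M₁ b.dih₁
  have hz := Z.Member.zT_le hG.char2 hl.split hp₁ M₁
  exact h1 G hG S hF hI hT hW P₁ A ε M₁ k' hp₁ hl.split b' t hz hc₁ (Z.Nc.le_Qs b' t hc₁)
    (Z.Nc.not_le b' t hz hc₁) (Z.Nc.exists_inf b' t hz hc₁)

end Cfsg.Agent.Omega.F4Leaf.NC
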