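import Cfsg.Agent.Omega.F4Leaf.Main
import Cfsg.Agent.Omega.IId.Cv.Split
import Cfsg.Agent.Omega.HOne.NSSide

/-!
# LeafF4, step (0): a natural partner of a member of type `S_{2^m+1}` has `q = 2`, `|Z| = 2 |C_{V'}(O²(P₂))|`
-/

set_option autoImplicit false
set_option linter.unusedSectionVars false

namespace Cfsg.Agent.Omega.F4Leaf.NatStep

open Subgroup Pointwise Cfsg Cfsg.Agent.ZN Cfsg.Agent.ZN.ChoiceBase
open Cfsg.Agent.Omega.MinPar Cfsg.Agent.Omega.FFThm
open Cfsg.Agent.Omega.FrameFF (cv Free)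
open Cfsg.Agent.Omega.FrameMulti (IsSym IsNat Typed AllTyped)
open Cfsg.Agent.Omega.NatPair (ap ap_zero' ap_one')
open Cfsg.Agent.Omega.S5.Def Cfsg.Agent.Omega.S5.Syl Cfsg.Agent.Omega.S5.Pair Cfsg.Agent.Omega.S5.Main
open Cfsg.Agent.Omega.F4Leaf.Def Cfsg.Agent.Omega.F4Leaf.Main
open Cfsg.Agent.Lib.SL2Mat

universe u

variable {G : Type u} [Group G]

section nat

variable {F : Type} [Field F] {T H V D : Subgroup G}

/-- `|V| = |F|² |D|` -/
theorem card_eq [Finite G] (h : NatK F T H V D 1) (hD : D ≤ V) : Nat.card V = Nat.card F ^ 2 * Nat.card D := by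
  let φ : V →* Multiplicative (Fin 1 → Fin 2 → F) :=
    { toFun := fun v => Multiplicative.ofAdd (h.e (v : G))
      map_one' := congrArg Multiplicative.ofAdd (S5.Nat.e_one h)
      map_mul' := fun v w => congrArg Multiplicative.ofAdd (h.mul v v.2 w w.2) }
  have hs : Function.Surjective φ := by
    intro x
    obtain ⟨v, hv, hx⟩ := h.surj (Multiplicative.toAdd x)
    exact ⟨⟨v, hv⟩, congrArg Multiplicative.ofAdd hx⟩
  have hk : φ.ker = D.subgroupOf V := by
    ext v
    rw [MonoidHom.mem_ker, mem_subgroupOf, ← h.ker v v.2]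
    exact Iff.rfl
  have h1 := φ.ker.card_eq_card_quotient_mul_card_subgroup
  have h2 : Nat.card (V ⧸ φ.ker) = Nat.card F ^ 2 := by
    rw [Nat.card_congr (QuotientGroup.quotientKerEquivOfSurjective φ hs).toEquiv]
    change Nat.card (Fin 1 → Fin 2 → F) = _
    rw [Nat.card_fun, Nat.card_fun]
    simp
  rw [h2, hk, Nat.card_congr (subgroupOfEquivOfLe hD).toEquiv] at h1
  exact h1

end nat

section step

variable [Finite G] {S : Sylow 2 G}

/-- the commutators of an offender element with a natural module -/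
theorem exists_comm (hG : IsCharacteristicTwoType G) {P : Subgroup G} (hP : IsParS (S : Subgroup G) P)
    {F : Type} [Field F] [CharP F 2]
    (h : NatK F (S : Subgroup G) P (zl (S : Subgroup G) P) (cv (S : Subgroup G) P) 1) {B : Subgroup G}
    (hB : B ≤ (S : Subgroup G)) (hoff : Off (zl (S : Subgroup G) P) B) {c : G} (hc : c ∈ B)
    (hne : ¬ ∀ v ∈ zl (S : Subgroup G) P, c * v = v * c) :
    ∃ f : F → G, Function.Injective f ∧ ∀ z, ∃ v ∈ zl (S : Subgroup G) P, f z = c * v * c⁻¹ * v⁻¹ := by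
  obtain ⟨I, h1, -⟩ := h.off B hB hoff
  obtain ⟨b, -, hb, -⟩ := h1 c hc
  have hcP : c ∈ P := hP.le (hB hc)
  have hcN : ∀ v ∈ zl (S : Subgroup G) P, c * v * c⁻¹ ∈ zl (S : Subgroup G) P := fun v hv =>
    (mem_normalizer_iff.mp (MinSimple.VModule.le_normalizer_zl _ _ hcP) v).mp hv
  have hb0 : b 0 ≠ 0 := by
    intro h0
    apply hne
    refine IId.Cv.comm_of_quot hG S hP h one_pos (hB hc) ((IId.Cv.mem_kern h).2 ⟨hcP, fun v hv => ?_⟩)
    funext i
    have h4 : b i = 0 := by rw [Subsingleton.elim i 0]; exact h0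
    rw [hb v hv i]
    change ap (up (b i)) _ = _
    rw [h4, up_zero, NatPair.ap_one]
  choose w hw hwx using fun z : F => h.surj fun _ => ![0, z]
  refine ⟨fun z => c * w z * c⁻¹ * (w z)⁻¹, ?_, fun z => ⟨w z, hw z, rfl⟩⟩
  intro z z' hz
  have e1 : ∀ z, h.e (c * w z * c⁻¹ * (w z)⁻¹) 0 0 = b 0 * z := by
    intro z
    rw [h.mul _ (hcN _ (hw z)) _ (inv_mem (hw z)), S5.Nat.e_inv h (hw z), Pi.add_apply, Pi.add_apply,
      hb _ (hw z) 0, hwx, ap_zero']
    simp
  have e2 : b 0 * z = b 0 * z' := by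
    rw [← e1, ← e1]
    exact congrArg (fun g => h.e g 0 0) hz
  exact mul_left_cancel₀ hb0 e2

/-- `q = 2` -/
theorem card_F (hG : IsCharacteristicTwoType G) {P₁ P₂ : Subgroup G} {y : G} {m : ℕ} {A : Subgroup G}
    {ε : (Fin (2 ^ m + 1) → ZMod 2) → G} (hm : 2 ≤ m) (hl : LabZ S P₁ P₂ y m A ε)
    {F : Type} [Field F] [Finite F] [CharP F 2]
    (M : NatK F (S : Subgroup G) P₂ (zl (S : Subgroup G) P₂) (cv (S : Subgroup G) P₂) 1) : Nat.card F = 2 := by
  have hn := three_le (by omega : 1 ≤ m)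
  have h := hl.split.even
  have hs := hl.side
  have hAV : A ≤ zl (S : Subgroup G) P₁ := hl.split.A_le
  -- `V'` does not centralise `A`
  have hne : ¬ cj y (zl (S : Subgroup G) P₂) ≤ centralizer (A : Set G) := by
    intro h0
    apply hl.off₁.ne
    intro w hw
    refine mem_centralizer_iff.2 fun v hv => ?_
    obtain ⟨d, hd, a, ha, rfl⟩ := hl.split.mul_eq hG hl.pair.star₁ hv
    have h1 : w * d = d * w := hl.split.comm (hl.pair.star₁.le (hl.le hw)) hd
    have h2 : a * w = w * a := mem_centralizer_iff.1 (h0 hw) a ha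
    rw [mul_assoc, h2, ← mul_assoc, ← h1, mul_assoc]
  obtain ⟨b, hb, i, j, hij, hbs⟩ := S5.Nat.exists_swap h hs hne
  have hab : ∀ a ∈ cj y (zl (S : Subgroup G) P₂), ∀ b ∈ cj y (zl (S : Subgroup G) P₂), a * b = b * a := by
    intro a ha b hb
    have h1 := hl.off₁.elem.1
    exact congrArg Subtype.val (h1.is_comm.comm (⟨a, ha⟩ : ↥(cj y (zl (S : Subgroup G) P₂))) ⟨b, hb⟩)
  set c : G := ε (Pi.single i 1) with hc
  have hcb : b * c ≠ c * b := by
    intro h1
    have h2 := (swap_comm_iff h hn hij hbs _).mp h1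
    rw [Pi.single_eq_same, Pi.single_eq_of_ne hij.symm] at h2
    exact one_ne_zero h2
  have hcomm : ∀ a ∈ cj y (zl (S : Subgroup G) P₂), c * a * c⁻¹ * a⁻¹ = 1 ∨
      c * a * c⁻¹ * a⁻¹ = ε (Pi.single i 1 + Pi.single j 1) :=
    fun a ha => S5.Nat.comm_single hn h hs hab hb hij hbs ha
  -- the natural side
  have o3 := off_cj hl.off₂ y⁻¹
  rw [cj_inv_cj] at o3
  have hA : cj y⁻¹ (zl (S : Subgroup G) P₁) ≤ (S : Subgroup G) := by
    rw [cj_le_iff, inv_inv]
    exact hl.ge
  have hcA : y⁻¹ * c * y ∈ cj y⁻¹ (zl (S : Subgroup G) P₁) := by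
    rw [mem_cj]
    have e : y⁻¹⁻¹ * (y⁻¹ * c * y) * y⁻¹ = c := by group
    rw [e]
    exact hAV (h.mem _)
  have hcne : ¬ ∀ v ∈ zl (S : Subgroup G) P₂, y⁻¹ * c * y * v = v * (y⁻¹ * c * y) := by
    intro h1
    apply hcb
    have h2 := h1 (y⁻¹ * b * y) (mem_cj.mp hb)
    have e1 : b * c = y * (y⁻¹ * b * y * (y⁻¹ * c * y)) * y⁻¹ := by group
    have e2 : c * b = y * (y⁻¹ * c * y * (y⁻¹ * b * y)) * y⁻¹ := by group
    rw [e1, e2, h2]
  obtain ⟨f, hf, hfv⟩ := exists_comm hG hl.pair.star₂ M hA o3 hcA hcne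
  have hfin : ∀ z, y * f z * y⁻¹ = 1 ∨ y * f z * y⁻¹ = ε (Pi.single i 1 + Pi.single j 1) := by
    intro z
    obtain ⟨v, hv, h1⟩ := hfv z
    have hv' : y * v * y⁻¹ ∈ cj y (zl (S : Subgroup G) P₂) := by
      rw [mem_cj]
      have e : y⁻¹ * (y * v * y⁻¹) * y = v := by group
      rwa [e]
    have h2 := hcomm _ hv'
    have e : y * f z * y⁻¹ = c * (y * v * y⁻¹) * c⁻¹ * (y * v * y⁻¹)⁻¹ := by
      rw [h1]; group
    rw [e]
    exact h2
  have hinj : Function.Injective fun z => y * f z * y⁻¹ :=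
    fun z z' hz => hf (mul_left_cancel (mul_right_cancel hz))
  have hle2 : Nat.card F ≤ 2 := by
    classical
    have : Fintype F := Fintype.ofFinite F
    rw [Nat.card_eq_fintype_card, ← Finset.card_univ]
    refine (Finset.card_le_card_of_injOn (fun z => y * f z * y⁻¹) (t := {1, ε (Pi.single i 1 + Pi.single j 1)})
      ?_ hinj.injOn).trans Finset.card_le_two
    intro z _
    rw [Finset.coe_insert, Finset.coe_singleton]
    exact hfin z
  have hge2 : 2 ≤ Nat.card F := by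
    have : Nontrivial F := inferInstance
    exact Finite.one_lt_card
  exact le_antisymm hle2 hge2

/-- `|Ω₁(Z(S))| = 2 |D|` for `q = 2` -/
theorem card_zc (hG : IsCharacteristicTwoType G) {P : Subgroup G} (hP : IsParS (S : Subgroup G) P)
    {F : Type} [Field F] [Finite F] [CharP F 2]
    (M : NatK F (S : Subgroup G) P (zl (S : Subgroup G) P) (cv (S : Subgroup G) P) 1) (hF : Nat.card F = 2) :
    Nat.card (zc (S : Subgroup G)) = 2 * Nat.card (cv (S : Subgroup G) P) := by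
  have hs := HOne.splitPar_of_two hG S hP M.natOver hF
  have hle := HOne.cv_le_zc hG S hP M.natOver hs
  have hZV : zc (S : Subgroup G) ≤ zl (S : Subgroup G) P := MinSimple.VModule.zc_le_zl _ _
  -- two elements of `F`
  have hF2 : ∀ a : F, a = 0 ∨ a = 1 := by
    intro a
    by_contra hcon
    push Not at hcon
    have h3 : Nat.card (Fin 3) ≤ Nat.card F := by
      refine Nat.card_le_card_of_injective (![0, 1, a] : Fin 3 → F) ?_
      intro i j hij
      fin_cases i <;> fin_cases j <;> first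
        | rfl
        | (exfalso; first
            | exact hcon.1 (by simpa using hij)
            | exact hcon.1 (by simpa using hij.symm)
            | exact hcon.2 (by simpa using hij)
            | exact hcon.2 (by simpa using hij.symm)
            | exact zero_ne_one (by simpa using hij)
            | exact one_ne_zero (by simpa using hij))
    rw [Nat.card_fin, hF] at h3
    omega
  have hz1 : ∀ z ∈ zc (S : Subgroup G), M.e z 0 1 = 0 := by
    intro z hz
    obtain ⟨t, ht, h1, -⟩ := M.unip fun _ => 1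
    have h2 := h1 z (hZV hz) 0
    rw [(MinSimple.VModule.mem_zc.1 hz).2.1 t ht, mul_inv_cancel_right] at h2
    have h3 := congrFun h2 0
    rw [ap_zero'] at h3
    simp at h3
    exact h3
  obtain ⟨z₀, hz₀V, hz₀e, hz₀c⟩ := HOne.NSSide.exists_zc hG S hP M.natOver
  have hz₀ : z₀ ∈ zc (S : Subgroup G) := by
    have hzS : zl (S : Subgroup G) P ≤ (S : Subgroup G) :=
      ((hP.isLoc.zl_le S hG).trans (MinSimple.VModule.zc_le _)).trans (hP.isLoc.o2_le S)
    exact MinSimple.VModule.mem_zc.2 ⟨hzS hz₀V, hz₀c,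
      MinSimple.VModule.zc_sq _ _ (hP.isLoc.zl_le S hG hz₀V)⟩
  have hcase : ∀ z ∈ zc (S : Subgroup G), z ∈ cv (S : Subgroup G) P ∨ M.e z 0 0 = 1 := by
    intro z hz
    rcases hF2 (M.e z 0 0) with h1 | h1
    · left
      rw [← M.ker z (hZV hz)]
      funext i x
      rw [Subsingleton.elim i 0]
      fin_cases x
      · exact h1
      · exact hz1 z hz
    · exact Or.inr h1
  have hz₀1 : M.e z₀ 0 0 = 1 := by
    refine (hcase z₀ hz₀).resolve_left fun h1 => hz₀e ?_
    exact congrFun ((M.ker z₀ hz₀V).2 h1) 0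
  have hmem : ∀ z ∈ zc (S : Subgroup G), z ∈ cv (S : Subgroup G) P ↔ M.e z 0 0 = 0 := by
    intro z hz
    constructor
    · intro h1
      rw [(M.ker z (hZV hz)).2 h1]
      rfl
    · intro h1
      refine (hcase z hz).resolve_right ?_
      rw [h1]
      exact zero_ne_one
  have h1 : ((cv (S : Subgroup G) P).subgroupOf (zc (S : Subgroup G))).index = 2 := by
    rw [index_eq_two_iff]
    refine ⟨⟨z₀, hz₀⟩, fun b => ?_⟩
    have key : b * ⟨z₀, hz₀⟩ ∈ (cv (S : Subgroup G) P).subgroupOf (zc (S : Subgroup G)) ↔ M.e (b : G) 0 0 + 1 = 0 := by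
      rw [mem_subgroupOf, hmem _ (b * ⟨z₀, hz₀⟩ : zc (S : Subgroup G)).2]
      change M.e ((b : G) * z₀) 0 0 = 0 ↔ _
      rw [M.mul _ (hZV b.2) _ hz₀V, Pi.add_apply, Pi.add_apply, hz₀1]
    have key2 : b ∈ (cv (S : Subgroup G) P).subgroupOf (zc (S : Subgroup G)) ↔ M.e (b : G) 0 0 = 0 := by
      rw [mem_subgroupOf, hmem _ b.2]
    rw [key, key2]
    have h11 : (1 : F) + 1 = 0 := CharTwo.add_self_eq_zero 1
    rcases hF2 (M.e (b : G) 0 0) with h2 | h2
    · rw [h2, zero_add]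
      exact Or.inr ⟨rfl, one_ne_zero⟩
    · rw [h2, h11]
      exact Or.inl ⟨rfl, one_ne_zero⟩
  have h2 := card_mul_index ((cv (S : Subgroup G) P).subgroupOf (zc (S : Subgroup G)))
  rw [h1, Nat.card_congr (subgroupOfEquivOfLe hle).toEquiv] at h2
  rw [← h2, mul_comm]

end step

/-- **`NatStep`** -/
theorem natStep : NatStep.{u} := by
  intro G _ _ hG S P₁ P₂ y m A ε hm hl hN
  obtain ⟨F, i1, i2, i3, ⟨M⟩⟩ := hN
  have hF := card_F hG hm hl M
  refine ⟨?_, card_zc hG hl.pair.star₂ M hF⟩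
  rw [card_eq M inf_le_left, hF]
  norm_num

end Cfsg.Agent.Omega.F4Leaf.NatStep
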