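import Cfsg.Agent.Omega.F4Leaf.Main
import Cfsg.Agent.Omega.F4.Split
import Cfsg.Agent.Omega.FFMutual

/-!
# LeafF4 (0): `V_P = V₀ × A` for members of type `S_{2^m+1}` (`Main.SplitStep`)

From `Omega.F4.Split.exists_spl` (helper392).
-/

set_option autoImplicit false

namespace Cfsg.Agent.Omega.F4Leaf.Split

open Subgroup Pointwise Cfsg Cfsg.Agent.ZN Cfsg.Agent.ZN.ChoiceBase Cfsg.Agent.Omega.MinPar
open Cfsg.Agent.Omega.Frame Cfsg.Agent.Omega.FFThm
open Cfsg.Agent.Omega.FrameFF (cv Single Free)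
open Cfsg.Agent.Omega.FrameMulti (IsSym IsNat Typed AllTyped NoWr)
open Cfsg.Agent.Omega.S5.Def Cfsg.Agent.Omega.S5.Syl Cfsg.Agent.Omega.S5.Pair Cfsg.Agent.Omega.S5.Main

universe u

section main

variable {G : Type u} [Group G] [Finite G] {S : Sylow 2 G} {P : Subgroup G} {m : ℕ}

theorem exists_split (hG : IsCharacteristicTwoType G) (hP : IsParS (S : Subgroup G) P) (hm : 1 ≤ m)
    (M : SymK (S : Subgroup G) P (zl (S : Subgroup G) P) (cv (S : Subgroup G) P) 1 m) :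
    ∃ (A : Subgroup G) (ε : (Fin (2 ^ m + 1) → ZMod 2) → G), Def.Split (S : Subgroup G) P m A ε := by
  obtain ⟨A, ε, h, -, hac⟩ := F4.Split.exists_spl M hm (FFThm.syl_of_sylow S hP.le) (hP.isLoc.char2 S hG)
  refine ⟨A, ε, h.even, h.fix0, h.cent, ?_, ?_, ?_⟩
  · rw [sup_comm]
    exact h.sup
  · rw [inf_comm]
    exact h.inf
  · intro B hB hoff a ha
    obtain ⟨τ, h1, h2⟩ := (M.off B hB hoff).2 a ha
    refine ⟨τ 0, (hac a (hP.le (hB ha)) _).mp ((F4.Split.ac_iff M).mp h1), fun i hi => ?_⟩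
    obtain ⟨h3, b, hb, h4⟩ := h2 0 i hi
    refine ⟨h3, b, hb, ?_⟩
    have h5 := (F4.Split.ac_iff M).mp h4
    rw [Function.update_self] at h5
    exact (hac b (hP.le (hB hb)) _).mp h5

end main

/-- **`Main.SplitStep`.** -/
theorem splitStep : Main.SplitStep.{u} := by
  intro G _ _ hG S P m hm hP hS
  obtain ⟨M⟩ := hS
  exact exists_split hG hP (by omega) M

end Cfsg.Agent.Omega.F4Leaf.Split
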