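import Cfsg.Agent.Omega.F4Leaf.Main
import Cfsg.Agent.Omega.F4Leaf.Split
import Cfsg.Agent.Omega.F4Leaf.NatStep
import Cfsg.Agent.Omega.F4Leaf.NC
import Cfsg.Agent.Omega.F4Leaf.Two
import Cfsg.Agent.Omega.F4Leaf.Fin

/-!
# OMEGA: the open inputs of the leaf `FrameMulti.LeafF4` (assembler: helper816)

* `Open K` : (O1) (`NC.O1`), the 2-central case `m = m' = 2` and the natural partner with `m = 2` (`F4Cen`, `F4Nat`),
  (H2) for the members of degree `≥ 9` with `V₀ ≠ 1` (`Two.MemH2`);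
* `Open.leaf` : `Open K → LeafF4 K`.
-/

set_option autoImplicit false

namespace Cfsg.Agent.Omega.F4Leaf.Asm

open Cfsg Cfsg.Agent.Omega.MinPar Cfsg.Agent.Omega.Frame Cfsg.Agent.Omega.FrameMulti

universe u

/-- The open inputs of LeafF4. -/
structure Open (K : Cls.{u}) : Prop where
  o1 : NC.O1.{u}
  cen : Main.F4Cen K
  nat : Main.F4Nat K
  memH2 : Two.MemH2 K

theorem Open.leaf {K : Cls.{u}} (I : Open K) : LeafF4 K :=
  Main.leafF4_of Split.splitStep NatStep.natStep (NC.f4nc_of I.o1) I.cen I.nat (Last.f4NatBig_of I.memH2)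
    (Two.f4SymBig_of I.memH2)

end Cfsg.Agent.Omega.F4Leaf.Asm
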