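import Cfsg.Agent.Omega.S5.Main

/-!
# LeafF4: members of type `S_{2^m+1}` with `C_V(O²(P)) ≠ 1` (#15257)

* `Split S P m A ε` : `V_P = V₀ × A`, `V₀ = cv S P` centralised by `P`, `A` the even-subset module with labels `ε`;
* `Split.zc_mul`, `Split.cv_le_zc`, `Split.card_zc` : `Ω₁(Z(S)) = V₀ × ⟨z₀⟩`, `|Ω₁(Z(S))| = 2 |V₀|`;
* `LabZ`, `LabTwoZ` : the labelled positions of mutual pairs (`S5.Main.Lab`, `LabTwo` with `V₀`).
-/

set_option autoImplicit false

namespace Cfsg.Agent.Omega.F4Leaf.Def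

open Subgroup Pointwise Cfsg Cfsg.Agent.ZN Cfsg.Agent.ZN.ChoiceBase Cfsg.Agent.Omega.MinPar
open Cfsg.Agent.Omega.Frame Cfsg.Agent.Omega.FFThm
open Cfsg.Agent.Omega.FrameFF (cv Single Free)
open Cfsg.Agent.Omega.FrameMulti (IsSym IsNat Typed AllTyped NoWr)
open Cfsg.Agent.Omega.S5.Def Cfsg.Agent.Omega.S5.Syl Cfsg.Agent.Omega.S5.Pair Cfsg.Agent.Omega.S5.Main
open Cfsg.Agent.MinSimple.VModule (le_normalizer_zl zc_le_zl mem_zc zc_comm zc_sq zc_le zl_le zl_comm zl_sq)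

universe u

variable {G : Type u} [Group G]

/-- `V_P = V₀ × A`, `V₀ = C_{V_P}(O²(P))` centralised by `P`, `A` the even-subset module of degree `2^m + 1` with
labels `ε`, `S` fixes the label `0`. -/
structure Split (S P : Subgroup G) (m : ℕ) (A : Subgroup G) (ε : (Fin (2 ^ m + 1) → ZMod 2) → G) : Prop where
  even : EvenSet (2 ^ m + 1) A P ε
  fix0 : Fix0 ε S
  cen : P ≤ centralizer (cv S P : Set G)
  sup : cv S P ⊔ A = zl S P
  disj : cv S P ⊓ A = ⊥
  side : ∀ B : Subgroup G, B ≤ S → Off (zl S P) B → Side B ε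

/-- The labelled position of a mutual pair with first member of type `S_{2^m+1}`. -/
structure LabZ [Finite G] (S : Sylow 2 G) (P₁ P₂ : Subgroup G) (y : G) (m : ℕ) (A : Subgroup G)
    (ε : (Fin (2 ^ m + 1) → ZMod 2) → G) : Prop extends Pos S P₁ P₂ y where
  split : Split (S : Subgroup G) P₁ m A ε
  side : Side (cj y (zl (S : Subgroup G) P₂)) ε

/-- Both members are of type `S_{2^m+1}`, `S_{2^m'+1}`. -/
structure LabTwoZ [Finite G] (S : Sylow 2 G) (P₁ P₂ : Subgroup G) (y : G) (m m' : ℕ) (A : Subgroup G)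
    (ε : (Fin (2 ^ m + 1) → ZMod 2) → G) (A₂ : Subgroup G) (ε₂ : (Fin (2 ^ m' + 1) → ZMod 2) → G) : Prop
    extends LabZ S P₁ P₂ y m A ε where
  split₂ : Split (S : Subgroup G) P₂ m' A₂ ε₂
  side₂ : Side (zl (S : Subgroup G) P₁) fun x => y * ε₂ x * y⁻¹

namespace Split

section basic

variable {S P A : Subgroup G} {m : ℕ} {ε : (Fin (2 ^ m + 1) → ZMod 2) → G} (h : Split S P m A ε)
include h

theorem A_le : A ≤ zl S P := h.sup ▸ le_sup_right

theorem comm {g v : G} (hg : g ∈ P) (hv : v ∈ cv S P) : g * v = v * g :=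
  (mem_centralizer_iff.mp (h.cen hg) v hv).symm

end basic

section fin

variable [Finite G] {S : Sylow 2 G} {P A : Subgroup G} {m : ℕ} {ε : (Fin (2 ^ m + 1) → ZMod 2) → G}
  (h : Split (S : Subgroup G) P m A ε) (hG : IsCharacteristicTwoType G) (hP : IsParS (S : Subgroup G) P)
include h hG hP

theorem mul_eq {x : G} (hx : x ∈ zl (S : Subgroup G) P) : ∃ v ∈ cv (S : Subgroup G) P, ∃ a ∈ A, x = v * a := by
  have h1 : x ∈ cv (S : Subgroup G) P ⊔ A := h.sup.symm ▸ hx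
  have e := elem_zl hG S hP.isLoc
  have hn : A ≤ normalizer (cv (S : Subgroup G) P : Set G) := by
    intro a ha
    rw [mem_normalizer_iff]
    have hc : ∀ v ∈ zl (S : Subgroup G) P, a * v * a⁻¹ = v := by
      intro v hv
      have h2 : a * v = v * a := congrArg Subtype.val (e.1.1.comm ⟨a, h.A_le ha⟩ ⟨v, hv⟩)
      rw [h2, mul_inv_cancel_right]
    have hc' : ∀ v ∈ zl (S : Subgroup G) P, a⁻¹ * v * a = v := by
      intro v hv
      have h2 : a * v = v * a := congrArg Subtype.val (e.1.1.comm ⟨a, h.A_le ha⟩ ⟨v, hv⟩)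
      calc a⁻¹ * v * a = a⁻¹ * (v * a) := by group
        _ = v := by rw [← h2]; group
    refine fun v => ⟨fun hv => ?_, fun hv => ?_⟩
    · rwa [hc v hv.1]
    · have h3 := hc' _ hv.1
      have h4 : a⁻¹ * (a * v * a⁻¹) * a = v := by group
      rw [h4] at h3
      rwa [h3]
  rw [← SetLike.mem_coe, coe_mul_of_right_le_normalizer_left _ _ hn] at h1
  obtain ⟨v, hv, a, ha, rfl⟩ := h1
  exact ⟨v, hv, a, ha, rfl⟩

theorem cv_le_zc : cv (S : Subgroup G) P ≤ zc (S : Subgroup G) := by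
  intro v hv
  have hS : Nat.card G ≠ 0 := Nat.card_pos.ne'
  have hvS : v ∈ (S : Subgroup G) := by
    have h2 := MinSimple.VModule.zl_le_zc (S := (S : Subgroup G)) hP.le S.isPGroup'
      (MinSimple.Basic.not_dvd_relIndex S hP.le) (hP.isLoc.char2 S hG) hv.1
    exact MinSimple.VModule.o2_le_of_sylow S.isPGroup' (MinSimple.Basic.not_dvd_relIndex S hP.le) (zc_le _ h2)
  exact MinSimple.VModule.mem_zc.mpr ⟨hvS, fun s hs => h.comm (hP.le hs) hv, zl_sq hP.le S.isPGroup'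
    (MinSimple.Basic.not_dvd_relIndex S hP.le) (hP.isLoc.char2 S hG) v hv.1⟩

/-- `Ω₁(Z(S)) = V₀ × ⟨z₀⟩` -/
theorem zc_mul (hm : 1 ≤ m) {z : G} (hz : z ∈ zc (S : Subgroup G)) :
    z ∈ cv (S : Subgroup G) P ∨ z * ε (Pi.single 0 1) ∈ cv (S : Subgroup G) P := by
  obtain ⟨v, hv, a, ha, rfl⟩ := h.mul_eq hG hP (zc_le_zl _ _ hz)
  have h1 : ∀ s ∈ (S : Subgroup G), s * a = a * s := by
    intro s hs
    have h2 := (MinSimple.VModule.mem_zc.mp hz).2.1 s hs
    have h3 := h.comm (hP.le hs) hv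
    calc s * a = v⁻¹ * (v * s) * a := by group
      _ = v⁻¹ * (s * v) * a := by rw [h3]
      _ = v⁻¹ * (s * (v * a)) := by group
      _ = v⁻¹ * (v * a * s) := by rw [h2]
      _ = a * s := by group
  rcases S5.Syl.fixed hm h.even hP.le (MinSimple.Basic.not_dvd_relIndex S hP.le) h.fix0 ha h1 with h2 | h2
  · left
    rw [h2, mul_one]
    exact hv
  · right
    rw [h2, mul_assoc, h.even.sq, mul_one]
    exact hv

theorem z0_mem (hm : 1 ≤ m) : ε (Pi.single 0 1) ∈ zc (S : Subgroup G) := by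
  have hA := h.A_le (h.even.mem (Pi.single 0 1))
  have hvS : ε (Pi.single 0 1) ∈ (S : Subgroup G) := by
    have h2 := MinSimple.VModule.zl_le_zc (S := (S : Subgroup G)) hP.le S.isPGroup'
      (MinSimple.Basic.not_dvd_relIndex S hP.le) (hP.isLoc.char2 S hG) hA
    exact MinSimple.VModule.o2_le_of_sylow S.isPGroup' (MinSimple.Basic.not_dvd_relIndex S hP.le) (zc_le _ h2)
  refine MinSimple.VModule.mem_zc.mpr ⟨hvS, fun s hs => ?_, h.even.sq _ ▸ pow_two _⟩
  obtain ⟨σ, hσ⟩ := h.even.perm s (hP.le hs)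
  exact (h.even.fixes_iff (three_le hm) hσ 0).mpr (h.fix0 s hs σ hσ)

/-- `|Ω₁(Z(S))| = 2 |V₀|` -/
theorem card_zc (hm : 1 ≤ m) : Nat.card (zc (S : Subgroup G)) = 2 * Nat.card (cv (S : Subgroup G) P) := by
  have h1 : ((cv (S : Subgroup G) P).subgroupOf (zc (S : Subgroup G))).index = 2 := by
    rw [index_eq_two_iff]
    refine ⟨⟨ε (Pi.single 0 1), h.z0_mem hG hP hm⟩, fun b => ?_⟩
    have key : b * ⟨ε (Pi.single 0 1), h.z0_mem hG hP hm⟩ ∈ (cv (S : Subgroup G) P).subgroupOf (zc (S : Subgroup G)) ↔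
        (b : G) * ε (Pi.single 0 1) ∈ cv (S : Subgroup G) P := mem_subgroupOf
    have key2 : b ∈ (cv (S : Subgroup G) P).subgroupOf (zc (S : Subgroup G)) ↔
        (b : G) ∈ cv (S : Subgroup G) P := mem_subgroupOf
    rw [key, key2]
    have hnot : ¬ ((b : G) * ε (Pi.single 0 1) ∈ cv (S : Subgroup G) P ∧ (b : G) ∈ cv (S : Subgroup G) P) := by
      rintro ⟨h2, h3⟩
      have h4 : ε (Pi.single 0 1) ∈ cv (S : Subgroup G) P := by
        have h5 := mul_mem (inv_mem h3) h2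
        rwa [inv_mul_cancel_left] at h5
      have h5 : ε (Pi.single 0 1) ∈ (⊥ : Subgroup G) := h.disj ▸ ⟨h4, h.even.mem _⟩
      exact h.even.single_ne_one (three_le hm) 0 (mem_bot.mp h5)
    rcases h.zc_mul hG hP hm b.2 with h2 | h2
    · exact Or.inr ⟨h2, fun h3 => hnot ⟨h3, h2⟩⟩
    · exact Or.inl ⟨h2, fun h3 => hnot ⟨h2, h3⟩⟩
  have h2 := card_mul_index ((cv (S : Subgroup G) P).subgroupOf (zc (S : Subgroup G)))
  rw [h1, Nat.card_congr (subgroupOfEquivOfLe (h.cv_le_zc hG hP)).toEquiv] at h2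
  rw [← h2, mul_comm]

end fin

end Split

end Cfsg.Agent.Omega.F4Leaf.Def
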