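import Cfsg.Agent.Omega.NSix.Basic
import Cfsg.Agent.Omega.S5.Syl
import Cfsg.Agent.MinSimple.VModule

/-!
# OMEGA N6 / LeafF4 (O4), `(H1)` (bb #14675, #15264): `O₂(C_G(r_ij)) ≤ P`

`A` is the even-subset module of degree `2 ^ m + 1` of `P ≥ S`, `S ∈ Syl₂(G)`, and `r_kl` is centralised by
`O₂(C_G(r_ij))` for disjoint pairs.  Then `O₂(C_G(r_ij)) ≤ P` for all pairs; it acts on `A` inside `⟨(i j)⟩` and
centralises every subgroup `V₀` which is centralised by `P`.
-/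

set_option autoImplicit false

namespace Cfsg.Agent.Omega.F4Leaf.HOne

open Subgroup Cfsg Cfsg.Agent.ZN Cfsg.Agent.MinSimple.VModule
open Cfsg.Agent.Omega.S5.Def Cfsg.Agent.Omega.S5.Syl Cfsg.Agent.Omega.NSix.Base Cfsg.Agent.Omega.NSix.Basic

universe u

variable {G : Type u} [Group G]

/-! ### Pairwise normalising 2-subgroups -/

/-- Pairwise normalising 2-subgroups generate a 2-subgroup. -/
theorem isPGroup_iSup {ι : Type*} (s : Finset ι) (Q : ι → Subgroup G) (h2 : ∀ i ∈ s, IsPGroup 2 (Q i))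
    (hn : ∀ i ∈ s, ∀ j ∈ s, Q i ≤ normalizer (Q j : Set G)) : IsPGroup 2 ((⨆ i ∈ s, Q i : Subgroup G)) := by
  classical
  induction s using Finset.induction_on with
  | empty =>
    have e : ((⨆ i ∈ (∅ : Finset ι), Q i : Subgroup G)) = ⊥ := by simp
    rw [e]
    exact IsPGroup.of_bot
  | insert a s ha ih =>
    rw [Finset.iSup_insert]
    refine IsPGroup.to_sup_of_normal_right' (h2 a (Finset.mem_insert_self _ _))
      (ih (fun i hi => h2 i (Finset.mem_insert_of_mem hi))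
        (fun i hi j hj => hn i (Finset.mem_insert_of_mem hi) j (Finset.mem_insert_of_mem hj))) ?_
    have key : ∀ g ∈ Q a, ∀ x ∈ (⨆ i ∈ s, Q i : Subgroup G), g * x * g⁻¹ ∈ (⨆ i ∈ s, Q i : Subgroup G) := by
      intro g hg x hx
      have h1 : (⨆ i ∈ s, Q i : Subgroup G) ≤ (⨆ i ∈ s, Q i : Subgroup G).comap (MulAut.conj g).toMonoidHom := by
        refine iSup₂_le fun i hi y hy => ?_
        have h3 : g * y * g⁻¹ ∈ Q i :=
          (mem_normalizer_iff.mp (hn a (Finset.mem_insert_self _ _) i (Finset.mem_insert_of_mem hi) hg) y).mp hy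
        exact (le_iSup₂ (f := fun i (_ : i ∈ s) => Q i) i hi) h3
      exact h1 hx
    intro g hg
    rw [mem_normalizer_iff]
    refine fun x => ⟨key g hg x, fun hx => ?_⟩
    have h1 := key g⁻¹ (inv_mem hg) _ hx
    have e : g⁻¹ * (g * x * g⁻¹) * g⁻¹⁻¹ = x := by group
    rwa [e] at h1

/-- A 2-group normalised by a Sylow 2-subgroup lies in it. -/
theorem le_sylow [Finite G] {S R : Subgroup G} (hS : IsPGroup 2 S) (hi : ¬ 2 ∣ S.index) (hR : IsPGroup 2 R)
    (hn : S ≤ normalizer (R : Set G)) : R ≤ S := by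
  have hf : Fact (Nat.Prime 2) := ⟨Nat.prime_two⟩
  have h1 : IsPGroup 2 ((S ⊔ R : Subgroup G)) := IsPGroup.to_sup_of_normal_right' hS hR hn
  have h2 : (S ⊔ R : Subgroup G) = (hS.toSylow hi : Sylow 2 G) :=
    (hS.toSylow hi).is_maximal' h1 le_sup_left
  calc R ≤ S ⊔ R := le_sup_right
    _ = S := h2

/-! ### The fixed-point-free involution in the centre of a Sylow 2-subgroup of `Sym(2 ^ m)` -/

section

variable {m : ℕ} {S P A : Subgroup G} {ε : (Fin (2 ^ m + 1) → ZMod 2) → G}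

/-- A matching of the labels `≠ 0` invariant under `S`. -/
theorem exists_matching [Finite G] (hm : 1 ≤ m) (h : EvenSet (2 ^ m + 1) A P ε) (h0 : Fix0 ε S) (hSP : S ≤ P)
    (hS : IsPGroup 2 S) (hSi : ¬ 2 ∣ S.relIndex P) :
    ∃ t : Equiv.Perm (Fin (2 ^ m + 1)), t 0 = 0 ∧ (∀ i, t (t i) = i) ∧ (∀ i, i ≠ 0 → t i ≠ i) ∧
      ∀ s ∈ S, ∀ σ : Equiv.Perm (Fin (2 ^ m + 1)), Acts ε s σ → ∀ i, σ (t i) = t (σ i) := by
  classical
  have hf : Fact (Nat.Prime 2) := ⟨Nat.prime_two⟩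
  have hn := three_le hm
  let π := h.hom hn
  let T : Subgroup (Equiv.Perm (Fin (2 ^ m + 1))) := (S.subgroupOf P).map π
  have hT : IsPGroup 2 T := (hS.comap_of_injective _ P.subtype_injective).map _
  have hmem : ∀ s ∈ S, ∀ σ : Equiv.Perm (Fin (2 ^ m + 1)), Acts ε s σ → σ ∈ T := fun s hs σ hσ =>
    ⟨⟨s, hSP hs⟩, hs, h.hom_eq hn hσ⟩
  have hT0 : ∀ σ ∈ T, σ 0 = 0 := by
    rintro σ ⟨s, hs, rfl⟩
    exact h0 s hs _ (h.acts_hom hn s)
  have hTt : ∀ i j, i ≠ 0 → j ≠ 0 → ∃ σ ∈ T, σ i = j := by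
    intro i j hi hj
    obtain ⟨s, hs, σ, hσ, hij⟩ := trans hm h hSP hSi h0 hi hj
    exact ⟨σ, hmem s hs σ hσ, hij⟩
  have h2m : 2 ≤ 2 ^ m := by
    calc 2 = 2 ^ 1 := by norm_num
      _ ≤ 2 ^ m := Nat.pow_le_pow_right (by norm_num) hm
  -- two labels different from 0
  let i1 : Fin (2 ^ m + 1) := ⟨1, by omega⟩
  let i2 : Fin (2 ^ m + 1) := ⟨2, by omega⟩
  have hi1 : i1 ≠ 0 := by
    intro h1
    have := congrArg Fin.val h1
    simp [i1] at this
  have hi2 : i2 ≠ 0 := by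
    intro h1
    have := congrArg Fin.val h1
    simp [i2] at this
  have hi12 : i1 ≠ i2 := by
    intro h1
    have := congrArg Fin.val h1
    simp [i1, i2] at this
  have hTn : Nontrivial T := by
    obtain ⟨σ, hσ, h1⟩ := hTt i1 i2 hi1 hi2
    refine ⟨⟨⟨σ, hσ⟩, 1, fun e => hi12 ?_⟩⟩
    have e1 : σ = 1 := congrArg Subtype.val e
    rw [← h1, e1]
    rfl
  have hc := hT.center_nontrivial
  obtain ⟨k, hk⟩ := IsPGroup.iff_card.mp (hT.to_subgroup (Subgroup.center T))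
  have hk0 : k ≠ 0 := by
    rintro rfl
    have := Finite.one_lt_card_iff_nontrivial.mpr hc
    rw [hk] at this
    simp at this
  obtain ⟨t, ht⟩ := exists_prime_orderOf_dvd_card' (G := Subgroup.center T) 2
    (by rw [hk]; exact dvd_pow_self 2 hk0)
  have ht2 : t * t = 1 := by
    have := pow_orderOf_eq_one t
    rwa [ht, pow_two] at this
  set τ : Equiv.Perm (Fin (2 ^ m + 1)) := ((t : T) : Equiv.Perm (Fin (2 ^ m + 1))) with hτ
  have hcomm : ∀ s ∈ T, ∀ i, s (τ i) = τ (s i) := by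
    intro s hs i
    have h1 := (Subgroup.mem_center_iff.mp t.2) ⟨s, hs⟩
    have h2 : s * τ = τ * s := congrArg Subtype.val h1
    exact DFunLike.congr_fun h2 i
  refine ⟨τ, hT0 τ (t : T).2, ?_, ?_, fun s hs σ hσ i => hcomm σ (hmem s hs σ hσ) i⟩
  · intro i
    have h1 : τ * τ = 1 := congrArg (fun x : Subgroup.center T => ((x : T) : Equiv.Perm (Fin (2 ^ m + 1)))) ht2
    exact DFunLike.congr_fun h1 i
  · intro i hi0 hi
    have h1 : τ = 1 := by
      ext j
      congr 1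
      by_cases hj : j = 0
      · subst hj
        exact hT0 τ (t : T).2
      · obtain ⟨s, hs, rfl⟩ := hTt i j hi0 hj
        rw [← hcomm s hs i, hi]
        rfl
    have h2 : t = 1 := by
      apply Subtype.ext
      apply Subtype.ext
      exact h1
    rw [h2, orderOf_one] at ht
    norm_num at ht

/-! ### `(H1)` -/

/-- `NN` and conjugation -/
theorem conj_NN_iff {g x : G} {σ : Equiv.Perm (Fin (2 ^ m + 1))} (hg : Acts ε g σ) {i j : Fin (2 ^ m + 1)} :
    g * x * g⁻¹ ∈ NN ε (σ i) (σ j) ↔ x ∈ NN ε i j := by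
  refine ⟨fun h1 => ?_, conj_NN hg⟩
  have h2 := conj_NN hg.inv h1
  have e1 : ∀ k, σ⁻¹ (σ k) = k := fun k => σ.symm_apply_apply k
  rw [e1, e1] at h2
  have e : g⁻¹ * (g * x * g⁻¹) * g⁻¹⁻¹ = x := by group
  rwa [e] at h2

/-- `O₂(N_ij)^g = O₂(N_{σi,σj})` -/
theorem conj_o2 {g x : G} {σ : Equiv.Perm (Fin (2 ^ m + 1))} (hg : Acts ε g σ) {i j : Fin (2 ^ m + 1)}
    (hx : x ∈ o2 (NN ε i j)) : g * x * g⁻¹ ∈ o2 (NN ε (σ i) (σ j)) := by
  have h1 : (o2 (NN ε i j)).map (MulAut.conj g).toMonoidHom ≤ o2 (NN ε (σ i) (σ j)) := by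
    apply le_o2
    · rintro _ ⟨y, hy, rfl⟩
      exact conj_NN hg (o2_le _ hy)
    · exact (o2_isPGroup _).map _
    · have key : ∀ l ∈ NN ε (σ i) (σ j), ∀ y ∈ (o2 (NN ε i j)).map (MulAut.conj g).toMonoidHom,
          l * y * l⁻¹ ∈ (o2 (NN ε i j)).map (MulAut.conj g).toMonoidHom := by
        rintro l hl _ ⟨y, hy, rfl⟩
        have h2 : g⁻¹ * l * g ∈ NN ε i j := by
          rw [← conj_NN_iff hg]
          have e : g * (g⁻¹ * l * g) * g⁻¹ = l := by group
          rwa [e]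
        refine ⟨(g⁻¹ * l * g) * y * (g⁻¹ * l * g)⁻¹,
          (mem_normalizer_iff.mp (le_normalizer_o2 _ h2) y).mp hy, ?_⟩
        change g * ((g⁻¹ * l * g) * y * (g⁻¹ * l * g)⁻¹) * g⁻¹ = l * (g * y * g⁻¹) * l⁻¹
        group
      intro l hl
      rw [mem_normalizer_iff]
      refine fun y => ⟨key l hl y, fun hy => ?_⟩
      have := key l⁻¹ (inv_mem hl) _ hy
      have h3 : l⁻¹ * (l * y * l⁻¹) * l⁻¹⁻¹ = y := by group
      rwa [h3] at this
  exact h1 ⟨x, hx, rfl⟩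

variable [Finite G] (hm : 1 ≤ m) (h : EvenSet (2 ^ m + 1) A P ε) (h0 : Fix0 ε S) (hSP : S ≤ P)
  (hS : IsPGroup 2 S) (hSi : ¬ 2 ∣ S.index)
  (hz : ∀ i j k l, i ≠ j → k ≠ l → i ≠ k → i ≠ l → j ≠ k → j ≠ l →
    ∀ x ∈ o2 (NN ε i j), x * rr ε k l = rr ε k l * x)
include hm h h0 hSP hS hSi hz

omit hm in
/-- For the pairs of an `S`-invariant matching. -/
theorem matching_le {t : Equiv.Perm (Fin (2 ^ m + 1))} (tt : ∀ i, t (t i) = i)
    (tf : ∀ i, i ≠ 0 → t i ≠ i)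
    (ts : ∀ s ∈ S, ∀ σ : Equiv.Perm (Fin (2 ^ m + 1)), Acts ε s σ → ∀ i, σ (t i) = t (σ i))
    {i : Fin (2 ^ m + 1)} (hi : i ≠ 0) : o2 (NN ε i (t i)) ≤ S := by
  classical
  set s : Finset (Fin (2 ^ m + 1)) := Finset.univ.erase 0 with hs
  have hmem : ∀ {j : Fin (2 ^ m + 1)}, j ∈ s ↔ j ≠ 0 := by
    intro j
    rw [hs, Finset.mem_erase]
    exact ⟨fun h => h.1, fun h => ⟨h, Finset.mem_univ _⟩⟩
  have hR : IsPGroup 2 ((⨆ j ∈ s, o2 (NN ε j (t j)) : Subgroup G)) := by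
    refine isPGroup_iSup s _ (fun j _ => o2_isPGroup _) fun j hj k hk => ?_
    rw [hmem] at hj hk
    by_cases h1 : j = k
    · subst h1
      exact le_normalizer
    by_cases h2 : j = t k
    · have h3 : t j = k := by rw [h2, tt]
      rw [h3, ← h2, NN_symm h]
      exact le_normalizer
    have h3 : t j ≠ k := by
      intro h3
      exact h2 (by rw [← h3, tt])
    have h4 : t j ≠ t k := fun h4 => h1 (t.injective h4)
    refine le_trans ?_ (le_normalizer_o2 _)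
    intro x hx
    rw [mem_NN]
    exact hz j (t j) k (t k) (tf j hj).symm (tf k hk).symm h1 h2 h3 h4 x hx
  have hn : S ≤ normalizer ((⨆ j ∈ s, o2 (NN ε j (t j)) : Subgroup G) : Set G) := by
    have key : ∀ g ∈ S, ∀ x ∈ (⨆ j ∈ s, o2 (NN ε j (t j)) : Subgroup G),
        g * x * g⁻¹ ∈ (⨆ j ∈ s, o2 (NN ε j (t j)) : Subgroup G) := by
      intro g hg x hx
      have h1 : (⨆ j ∈ s, o2 (NN ε j (t j)) : Subgroup G) ≤
          (⨆ j ∈ s, o2 (NN ε j (t j)) : Subgroup G).comap (MulAut.conj g).toMonoidHom := by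
        refine iSup₂_le fun j hj y hy => ?_
        obtain ⟨σ, hσ⟩ := h.perm g (hSP hg)
        have h3 := conj_o2 hσ hy
        rw [ts g hg σ hσ] at h3
        have h4 : σ j ∈ s := by
          rw [hmem] at hj ⊢
          intro h5
          apply hj
          apply σ.injective
          rw [h5, h0 g hg σ hσ]
        exact (le_iSup₂ (f := fun j (_ : j ∈ s) => o2 (NN ε j (t j))) (σ j) h4) h3
      exact h1 hx
    intro g hg
    rw [mem_normalizer_iff]
    refine fun x => ⟨key g hg x, fun hx => ?_⟩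
    have h1 := key g⁻¹ (inv_mem hg) _ hx
    have e : g⁻¹ * (g * x * g⁻¹) * g⁻¹⁻¹ = x := by group
    rwa [e] at h1
  exact (le_iSup₂ (f := fun j (_ : j ∈ s) => o2 (NN ε j (t j))) i (hmem.mpr hi)).trans
    (le_sylow hS hSi hR hn)

/-- **(H1)**: `O₂(C_G(r_ij)) ≤ P`. -/
theorem o2_le_P {i j : Fin (2 ^ m + 1)} (hij : i ≠ j) : o2 (NN ε i j) ≤ P := by
  have hSi' : ¬ 2 ∣ S.relIndex P := fun h1 => hSi (h1.trans (relIndex_dvd_index_of_le hSP))
  obtain ⟨t, -, tt, tf, ts⟩ := exists_matching hm h h0 hSP hS hSi'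
  have h2m : 2 ≤ 2 ^ m := by
    calc 2 = 2 ^ 1 := by norm_num
      _ ≤ 2 ^ m := Nat.pow_le_pow_right (by norm_num) hm
  let i1 : Fin (2 ^ m + 1) := ⟨1, by omega⟩
  have hi1 : i1 ≠ 0 := by
    intro h1
    have := congrArg Fin.val h1
    simp [i1] at this
  obtain ⟨σ, h1, h2, -⟩ := exists_perm hij (tf i1 hi1).symm
  obtain ⟨g, hg, hσ⟩ := h.full σ
  intro x hx
  have h3 := conj_o2 hσ hx
  rw [h1, h2] at h3
  have h4 := hSP (matching_le h h0 hSP hS hSi hz tt tf ts hi1 h3)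
  have e : x = g⁻¹ * (g * x * g⁻¹) * g := by group
  rw [e]
  exact mul_mem (mul_mem (inv_mem hg) h4) hg

/-- `O₂(N_ij)` acts on `A` inside `⟨(i j)⟩`. -/
theorem acts {i j : Fin (2 ^ m + 1)} (hij : i ≠ j) (hm2 : 2 ≤ m) {x : G} (hx : x ∈ o2 (NN ε i j)) :
    Acts ε x 1 ∨ Acts ε x (Equiv.swap i j) := by
  have hn := three_le hm
  obtain ⟨σ, hσ⟩ := h.perm x (o2_le_P hm h h0 hSP hS hSi hz hij hx)
  have hpow : 4 ≤ 2 ^ m := by
    calc 4 = 2 ^ 2 := by norm_num
      _ ≤ 2 ^ m := Nat.pow_le_pow_right (by norm_num) hm2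
  -- `σ` fixes the pairs disjoint from `{i, j}`
  have hp : ∀ k l, k ≠ l → i ≠ k → i ≠ l → j ≠ k → j ≠ l → σ k = k ∨ σ k = l := by
    intro k l hkl h1 h2 h3 h4
    have h5 := hz i j k l hij hkl h1 h2 h3 h4 x hx
    have h6 : rr ε (σ k) (σ l) = rr ε k l := by
      rw [← rr_conj hσ, h5, mul_inv_cancel_right]
    by_contra h7
    push Not at h7
    have h8 : rr ε (σ k) (σ l) = ε (Pi.single (σ k) 1 + Pi.single (σ l) 1) := (h.add _ _).symm
    have h9 : rr ε k l = ε (Pi.single k 1 + Pi.single l 1) := (h.add _ _).symm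
    rw [h8, h9] at h6
    have hkl' : σ k ≠ σ l := σ.injective.ne hkl
    rcases h.eq_iff.mp h6 with h10 | h10
    · have h11 := congrFun h10 (σ k)
      simp [h7.1, h7.2, hkl'] at h11
    · obtain ⟨u, -, hu⟩ := Finset.exists_mem_notMem_of_card_lt_card (s := ({k, l, σ k, σ l} : Finset _))
        (t := Finset.univ) (by
          rw [Finset.card_univ, Fintype.card_fin]
          exact lt_of_le_of_lt Finset.card_le_four (by omega))
      simp only [Finset.mem_insert, Finset.mem_singleton, not_or] at hu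
      obtain ⟨u1, u2, u3, u4⟩ := hu
      have h11 := congrFun h10 u
      simp [u1, u2, u3, u4] at h11
  have hfix : ∀ k, i ≠ k → j ≠ k → σ k = k := by
    intro k h1 h2
    obtain ⟨l, -, hl⟩ := Finset.exists_mem_notMem_of_card_lt_card (s := ({i, j, k} : Finset _))
      (t := Finset.univ) (by
        rw [Finset.card_univ, Fintype.card_fin]
        exact lt_of_le_of_lt Finset.card_le_three (by omega))
    obtain ⟨l', -, hl'⟩ := Finset.exists_mem_notMem_of_card_lt_card (s := ({i, j, k, l} : Finset _))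
      (t := Finset.univ) (by
        rw [Finset.card_univ, Fintype.card_fin]
        exact lt_of_le_of_lt Finset.card_le_four (by omega))
    simp only [Finset.mem_insert, Finset.mem_singleton, not_or] at hl hl'
    rcases hp k l (Ne.symm hl.2.2) h1 (Ne.symm hl.1) h2 (Ne.symm hl.2.1) with h3 | h3
    · exact h3
    · rcases hp k l' (Ne.symm hl'.2.2.1) h1 (Ne.symm hl'.1) h2 (Ne.symm hl'.2.1) with h4 | h4
      · exact h4
      · exact absurd (h4.symm.trans h3) hl'.2.2.2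
  by_cases hi : σ i = i
  · left
    have h1 : σ = 1 := by
      ext k
      congr 1
      by_cases hk : k = i
      · rw [hk]
        exact hi
      by_cases hk' : k = j
      · subst hk'
        by_contra h2
        have h3 : σ k ≠ i := fun h3 => hk (σ.injective (h3.trans hi.symm))
        have h4 := hfix (σ k) (Ne.symm h3) (Ne.symm h2)
        exact h2 (σ.injective h4)
      · exact hfix k (Ne.symm hk) (Ne.symm hk')
    rw [← h1]
    exact hσ
  · right
    have hi' : σ i = j := by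
      by_contra h2
      have h4 := hfix (σ i) (Ne.symm hi) (Ne.symm h2)
      exact hi (σ.injective h4)
    have hj' : σ j = i := by
      by_contra h2
      have h3 : σ j ≠ j := by
        intro h3
        exact hij (σ.injective (hi'.trans h3.symm))
      have h4 := hfix (σ j) (Ne.symm h2) (Ne.symm h3)
      exact h3 (σ.injective h4)
    have h1 : σ = Equiv.swap i j := by
      ext k
      congr 1
      by_cases hk : k = i
      · rw [hk, Equiv.swap_apply_left, hi']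
      by_cases hk' : k = j
      · rw [hk', Equiv.swap_apply_right, hj']
      · rw [Equiv.swap_apply_of_ne_of_ne hk hk']
        exact hfix k (Ne.symm hk) (Ne.symm hk')
    rw [← h1]
    exact hσ

/-- `O₂(N_ij)` centralises the points `k ≠ i, j` of `A`, i.e. `r_ij^⊥`. -/
theorem comm_zz {i j : Fin (2 ^ m + 1)} (hij : i ≠ j) (hm2 : 2 ≤ m) {x : G} (hx : x ∈ o2 (NN ε i j))
    {k : Fin (2 ^ m + 1)} (hi : k ≠ i) (hj : k ≠ j) : x * zz ε k = zz ε k * x := by
  have h1 : x * zz ε k * x⁻¹ = zz ε k := by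
    rcases acts hm h h0 hSP hS hSi hz hij hm2 hx with h2 | h2
    · rw [zz_conj h2]
      rfl
    · rw [zz_conj h2, Equiv.swap_apply_of_ne_of_ne hi hj]
  rw [mul_inv_eq_iff_eq_mul] at h1
  exact h1

/-- `O₂(N_ij)` centralises `V₀`. -/
theorem comm_V0 {V0 : Subgroup G} (hV0 : ∀ v ∈ V0, ∀ g ∈ P, g * v = v * g) {i j : Fin (2 ^ m + 1)} (hij : i ≠ j)
    {x : G} (hx : x ∈ o2 (NN ε i j)) {v : G} (hv : v ∈ V0) : x * v = v * x :=
  hV0 v hv x (o2_le_P hm h h0 hSP hS hSi hz hij hx)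

omit [Finite G] hm h0 hSP hS hSi hz in
/-- the transposition `(i j)` and the element `r_ij` -/
theorem swap_conj {i j : Fin (2 ^ m + 1)} (hij : i ≠ j) {x : G} (hx : Acts ε x (Equiv.swap i j)) {v : G}
    (hv : v ∈ A) : x * v * x⁻¹ = v ∨ x * v * x⁻¹ = v * rr ε i j := by
  obtain ⟨y, rfl⟩ := h.surj v hv
  rw [hx y]
  have h1 : (y ∘ (Equiv.swap i j).symm) = y ∨
      (y ∘ (Equiv.swap i j).symm) = y + (Pi.single i 1 + Pi.single j 1) := by
    rw [Equiv.symm_swap]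
    by_cases h2 : y i = y j
    · left
      funext k
      change y (Equiv.swap i j k) = y k
      by_cases hk : k = i
      · rw [hk, Equiv.swap_apply_left, h2]
      by_cases hk' : k = j
      · rw [hk', Equiv.swap_apply_right, h2]
      rw [Equiv.swap_apply_of_ne_of_ne hk hk']
    · right
      have h3 : ∀ a b : ZMod 2, a ≠ b → b = a + 1 := by decide
      funext k
      change y (Equiv.swap i j k) = y k + ((Pi.single i 1 : Fin (2 ^ m + 1) → ZMod 2) k +
        (Pi.single j 1 : Fin (2 ^ m + 1) → ZMod 2) k)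
      by_cases hk : k = i
      · rw [hk, Equiv.swap_apply_left, Pi.single_eq_same, Pi.single_eq_of_ne hij, add_zero]
        exact h3 _ _ h2
      by_cases hk' : k = j
      · rw [hk', Equiv.swap_apply_right, Pi.single_eq_same, Pi.single_eq_of_ne hij.symm, zero_add]
        exact h3 _ _ (Ne.symm h2)
      rw [Equiv.swap_apply_of_ne_of_ne hk hk', Pi.single_eq_of_ne hk, Pi.single_eq_of_ne hk', add_zero, add_zero]
  rcases h1 with h1 | h1
  · left
    rw [h1]
  · right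
    rw [h1, h.add, h.add]
    rfl

/-- `[V₀ A, O₂(N_ij)] ≤ ⟨r_ij⟩`. -/
theorem conj_V {V0 : Subgroup G} (hV0 : ∀ v ∈ V0, ∀ g ∈ P, g * v = v * g) {i j : Fin (2 ^ m + 1)} (hij : i ≠ j)
    (hm2 : 2 ≤ m) {x : G} (hx : x ∈ o2 (NN ε i j)) {v a : G} (hv : v ∈ V0) (ha : a ∈ A) :
    x * (v * a) * x⁻¹ = v * a ∨ x * (v * a) * x⁻¹ = v * a * rr ε i j := by
  have h1 := comm_V0 hm h h0 hSP hS hSi hz hV0 hij hx hv
  have h2 : x * (v * a) * x⁻¹ = v * (x * a * x⁻¹) := by
    calc x * (v * a) * x⁻¹ = x * v * a * x⁻¹ := by group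
      _ = _ := by rw [h1]; group
  rw [h2]
  rcases acts hm h h0 hSP hS hSi hz hij hm2 hx with h3 | h3
  · left
    have h4 : x * a * x⁻¹ = a := by
      have h5 := (mem_centralizer_iff.mp (h.acts_one_iff.mp h3)) a ha
      rw [← h5, mul_inv_cancel_right]
    rw [h4]
  · rcases swap_conj h hij h3 ha with h4 | h4
    · left
      rw [h4]
    · right
      rw [h4, mul_assoc]

/-- Every `w ∈ W_ij` acts on `O₂(N_ij) / ⟨r_ij⟩` trivially. -/
theorem ww_conj {V V0 : Subgroup G} (hAP : A ≤ P) (hV0 : ∀ v ∈ V0, ∀ g ∈ P, g * v = v * g)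
    (hV : ∀ v ∈ V, ∃ v0 ∈ V0, ∃ a ∈ A, v0 * a = v) {i j : Fin (2 ^ m + 1)} (hij : i ≠ j)
    (hm2 : 2 ≤ m) {w : G} (hw : w ∈ WW V ε i j) :
    w ∈ NN ε i j ∧ ∀ x ∈ o2 (NN ε i j), w * x * w⁻¹ = x ∨ w * x * w⁻¹ = x * rr ε i j := by
  have hr2 : rr ε i j * rr ε i j = 1 := rr_sq h i j
  have hmv : ∀ {v a : G}, v ∈ V0 → a ∈ A → v * a ∈ NN ε i j := by
    intro v a hv ha
    rw [mem_NN]
    have h1 := hV0 v hv _ (hAP (rr_mem h i j))
    have h2 := h.comm_mem ha (rr_mem h i j)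
    rw [mul_assoc, h2, ← mul_assoc, ← h1, mul_assoc]
  have hbase : ∀ v ∈ V, v ∈ NN ε i j ∧ ∀ x ∈ o2 (NN ε i j), v * x * v⁻¹ = x ∨ v * x * v⁻¹ = x * rr ε i j := by
    intro v hv
    obtain ⟨v0, hv0, a, ha, rfl⟩ := hV v hv
    refine ⟨hmv hv0 ha, fun x hx => ?_⟩
    have hxr : x * rr ε i j = rr ε i j * x := mem_NN.mp (o2_le _ hx)
    have hvr : (v0 * a) * rr ε i j = rr ε i j * (v0 * a) := mem_NN.mp (hmv hv0 ha)
    rcases conj_V hm h h0 hSP hS hSi hz hV0 hij hm2 hx hv0 ha with h1 | h1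
    · left
      have h2 : x * (v0 * a) = v0 * a * x := by rwa [mul_inv_eq_iff_eq_mul] at h1
      rw [← h2, mul_inv_cancel_right]
    · right
      have h2 : x * (v0 * a) = v0 * a * rr ε i j * x := by rwa [mul_inv_eq_iff_eq_mul] at h1
      rw [mul_inv_eq_iff_eq_mul]
      calc v0 * a * x = v0 * a * (rr ε i j * rr ε i j) * x := by rw [hr2, mul_one]
        _ = v0 * a * rr ε i j * (rr ε i j * x) := by group
        _ = v0 * a * rr ε i j * x * rr ε i j := by rw [← hxr]; group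
        _ = x * (v0 * a) * rr ε i j := by rw [← h2]
        _ = x * rr ε i j * (v0 * a) := by rw [mul_assoc, hvr]; group
  have hconj : ∀ {g x : G}, g ∈ NN ε i j → x ∈ o2 (NN ε i j) → g * x * g⁻¹ ∈ o2 (NN ε i j) := by
    intro g x hg hx
    exact (mem_normalizer_iff.mp (le_normalizer_o2 _ hg) x).mp hx
  unfold WW at hw
  induction hw using closure_induction with
  | mem w hw =>
    obtain ⟨g, hg, v, hv, rfl⟩ := hw
    obtain ⟨h1, h2⟩ := hbase v hv
    refine ⟨mul_mem (mul_mem hg h1) (inv_mem hg), fun x hx => ?_⟩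
    have h3 : g⁻¹ * x * g ∈ o2 (NN ε i j) := by
      have := hconj (inv_mem hg) hx
      rwa [inv_inv] at this
    have hgr : g * rr ε i j * g⁻¹ = rr ε i j := mem_NN'.mp hg
    rcases h2 _ h3 with h4 | h4
    · left
      calc g * v * g⁻¹ * x * (g * v * g⁻¹)⁻¹ = g * (v * (g⁻¹ * x * g) * v⁻¹) * g⁻¹ := by group
        _ = x := by rw [h4]; group
    · right
      calc g * v * g⁻¹ * x * (g * v * g⁻¹)⁻¹ = g * (v * (g⁻¹ * x * g) * v⁻¹) * g⁻¹ := by group
        _ = x * (g * rr ε i j * g⁻¹) := by rw [h4]; group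
        _ = _ := by rw [hgr]
  | one =>
    refine ⟨one_mem _, fun x _ => Or.inl ?_⟩
    rw [one_mul, inv_one, mul_one]
  | mul w w' _ _ h1 h2 =>
    refine ⟨mul_mem h1.1 h2.1, fun x hx => ?_⟩
    have e : w * w' * x * (w * w')⁻¹ = w * (w' * x * w'⁻¹) * w⁻¹ := by group
    have hwr : w * rr ε i j * w⁻¹ = rr ε i j := mem_NN'.mp h1.1
    have e1 : ∀ y, w * (y * rr ε i j) * w⁻¹ = (w * y * w⁻¹) * rr ε i j := by
      intro y
      calc w * (y * rr ε i j) * w⁻¹ = (w * y * w⁻¹) * (w * rr ε i j * w⁻¹) := by group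
        _ = _ := by rw [hwr]
    rw [e]
    rcases h2.2 x hx with h3 | h3 <;> rcases h1.2 x hx with h4 | h4
    · left
      rw [h3, h4]
    · right
      rw [h3, h4]
    · right
      rw [h3, e1, h4]
    · left
      rw [h3, e1, h4, mul_assoc, hr2, mul_one]
  | inv w _ h1 =>
    refine ⟨inv_mem h1.1, fun x hx => ?_⟩
    rw [inv_inv]
    have h2 : w⁻¹ * x * w ∈ o2 (NN ε i j) := by
      have := hconj (inv_mem h1.1) hx
      rwa [inv_inv] at this
    rcases h1.2 _ h2 with h3 | h3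
    · left
      calc w⁻¹ * x * w = w * (w⁻¹ * x * w) * w⁻¹ := h3.symm
        _ = x := by group
    · right
      have h4 : x = w⁻¹ * x * w * rr ε i j := by
        calc x = w * (w⁻¹ * x * w) * w⁻¹ := by group
          _ = _ := h3
      calc w⁻¹ * x * w = w⁻¹ * x * w * (rr ε i j * rr ε i j) := by rw [hr2, mul_one]
        _ = w⁻¹ * x * w * rr ε i j * rr ε i j := by group
        _ = x * rr ε i j := by rw [← h4]

/-- `W_ij ≤ O₂(N_ij)`, if `N_ij` is of characteristic 2. -/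
theorem ww_le {V V0 : Subgroup G} (hAP : A ≤ P) (hV0 : ∀ v ∈ V0, ∀ g ∈ P, g * v = v * g)
    (hV : ∀ v ∈ V, ∃ v0 ∈ V0, ∃ a ∈ A, v0 * a = v) {i j : Fin (2 ^ m + 1)} (hij : i ≠ j)
    (hm2 : 2 ≤ m) (hc : NN ε i j ⊓ centralizer (o2 (NN ε i j) : Set G) ≤ o2 (NN ε i j)) :
    WW V ε i j ≤ o2 (NN ε i j) := by
  have hr2 : rr ε i j * rr ε i j = 1 := rr_sq h i j
  have hw := fun {w : G} (hw : w ∈ WW V ε i j) => ww_conj hm h h0 hSP hS hSi hz hAP hV0 hV hij hm2 hw
  apply le_o2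
  · exact fun w hw' => (hw hw').1
  · intro w
    obtain ⟨h1, h2⟩ := hw w.2
    have h3 : (w : G) * w ∈ o2 (NN ε i j) := by
      apply hc
      refine ⟨mul_mem h1 h1, mem_centralizer_iff.mpr ?_⟩
      intro x hx
      have hwr : (w : G) * rr ε i j * (w : G)⁻¹ = rr ε i j := mem_NN'.mp h1
      have h4 : (w : G) * w * x * ((w : G) * w)⁻¹ = x := by
        have e : (w : G) * w * x * ((w : G) * w)⁻¹ = w * (w * x * (w : G)⁻¹) * (w : G)⁻¹ := by group
        rw [e]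
        rcases h2 x hx with h4 | h4
        · rw [h4, h4]
        · rw [h4]
          calc (w : G) * (x * rr ε i j) * (w : G)⁻¹ = (w * x * (w : G)⁻¹) * (w * rr ε i j * (w : G)⁻¹) := by group
            _ = x := by rw [h4, hwr, mul_assoc, hr2, mul_one]
      rw [mul_inv_eq_iff_eq_mul] at h4
      exact h4.symm
    obtain ⟨k, hk⟩ := o2_isPGroup _ (⟨_, h3⟩ : o2 (NN ε i j))
    refine ⟨k + 1, ?_⟩
    have hk' : ((w : G) * w) ^ 2 ^ k = 1 := congrArg Subtype.val hk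
    apply Subtype.ext
    change (w : G) ^ 2 ^ (k + 1) = 1
    rw [pow_succ', pow_mul, pow_two]
    exact hk'
  · intro g hg
    rw [mem_normalizer_iff]
    refine fun x => ⟨WW_normal hg, fun hx => ?_⟩
    have h1 := WW_normal (V := V) (inv_mem hg) hx
    have e : g⁻¹ * (g * x * g⁻¹) * g⁻¹⁻¹ = x := by group
    rwa [e] at h1

/-- `U_ij` centralises `O₂(N_ij)`. -/
theorem uu_comm {i j : Fin (2 ^ m + 1)} (hij : i ≠ j) (hm2 : 2 ≤ m) {u : G} (hu : u ∈ UU ε i j) :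
    ∀ x ∈ o2 (NN ε i j), u * x = x * u := by
  unfold UU at hu
  induction hu using closure_induction with
  | mem u hu =>
    obtain ⟨g, hg, k, h1, h2, rfl⟩ := hu
    intro x hx
    have h3 : g⁻¹ * x * g ∈ o2 (NN ε i j) := by
      have := (mem_normalizer_iff.mp (le_normalizer_o2 _ (inv_mem hg)) x).mp hx
      rwa [inv_inv] at this
    have h4 := comm_zz hm h h0 hSP hS hSi hz hij hm2 h3 h1 h2
    calc g * zz ε k * g⁻¹ * x = g * (zz ε k * (g⁻¹ * x * g)) * g⁻¹ := by group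
      _ = g * (g⁻¹ * x * g * zz ε k) * g⁻¹ := by rw [h4]
      _ = _ := by group
  | one =>
    intro x _
    rw [one_mul, mul_one]
  | mul u u' _ _ h1 h2 =>
    intro x hx
    rw [mul_assoc, h2 x hx, ← mul_assoc, h1 x hx, mul_assoc]
  | inv u _ h1 =>
    intro x hx
    have h2 := h1 x hx
    calc u⁻¹ * x = u⁻¹ * (x * u) * u⁻¹ := by group
      _ = u⁻¹ * (u * x) * u⁻¹ := by rw [h2]
      _ = _ := by group

/-- The `N_ij`-conjugates of `V₀` centralise `O₂(N_ij)`. -/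
theorem conj_V0_comm {V0 : Subgroup G} (hV0 : ∀ v ∈ V0, ∀ g ∈ P, g * v = v * g) {i j : Fin (2 ^ m + 1)}
    (hij : i ≠ j) {g v : G} (hg : g ∈ NN ε i j) (hv : v ∈ V0) {x : G} (hx : x ∈ o2 (NN ε i j)) :
    g * v * g⁻¹ * x = x * (g * v * g⁻¹) := by
  have h3 : g⁻¹ * x * g ∈ o2 (NN ε i j) := by
    have := (mem_normalizer_iff.mp (le_normalizer_o2 _ (inv_mem hg)) x).mp hx
    rwa [inv_inv] at this
  have h4 := comm_V0 hm h h0 hSP hS hSi hz hV0 hij h3 hv
  calc g * v * g⁻¹ * x = g * (v * (g⁻¹ * x * g)) * g⁻¹ := by group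
    _ = g * (g⁻¹ * x * g * v) * g⁻¹ := by rw [h4]
    _ = _ := by group

/-- `Base` of `NSix.Base` from (H1), (H2). -/
theorem base (hAP : A ≤ P) (hm2 : 2 ≤ m) (hev : EvenSet (2 ^ m + 1) A (normalizer (A : Set G)) ε)
    (hc : ∀ i j, i ≠ j → NN ε i j ⊓ centralizer (o2 (NN ε i j) : Set G) ≤ o2 (NN ε i j))
    (hmov : ∀ i j, i ≠ j → ∃ w ∈ WW A ε i j, Acts ε w (Equiv.swap i j))
    (hq : ∀ i j k l, i ≠ j → k ≠ l → i ≠ k → i ≠ l → j ≠ k → j ≠ l → UU ε i j ≤ o2 (NN ε k l)) :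
    Base A (normalizer (A : Set G)) ε (WW A ε) := by
  have hV0 : ∀ v ∈ (⊥ : Subgroup G), ∀ g ∈ P, g * v = v * g := by
    intro v hv g _
    rw [mem_bot.mp hv, mul_one, one_mul]
  have hV : ∀ v ∈ A, ∃ v0 ∈ (⊥ : Subgroup G), ∃ a ∈ A, v0 * a = v := fun v hv => ⟨1, one_mem _, v, hv, one_mul v⟩
  have hle : ∀ i j, i ≠ j → WW A ε i j ≤ o2 (NN ε i j) := fun i j hij =>
    ww_le hm h h0 hSP hS hSi hz hAP hV0 hV hij hm2 (hc i j hij)
  exact
    { ev := hev
      Vle := fun i j _ => V_le_WW i j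
      wn := fun i j _ g hg x hx => WW_normal hg hx
      wc := fun g σ hσ i j _ x hx => WW_conj (acts_norm h hσ) hσ hx
      cen := fun i j hij u hu w hw => uu_comm hm h h0 hSP hS hSi hz hij hm2 hu w (hle i j hij hw)
      act := fun i j hij w hw => acts hm h h0 hSP hS hSi hz hij hm2 (hle i j hij hw)
      mov := hmov
      tra := fun i j k l hij hkl h1 h2 h3 h4 u hu w hw =>
        (ww_conj hm h h0 hSP hS hSi hz hAP hV0 hV hkl hm2 hw).2 u (hq i j k l hij hkl h1 h2 h3 h4 hu) }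

end

end Cfsg.Agent.Omega.F4Leaf.HOne
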