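import Cfsg.Agent.Omega.F4Leaf.Def
import Cfsg.Agent.Omega.F4Leaf.App
import Cfsg.Agent.Omega.F4Leaf.HOne
import Cfsg.Agent.Omega.NSix.PtCen

/-!
# LeafF4: the facts (F1), (F2), (H1) for a member with `V₀ ≠ 1`

`Sit S P m A ε` : `G` of characteristic 2 type, `P ∈ P*(S)`, `V = V_P = V₀ × A` (`Split`), `m ≥ 2`.  `n = r_ij`,
`N = C_G(n)`, `Q = O₂(N)`, `U = ⟨(V₀ n^⊥)^N⟩`, `W = ⟨V^N⟩`.

* `Sit.vn_cen` : `n^⊥ ≤ Z(Q)`;
* `Sit.o2_le_P` : `Q ≤ P` (H1); `Sit.acts` : `Q` acts on `A` as `1` or `(i j)`; `Sit.comm_V0` : `[V₀, Q] = 1`;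
* `Sit.conj_V` : `[V, Q] ≤ ⟨n⟩`; `Sit.V_le` : `V ≤ Q`; `Sit.ww_le`, `Sit.ww_conj` : `W ≤ Q`, `[W, Q] ≤ ⟨n⟩`;
* `Sit.uz_le`, `Sit.uz_comm` : `U ≤ Z(Q)`;
* `Sit.cen_V` : `V ≤ Z(O₂(C_G(v)))` for `1 ≠ v ∈ V₀`;
* `Sit.cen_pt` : `V ≤ Z(O₂(C_G(v z_k)))` for `v ∈ V₀`, `m ≥ 3`.
-/

set_option autoImplicit false
set_option linter.dupNamespace false

namespace Cfsg.Agent.Omega.F4Leaf.Pos

open Subgroup Pointwise Cfsg Cfsg.Agent Cfsg.Agent.Omega.MinPar
open Cfsg.Agent.ZN (o2 zc zl)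
open Cfsg.Agent.Omega.FrameFF (cv Single Free)
open Cfsg.Agent.Omega.S5.Def Cfsg.Agent.Omega.S5.Syl Cfsg.Agent.Omega.F4Leaf.Def
open Cfsg.Agent.Omega.NSix.Base Cfsg.Agent.Omega.NSix.Basic Cfsg.Agent.Omega.NSix.FixApp
open Cfsg.Agent.MinSimple.VModule (o2_isPGroup o2_le le_o2 le_normalizer_o2 o2_le_of_sylow mem_zc zc_le
  le_normalizer_zl zl_comm zl_sq)

universe u

variable {G : Type u} [Group G]

/-- `U_ij = ⟨(V₀ r_ij^⊥) ^ N_ij⟩` -/
def UZ {n : ℕ} (V0 : Subgroup G) (ε : (Fin n → ZMod 2) → G) (i j : Fin n) : Subgroup G :=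
  closure {x | ∃ g ∈ NN ε i j, ∃ v, (v ∈ V0 ∨ v ∈ Vn ε i j) ∧ x = g * v * g⁻¹}

/-- The situation. -/
structure Sit [Finite G] (S : Sylow 2 G) (P : Subgroup G) (m : ℕ) (A : Subgroup G)
    (ε : (Fin (2 ^ m + 1) → ZMod 2) → G) : Prop where
  c2 : IsCharacteristicTwoType G
  par : IsParS (S : Subgroup G) P
  m2 : 2 ≤ m
  split : Split (S : Subgroup G) P m A ε

theorem not_dvd [Finite G] (S : Sylow 2 G) : ¬ 2 ∣ (S : Subgroup G).index := by
  have hf : Fact (Nat.Prime 2) := ⟨Nat.prime_two⟩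
  exact S.not_dvd_index

namespace Sit

variable [Finite G] {S : Sylow 2 G} {P : Subgroup G} {m : ℕ} {A : Subgroup G}
  {ε : (Fin (2 ^ m + 1) → ZMod 2) → G} (h : Sit S P m A ε)
include h

theorem three : 3 ≤ 2 ^ m + 1 := three_le (by have := h.m2; omega)

theorem hS2 : ¬ 2 ∣ (S : Subgroup G).relIndex P := MinSimple.Basic.not_dvd_relIndex S h.par.le

theorem V_comm {v w : G} (hv : v ∈ zl (S : Subgroup G) P) (hw : w ∈ zl (S : Subgroup G) P) : v * w = w * v :=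
  zl_comm h.par.le S.isPGroup' h.hS2 (h.par.isLoc.char2 S h.c2) v hv w hw

theorem V_sq {v : G} (hv : v ∈ zl (S : Subgroup G) P) : v ^ 2 = 1 :=
  zl_sq h.par.le S.isPGroup' h.hS2 (h.par.isLoc.char2 S h.c2) v hv

theorem V0_comm {v : G} (hv : v ∈ cv (S : Subgroup G) P) {g : G} (hg : g ∈ P) : g * v = v * g :=
  h.split.comm hg hv

theorem V_le_S : zl (S : Subgroup G) P ≤ (S : Subgroup G) := by
  intro v hv
  have h2 := MinSimple.VModule.zl_le_zc h.par.le S.isPGroup' h.hS2 (h.par.isLoc.char2 S h.c2) hv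
  exact o2_le_of_sylow S.isPGroup' h.hS2 (zc_le _ h2)

theorem V_le_P : zl (S : Subgroup G) P ≤ P := h.V_le_S.trans h.par.le

theorem A_le_P : A ≤ P := h.split.A_le.trans h.V_le_P

theorem V0_le : cv (S : Subgroup G) P ≤ zl (S : Subgroup G) P := h.split.sup ▸ le_sup_left

theorem mul_eq {x : G} (hx : x ∈ zl (S : Subgroup G) P) :
    ∃ v ∈ cv (S : Subgroup G) P, ∃ a ∈ A, x = v * a := h.split.mul_eq h.c2 h.par hx

/-- **(F2)** `n^⊥ ≤ Z(O₂(C_G(n)))`. -/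
theorem vn_cen {i j : Fin (2 ^ m + 1)} (hij : i ≠ j) {v : G} (hv : v ∈ Vn ε i j) :
    v ∈ o2 (NN ε i j) ∧ ∀ x ∈ o2 (NN ε i j), v * x = x * v :=
  App.Vn_cen h.c2 S h.m2 h.split.even h.par h.split.fix0 (fun _ hv _ hg => h.V0_comm hv hg)
    (fun _ hv => h.mul_eq hv) h.split.A_le hij hv

theorem hz (i j k l : Fin (2 ^ m + 1)) (hij : i ≠ j) (_ : k ≠ l) (hik : i ≠ k) (hil : i ≠ l) (hjk : j ≠ k)
    (hjl : j ≠ l) (x : G) (hx : x ∈ o2 (NN ε i j)) : x * rr ε k l = rr ε k l * x :=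
  ((h.vn_cen hij (rr_mem_Vn ⟨hik.symm, hjk.symm⟩ ⟨hil.symm, hjl.symm⟩)).2 x hx).symm

section pair

variable {i j : Fin (2 ^ m + 1)} (hij : i ≠ j)
include hij

/-- **(H1)** `O₂(C_G(n)) ≤ P`. -/
theorem o2_le_P : o2 (NN ε i j) ≤ P :=
  HOne.o2_le_P (by have := h.m2; omega) h.split.even h.split.fix0 h.par.le S.isPGroup'
    (not_dvd S) h.hz hij

/-- `O₂(C_G(n))` acts on `A` as `1` or `(i j)`. -/
theorem acts {x : G} (hx : x ∈ o2 (NN ε i j)) : Acts ε x 1 ∨ Acts ε x (Equiv.swap i j) :=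
  HOne.acts (by have := h.m2; omega) h.split.even h.split.fix0 h.par.le S.isPGroup'
    (not_dvd S) h.hz hij h.m2 hx

/-- `[V₀, O₂(C_G(n))] = 1` -/
theorem comm_V0 {x v : G} (hx : x ∈ o2 (NN ε i j)) (hv : v ∈ cv (S : Subgroup G) P) : x * v = v * x :=
  h.V0_comm hv (h.o2_le_P hij hx)

/-- `[V, O₂(C_G(n))] ≤ ⟨n⟩` -/
theorem conj_V {x v : G} (hx : x ∈ o2 (NN ε i j)) (hv : v ∈ zl (S : Subgroup G) P) :
    x * v * x⁻¹ = v ∨ x * v * x⁻¹ = v * rr ε i j := by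
  obtain ⟨c, hc, a, ha, rfl⟩ := h.mul_eq hv
  exact HOne.conj_V (by have := h.m2; omega) h.split.even h.split.fix0 h.par.le S.isPGroup'
    (not_dvd S) h.hz (fun v hv g hg => h.V0_comm hv hg) hij h.m2 hx hc ha

omit h in
theorem char2 (h : Sit S P m A ε) : NN ε i j ⊓ centralizer (o2 (NN ε i j) : Set G) ≤ o2 (NN ε i j) :=
  MinSimple.Basic.char2_centralizer h.c2 (by rw [pow_two]; exact rr_sq h.split.even i j)
    (rr_ne_one h.split.even h.three hij)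

theorem ww_conj {w x : G} (hw : w ∈ WW (zl (S : Subgroup G) P) ε i j) (hx : x ∈ o2 (NN ε i j)) :
    w * x * w⁻¹ = x ∨ w * x * w⁻¹ = x * rr ε i j :=
  (HOne.ww_conj (by have := h.m2; omega) h.split.even h.split.fix0 h.par.le S.isPGroup'
    (not_dvd S) h.hz h.A_le_P (fun v hv g hg => h.V0_comm hv hg)
    (fun v hv => by
      obtain ⟨c, hc, a, ha, e⟩ := h.mul_eq hv
      exact ⟨c, hc, a, ha, e.symm⟩) hij h.m2 hw).2 x hx

/-- `W ≤ O₂(C_G(n))` -/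
theorem ww_le : WW (zl (S : Subgroup G) P) ε i j ≤ o2 (NN ε i j) :=
  HOne.ww_le (by have := h.m2; omega) h.split.even h.split.fix0 h.par.le S.isPGroup'
    (not_dvd S) h.hz h.A_le_P (fun v hv g hg => h.V0_comm hv hg)
    (fun v hv => by
      obtain ⟨c, hc, a, ha, e⟩ := h.mul_eq hv
      exact ⟨c, hc, a, ha, e.symm⟩) hij h.m2 (char2 hij h)

omit [Finite G] hij h in
theorem le_ww (V : Subgroup G) (ε : (Fin (2 ^ m + 1) → ZMod 2) → G) (i j : Fin (2 ^ m + 1)) : V ≤ WW V ε i j :=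
  fun v hv => subset_closure ⟨1, one_mem _, v, hv, by group⟩

/-- `V ≤ O₂(C_G(n))` -/
theorem V_le : zl (S : Subgroup G) P ≤ o2 (NN ε i j) := (le_ww _ ε i j).trans (h.ww_le hij)

theorem uz_both {u : G} (hu : u ∈ UZ (cv (S : Subgroup G) P) ε i j) :
    u ∈ o2 (NN ε i j) ∧ ∀ x ∈ o2 (NN ε i j), u * x = x * u := by
  have key : ∀ v, (v ∈ cv (S : Subgroup G) P ∨ v ∈ Vn ε i j) →
      v ∈ o2 (NN ε i j) ∧ ∀ x ∈ o2 (NN ε i j), v * x = x * v := by
    rintro v (hv | hv)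
    · exact ⟨h.V_le hij (h.V0_le hv), fun x hx => (h.comm_V0 hij hx hv).symm⟩
    · exact h.vn_cen hij hv
  unfold UZ at hu
  induction hu using closure_induction with
  | mem u hu =>
    obtain ⟨g, hg, v, hv, rfl⟩ := hu
    obtain ⟨h1, h2⟩ := key v hv
    refine ⟨(mem_normalizer_iff.mp (le_normalizer_o2 _ hg) v).mp h1, fun x hx => ?_⟩
    have h3 : g⁻¹ * x * g ∈ o2 (NN ε i j) := by
      have := (mem_normalizer_iff.mp (le_normalizer_o2 _ (inv_mem hg)) x).mp hx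
      rwa [inv_inv] at this
    calc g * v * g⁻¹ * x = g * (v * (g⁻¹ * x * g)) * g⁻¹ := by group
      _ = g * (g⁻¹ * x * g * v) * g⁻¹ := by rw [h2 _ h3]
      _ = _ := by group
  | one => exact ⟨one_mem _, fun x _ => by rw [one_mul, mul_one]⟩
  | mul a b _ _ ha hb =>
    refine ⟨mul_mem ha.1 hb.1, fun x hx => ?_⟩
    rw [mul_assoc, hb.2 x hx, ← mul_assoc, ha.2 x hx, mul_assoc]
  | inv a _ ha =>
    refine ⟨inv_mem ha.1, fun x hx => ?_⟩
    rw [inv_mul_eq_iff_eq_mul, ← mul_assoc, ha.2 x hx, mul_inv_cancel_right]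

theorem uz_le : UZ (cv (S : Subgroup G) P) ε i j ≤ o2 (NN ε i j) := fun _ hu => (h.uz_both hij hu).1

theorem uz_comm {u x : G} (hu : u ∈ UZ (cv (S : Subgroup G) P) ε i j) (hx : x ∈ o2 (NN ε i j)) : u * x = x * u :=
  (h.uz_both hij hu).2 x hx

end pair

/-! ### Centralisers of the elements of `V₀` and of `v z_k` -/

theorem le_of_cent {e : G} (he : e ∈ zl (S : Subgroup G) P) (he1 : e ≠ 1)
    (hc : o2 (centralizer ({e} : Set G)) ≤ centralizer (zl (S : Subgroup G) P : Set G)) :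
    zl (S : Subgroup G) P ≤ o2 (centralizer ({e} : Set G)) := by
  intro v hv
  refine MinSimple.Basic.char2_centralizer h.c2 (h.V_sq he) he1
    ⟨mem_centralizer_singleton_iff.mpr (h.V_comm hv he), mem_centralizer_iff.mpr fun x hx => ?_⟩
  exact (mem_centralizer_iff.mp (hc hx) v hv).symm

/-- A 2-subgroup of `S` normalised by `P` centralises `V`. -/
theorem le_cent {R : Subgroup G} (hR : R ≤ (S : Subgroup G)) (hn : P ≤ normalizer (R : Set G)) :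
    R ≤ centralizer (zl (S : Subgroup G) P : Set G) := by
  have h1 : R ≤ o2 P := le_o2 (hR.trans h.par.le) (S.isPGroup'.to_le hR) hn
  rw [← h.par.inf_centralizer S h.c2] at h1
  exact h1.trans inf_le_right

/-- `V ≤ Z(O₂(C_G(v)))` for `1 ≠ v ∈ V₀` -/
theorem cen_V {v : G} (hv : v ∈ cv (S : Subgroup G) P) (hv1 : v ≠ 1) :
    zl (S : Subgroup G) P ≤ o2 (centralizer ({v} : Set G)) ∧
      o2 (centralizer ({v} : Set G)) ≤ centralizer (zl (S : Subgroup G) P : Set G) := by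
  have hP : P ≤ centralizer ({v} : Set G) := fun g hg => mem_centralizer_singleton_iff.mpr (h.V0_comm hv hg)
  have h1 : o2 (centralizer ({v} : Set G)) ≤ (S : Subgroup G) :=
    o2_le_of_sylow S.isPGroup' (MinSimple.Basic.not_dvd_relIndex S (h.par.le.trans hP))
  have h2 := h.le_cent h1 (hP.trans (le_normalizer_o2 _))
  exact ⟨h.le_of_cent (h.V0_le hv) hv1 h2, h2⟩

/-- `O₂(C_G(v z_0))` centralises `V` -/
theorem cen_pt0 (hm : 3 ≤ m) {v : G} (hv : v ∈ cv (S : Subgroup G) P) :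
    o2 (centralizer ({v * zz ε 0} : Set G)) ≤ centralizer (zl (S : Subgroup G) P : Set G) := by
  have hm1 : 1 ≤ m := by omega
  have hE := h.split.even
  have hcen : P ⊓ centralizer ({zz ε 0} : Set G) ≤ centralizer ({v * zz ε 0} : Set G) := by
    rintro g ⟨hg, hg2⟩
    have hg2 : g * zz ε 0 = zz ε 0 * g := mem_centralizer_singleton_iff.mp hg2
    rw [mem_centralizer_singleton_iff]
    rw [← mul_assoc, h.V0_comm hv hg, mul_assoc, hg2, mul_assoc]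
  have hSC : (S : Subgroup G) ≤ P ⊓ centralizer ({zz ε 0} : Set G) := by
    intro s hs
    obtain ⟨σ, hσ⟩ := hE.perm s (h.par.le hs)
    exact ⟨h.par.le hs, mem_centralizer_singleton_iff.mpr
      ((hE.fixes_iff (three_le hm1) hσ 0).2 (h.split.fix0 s hs σ hσ))⟩
  have hUS : o2 (centralizer ({v * zz ε 0} : Set G)) ≤ (S : Subgroup G) :=
    o2_le_of_sylow S.isPGroup' (MinSimple.Basic.not_dvd_relIndex S (hSC.trans hcen))
  have hUA : o2 (centralizer ({v * zz ε 0} : Set G)) ≤ P ⊓ centralizer ({zz ε 0} : Set G) := hUS.trans hSC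
  have hN : ((o2 (centralizer ({v * zz ε 0} : Set G))).subgroupOf (P ⊓ centralizer ({zz ε 0} : Set G))).Normal :=
    normal_subgroupOf_of_le_normalizer (hcen.trans (le_normalizer_o2 _))
  have h8 : 5 ≤ Nat.card {k : Fin (2 ^ m + 1) // k ≠ 0} := by
    classical
    have h1 : 2 ^ 3 ≤ 2 ^ m := Nat.pow_le_pow_right (by norm_num) hm
    rw [Nat.card_eq_fintype_card, Fintype.card_subtype_compl, Fintype.card_fin, Fintype.card_subtype_eq]
    omega
  intro u hu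
  have h1 := NSix.PtCen.two_normal h8 (NSix.PtCen.psi hm1 hE) (NSix.PtCen.psi_surj hm1 hE) hN
    ((o2_isPGroup _).comap_of_injective _ (Subgroup.subtype_injective _)) ⟨u, hUA hu⟩ hu
  have h2 := hE.acts_hom (three_le hm1) (Subgroup.inclusion inf_le_left (⟨u, hUA hu⟩ :
      ↥(P ⊓ centralizer ({zz ε 0} : Set G))))
  have h3 : hE.hom (three_le hm1) (Subgroup.inclusion inf_le_left (⟨u, hUA hu⟩ :
      ↥(P ⊓ centralizer ({zz ε 0} : Set G)))) = 1 := by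
    ext k
    congr 1
    by_cases hk : k = 0
    · rw [hk]
      exact NSix.PtCen.fix_zero hm1 hE _
    · have h4 := NSix.PtCen.psi_apply hm1 hE ⟨u, hUA hu⟩ ⟨k, hk⟩
      rw [h1] at h4
      exact h4.symm
  rw [h3] at h2
  have h5 : ∀ a ∈ A, a * u = u * a := mem_centralizer_iff.mp (hE.acts_one_iff.mp h2)
  refine mem_centralizer_iff.mpr fun w hw => ?_
  obtain ⟨c, hc, a, ha, rfl⟩ := h.mul_eq hw
  have h6 : c * u = u * c := (h.V0_comm hc (h.par.le (hUS hu))).symm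
  calc c * a * u = c * (a * u) := mul_assoc _ _ _
    _ = c * (u * a) := by rw [h5 a ha]
    _ = u * (c * a) := by rw [← mul_assoc, h6, mul_assoc]

/-- **(F1)** `V ≤ Z(O₂(C_G(v z_k)))`, `v ∈ V₀`, `m ≥ 3` -/
theorem cen_pt (hm : 3 ≤ m) {v : G} (hv : v ∈ cv (S : Subgroup G) P) (k : Fin (2 ^ m + 1)) :
    zl (S : Subgroup G) P ≤ o2 (centralizer ({v * zz ε k} : Set G)) ∧
      o2 (centralizer ({v * zz ε k} : Set G)) ≤ centralizer (zl (S : Subgroup G) P : Set G) := by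
  have hE := h.split.even
  have h1 := h.cen_pt0 hm hv
  have he : v * zz ε 0 ∈ zl (S : Subgroup G) P := mul_mem (h.V0_le hv) (h.split.A_le (zz_mem hE 0))
  have he1 : v * zz ε 0 ≠ 1 := by
    intro h0
    have h2 : zz ε 0 ∈ cv (S : Subgroup G) P := by
      rw [eq_inv_of_mul_eq_one_right h0]
      exact inv_mem hv
    have h3 : zz ε 0 ∈ (⊥ : Subgroup G) := h.split.disj ▸ ⟨h2, zz_mem hE 0⟩
    exact hE.single_ne_one h.three 0 (mem_bot.mp h3)
  have h2 := h.le_of_cent he he1 h1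
  obtain ⟨g, hg, hσ⟩ := hE.full (Equiv.swap 0 k)
  have hgn := le_normalizer_zl (S : Subgroup G) P
  have e1 : g * (v * zz ε 0) * g⁻¹ = v * zz ε k := by
    rw [← Equiv.swap_apply_left 0 k, ← zz_conj hσ]
    calc g * (v * zz ε 0) * g⁻¹ = g * v * zz ε 0 * g⁻¹ := by group
      _ = v * g * zz ε 0 * g⁻¹ := by rw [h.V0_comm hv hg]
      _ = v * (g * zz ε 0 * g⁻¹) := by group
  have e2 : g⁻¹ * (v * zz ε k) * g = v * zz ε 0 := by
    rw [← e1]
    group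
  constructor
  · intro w hw
    have h3 : g⁻¹ * w * g ∈ zl (S : Subgroup G) P := by
      have := (mem_normalizer_iff.mp (hgn (inv_mem hg)) w).mp hw
      rwa [inv_inv] at this
    have h4 := NSix.PtCen.conj_o2_cent (g := g) (h2 h3)
    rw [e1] at h4
    have h5 : g * (g⁻¹ * w * g) * g⁻¹ = w := by group
    rwa [h5] at h4
  · intro x hx
    refine mem_centralizer_iff.mpr fun w hw => ?_
    have h3 : g⁻¹ * w * g ∈ zl (S : Subgroup G) P := by
      have := (mem_normalizer_iff.mp (hgn (inv_mem hg)) w).mp hw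
      rwa [inv_inv] at this
    have h4 := NSix.PtCen.conj_o2_cent (g := g⁻¹) hx
    rw [inv_inv, e2] at h4
    have h5 := mem_centralizer_iff.mp (h1 h4) _ h3
    have h6 : g * (g⁻¹ * w * g * (g⁻¹ * x * g)) * g⁻¹ = g * (g⁻¹ * x * g * (g⁻¹ * w * g)) * g⁻¹ := by rw [h5]
    calc w * x = g * (g⁻¹ * w * g * (g⁻¹ * x * g)) * g⁻¹ := by group
      _ = g * (g⁻¹ * x * g * (g⁻¹ * w * g)) * g⁻¹ := h6
      _ = x * w := by group

end Sit

end Cfsg.Agent.Omega.F4Leaf.Pos
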