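import Cfsg.Agent.Omega.F4Leaf.Def

/-!
# OMEGA: the leaf `FrameMulti.LeafF4` from its inputs (assembler: helper816; text #15257)

A mutual pair `V = V_{P₁}`, `V' = (V_{P₂})^y` with one factor, `P₁` of type `S_{2^m+1}`, `V₀ = C_V(O²(P₁)) ≠ 1`.

* steps: `SplitStep` (`V = V₀ × A`), `NatStep` (natural partner: `q = 2`, `|Z| = 2 |C_{V'}(O²(P₂))|`);
* inputs: `F4NC` (`m = m' = 2`, `n` not 2-central), `F4Cen` (`m = m' = 2`, `n` 2-central), `F4Nat` (`m = 2`, natural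
  partner), `F4NatBig`, `F4SymBig` (`m ≥ 3` or `m' ≥ 3`);
* `leafF4_of` : the inputs imply `FrameMulti.LeafF4 K`.
-/

set_option autoImplicit false

namespace Cfsg.Agent.Omega.F4Leaf.Main

open Subgroup Pointwise Cfsg Cfsg.Agent.ZN Cfsg.Agent.ZN.ChoiceBase Cfsg.Agent.Omega.MinPar
open Cfsg.Agent.Omega.Frame Cfsg.Agent.Omega.FFThm
open Cfsg.Agent.Omega.FrameLE (AllIn)
open Cfsg.Agent.Omega.FrameFF (cv Single Free)
open Cfsg.Agent.Omega.FrameMulti (IsSym IsNat Typed AllTyped NoWr LeafF4)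
open Cfsg.Agent.Omega.S5.Def Cfsg.Agent.Omega.S5.Syl Cfsg.Agent.Omega.S5.Pair Cfsg.Agent.Omega.S5.Main
open Cfsg.Agent.Omega.F4Leaf.Def

universe u

/-! ### The steps (0) -/

/-- `V_P = V₀ × A` for a member of type `S_{2^m+1}`. (helper816, F4Leaf/Split.lean) -/
def SplitStep : Prop :=
  ∀ (G : Type u) [Group G] [Finite G], IsCharacteristicTwoType G → ∀ (S : Sylow 2 G) (P : Subgroup G) (m : ℕ),
    2 ≤ m → IsParS (S : Subgroup G) P → IsSym (S : Subgroup G) P 1 m →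
      ∃ (A : Subgroup G) (ε : (Fin (2 ^ m + 1) → ZMod 2) → G), Split (S : Subgroup G) P m A ε

/-- A natural partner of a member of type `S_{2^m+1}`: `q = 2`, `|Z| = 2 |C_{V'}(O²(P₂))|`. (helper392) -/
def NatStep : Prop :=
  ∀ (G : Type u) [Group G] [Finite G], IsCharacteristicTwoType G → ∀ (S : Sylow 2 G)
    (P₁ P₂ : Subgroup G) (y : G) (m : ℕ) (A : Subgroup G) (ε : (Fin (2 ^ m + 1) → ZMod 2) → G), 2 ≤ m →
      LabZ S P₁ P₂ y m A ε → IsNat (S : Subgroup G) P₂ 1 →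
        Nat.card (zl (S : Subgroup G) P₂) = 4 * Nat.card (cv (S : Subgroup G) P₂) ∧
          Nat.card (zc (S : Subgroup G)) = 2 * Nat.card (cv (S : Subgroup G) P₂)

/-! ### The inputs -/

section inputs

variable (K : Cls.{u})

/-- `m = m' = 2`, `n` not 2-central, `V₀ ≠ 1`. (#15257 (3)-(6), #16767; (5), (6): helper849; (O1): helper333, 79,
816) -/
def F4NC : Prop :=
  ∀ (G : Type u) [Group G] [Finite G], Ctx G → ∀ (S : Sylow 2 G), Full (S : Subgroup G) →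
    AllIn (S : Subgroup G) → AllTyped (S : Subgroup G) → NoWr (S : Subgroup G) →
    ∀ (P₁ P₂ : Subgroup G) (y : G) (A : Subgroup G) (ε : (Fin (2 ^ 2 + 1) → ZMod 2) → G)
      (A₂ : Subgroup G) (ε₂ : (Fin (2 ^ 2 + 1) → ZMod 2) → G),
      LabTwoZ S P₁ P₂ y 2 2 A ε A₂ ε₂ →
        cv (S : Subgroup G) P₁ ≠ ⊥ → cv (S : Subgroup G) P₂ ≠ ⊥ →
        ¬ Cen (zl (S : Subgroup G) P₁) (cj y (zl (S : Subgroup G) P₂)) → False

/-- `m = m' = 2`, `n` 2-central, `V₀ ≠ 1`. ((O2): exit into II.0h1, helper252) -/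
def F4Cen : Prop :=
  ∀ (G : Type u) [Group G] [Finite G], Ctx G → K G → ∀ (S : Sylow 2 G), Full (S : Subgroup G) →
    AllIn (S : Subgroup G) → AllTyped (S : Subgroup G) → NoWr (S : Subgroup G) →
    ∀ (P₁ P₂ : Subgroup G) (y : G) (A : Subgroup G) (ε : (Fin (2 ^ 2 + 1) → ZMod 2) → G)
      (A₂ : Subgroup G) (ε₂ : (Fin (2 ^ 2 + 1) → ZMod 2) → G),
      LabTwoZ S P₁ P₂ y 2 2 A ε A₂ ε₂ →
        cv (S : Subgroup G) P₁ ≠ ⊥ → cv (S : Subgroup G) P₂ ≠ ⊥ →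
        Cen (zl (S : Subgroup G) P₁) (cj y (zl (S : Subgroup G) P₂)) → IsKnownSimple' G

/-- `m = 2`, natural partner (`q = 2`), `V₀ ≠ 1`. ((O3): exit into II.0h1, helper252) -/
def F4Nat : Prop :=
  ∀ (G : Type u) [Group G] [Finite G], Ctx G → K G → ∀ (S : Sylow 2 G), Full (S : Subgroup G) →
    AllIn (S : Subgroup G) → AllTyped (S : Subgroup G) → NoWr (S : Subgroup G) →
    ∀ (P₁ P₂ : Subgroup G) (y : G) (A : Subgroup G) (ε : (Fin (2 ^ 2 + 1) → ZMod 2) → G),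
      LabZ S P₁ P₂ y 2 A ε → IsNat (S : Subgroup G) P₂ 1 →
        Nat.card (zl (S : Subgroup G) P₂) = 4 * Nat.card (cv (S : Subgroup G) P₂) →
        cv (S : Subgroup G) P₁ ≠ ⊥ → cv (S : Subgroup G) P₂ ≠ ⊥ → IsKnownSimple' G

/-- `m ≥ 3`, natural partner (`q = 2`), `V₀ ≠ 1`. ((O4): helper904, 300, 888, 871) -/
def F4NatBig : Prop :=
  ∀ (G : Type u) [Group G] [Finite G], Ctx G → K G → ∀ (S : Sylow 2 G), Full (S : Subgroup G) →
    AllIn (S : Subgroup G) → AllTyped (S : Subgroup G) → NoWr (S : Subgroup G) →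
    ∀ (P₁ P₂ : Subgroup G) (y : G) (m : ℕ) (A : Subgroup G) (ε : (Fin (2 ^ m + 1) → ZMod 2) → G), 3 ≤ m →
      LabZ S P₁ P₂ y m A ε → IsNat (S : Subgroup G) P₂ 1 →
        Nat.card (zl (S : Subgroup G) P₂) = 4 * Nat.card (cv (S : Subgroup G) P₂) →
        cv (S : Subgroup G) P₁ ≠ ⊥ → cv (S : Subgroup G) P₂ ≠ ⊥ → IsKnownSimple' G

/-- `S_{2^m+1}` against `S_{2^m'+1}`, `m ≥ 3` or `m' ≥ 3`, `V₀ ≠ 1`. ((O4): helper904, 300, 888, 871) -/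
def F4SymBig : Prop :=
  ∀ (G : Type u) [Group G] [Finite G], Ctx G → K G → ∀ (S : Sylow 2 G), Full (S : Subgroup G) →
    AllIn (S : Subgroup G) → AllTyped (S : Subgroup G) → NoWr (S : Subgroup G) →
    ∀ (P₁ P₂ : Subgroup G) (y : G) (m m' : ℕ) (A : Subgroup G) (ε : (Fin (2 ^ m + 1) → ZMod 2) → G)
      (A₂ : Subgroup G) (ε₂ : (Fin (2 ^ m' + 1) → ZMod 2) → G), 2 ≤ m → 2 ≤ m' → 3 ≤ m ∨ 3 ≤ m' →
        LabTwoZ S P₁ P₂ y m m' A ε A₂ ε₂ →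
        cv (S : Subgroup G) P₁ ≠ ⊥ → cv (S : Subgroup G) P₂ ≠ ⊥ → IsKnownSimple' G

end inputs

/-! ### The leaf -/

section leaf

variable {G : Type u} [Group G] [Finite G]

theorem labZ {S : Sylow 2 G} {P₁ P₂ : Subgroup G} {y : G} (h : Pos S P₁ P₂ y) {m : ℕ} {A : Subgroup G}
    {ε : (Fin (2 ^ m + 1) → ZMod 2) → G} (h1 : Split (S : Subgroup G) P₁ m A ε) : LabZ S P₁ P₂ y m A ε :=
  ⟨h, h1, h1.side _ h.le h.off₁⟩

theorem labTwoZ {S : Sylow 2 G} {P₁ P₂ : Subgroup G} {y : G} (h : Pos S P₁ P₂ y) {m m' : ℕ} {A A₂ : Subgroup G}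
    {ε : (Fin (2 ^ m + 1) → ZMod 2) → G} {ε₂ : (Fin (2 ^ m' + 1) → ZMod 2) → G}
    (h1 : Split (S : Subgroup G) P₁ m A ε) (h2 : Split (S : Subgroup G) P₂ m' A₂ ε₂) :
    LabTwoZ S P₁ P₂ y m m' A ε A₂ ε₂ := by
  have h5 := off_cj h.off₂ y⁻¹
  rw [cj_inv_cj] at h5
  have h6 : cj y⁻¹ (zl (S : Subgroup G) P₁) ≤ (S : Subgroup G) := by
    rw [cj_le_iff, inv_inv]
    exact h.ge
  have h7 := (h2.side _ h6 h5).conj y
  rw [cj_cj_inv] at h7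
  exact ⟨labZ h h1, h2, h7⟩

theorem ne_bot_of_card {H : Subgroup G} (h : Nat.card H ≠ 1) : H ≠ ⊥ := by
  rintro rfl
  exact h Subgroup.card_bot

theorem ne_bot_iff {H : Subgroup G} : H ≠ ⊥ ↔ Nat.card H ≠ 1 :=
  ⟨fun h h1 => h (Subgroup.card_eq_one.mp h1), ne_bot_of_card⟩

end leaf

/-- **LeafF4 from its inputs.** -/
theorem leafF4_of {K : Cls.{u}} (hSp : SplitStep.{u}) (hNs : NatStep.{u}) (h1 : F4NC.{u}) (h2 : F4Cen K)
    (h3 : F4Nat K) (h4 : F4NatBig K) (h5 : F4SymBig K) : LeafF4 K := by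
  intro G _ _ hG hcl S hF hI hT hW P₁ P₂ x hm hnf m hm2 hS hc
  obtain ⟨y, hp⟩ := exists_pos hG.char2 S hT hm
  obtain ⟨A, ε, hs⟩ := hSp G hG.char2 S P₁ m hm2 hp.pair.star₁ hS
  have c1 := hs.card_zc hG.char2 hp.pair.star₁ (by omega)
  rcases hc with hN | ⟨m', hm2', hS'⟩
  · have hl := labZ hp hs
    obtain ⟨e4, c2⟩ := hNs G hG.char2 S P₁ P₂ y m A ε hm2 hl hN
    have hne : cv (S : Subgroup G) P₁ ≠ ⊥ ∧ cv (S : Subgroup G) P₂ ≠ ⊥ := by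
      rw [ne_bot_iff, ne_bot_iff]
      have e : Nat.card (cv (S : Subgroup G) P₁) = Nat.card (cv (S : Subgroup G) P₂) := by omega
      rw [e, and_self]
      intro h0
      apply hnf
      exact ⟨Subgroup.card_eq_one.mp (e.trans h0), Subgroup.card_eq_one.mp h0⟩
    by_cases hm3 : m = 2
    · subst hm3
      exact h3 G hG hcl S hF hI hT hW P₁ P₂ y A ε hl hN e4 hne.1 hne.2
    · exact h4 G hG hcl S hF hI hT hW P₁ P₂ y m A ε (by omega) hl hN e4 hne.1 hne.2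
  · obtain ⟨A₂, ε₂, hs₂⟩ := hSp G hG.char2 S P₂ m' hm2' hp.pair.star₂ hS'
    have c2 := hs₂.card_zc hG.char2 hp.pair.star₂ (by omega)
    have hne : cv (S : Subgroup G) P₁ ≠ ⊥ ∧ cv (S : Subgroup G) P₂ ≠ ⊥ := by
      rw [ne_bot_iff, ne_bot_iff]
      have e : Nat.card (cv (S : Subgroup G) P₁) = Nat.card (cv (S : Subgroup G) P₂) := by omega
      rw [e, and_self]
      intro h0
      apply hnf
      exact ⟨Subgroup.card_eq_one.mp (e.trans h0), Subgroup.card_eq_one.mp h0⟩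
    have hl := labTwoZ hp hs hs₂
    by_cases hbig : 3 ≤ m ∨ 3 ≤ m'
    · exact h5 G hG hcl S hF hI hT hW P₁ P₂ y m m' A ε A₂ ε₂ hm2 hm2' hbig hl hne.1 hne.2
    · obtain rfl : m = 2 := by omega
      obtain rfl : m' = 2 := by omega
      by_cases hC : Cen (zl (S : Subgroup G) P₁) (cj y (zl (S : Subgroup G) P₂))
      · exact h2 G hG hcl S hF hI hT hW P₁ P₂ y A ε A₂ ε₂ hl hne.1 hne.2 hC
      · exact (h1 G hG S hF hI hT hW P₁ P₂ y A ε A₂ ε₂ hl hne.1 hne.2 hC).elim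

end Cfsg.Agent.Omega.F4Leaf.Main
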