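import Cfsg.Agent.Omega.NSix.Match
import Cfsg.Agent.Omega.NSix.MatchP

/-!
# The matching lemma with `V₀ ≠ 1` (bb OMEGA #15619): pure module theory

`Ω` has `2 ^ m + 1 ≥ 5` points, `Y` is an elementary abelian 2-group with an action of `Sym(Ω)` and an equivariant
copy `ι` of the module of the subsets of `Ω` modulo complements; every vector fixed by a Sylow 2-subgroup of `Sym(Ω)`
is a vector fixed by `Sym(Ω)` plus a multiple of the point `o`.  If `F s k` (`s` a pair, `k ∉ s`) is an equivariant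
family of vectors and `∑ k, F s k = 0` for all `s`, then `F = 0` or `F s k` is the subset `s ∪ {k}`.
-/

set_option autoImplicit false
set_option linter.unusedSectionVars false

namespace Cfsg.Agent.Omega.F4Leaf.Match

open Equiv Equiv.Perm MulAction Pointwise Cfsg.Agent.Omega.NSix.Match
open Cfsg.Agent.Omega.NSix.MatchP (exists_perm inj4 inj5 const_pair_on const_triple odd_nsmul)

section pm

variable {Ω : Type*} [Fintype Ω] [DecidableEq Ω]

/-- An `S`-invariant perfect matching of `Ω - o`. -/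
structure PM (S : Subgroup (Perm Ω)) (o : Ω) (ν : Finset (Finset Ω)) : Prop where
  inv : ∀ g ∈ S, ∀ s ∈ ν, g • s ∈ ν
  two : ∀ s ∈ ν, s.card = 2
  off : ∀ s ∈ ν, o ∉ s
  ex : ∀ x, x ≠ o → ∃ s ∈ ν, x ∈ s
  unq : ∀ s ∈ ν, ∀ t ∈ ν, ∀ x, x ∈ s → x ∈ t → s = t

theorem mem_smul' {g : Perm Ω} {s : Finset Ω} {x : Ω} : x ∈ g • s ↔ g⁻¹ x ∈ s := by
  rw [← Finset.inv_smul_mem_iff]
  rfl

theorem pm_of {m : ℕ} {S : Subgroup (Perm Ω)} {o : Ω} {a b : Finset Ω} {M : Subgroup (Perm Ω)} {τ : Perm Ω}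
    {μ : Finset (Finset Ω)} (B : Blocks m S o a b M τ μ) : PM S o (μ ∪ μ.image fun s => τ • s) := by
  have hab : ∀ s ∈ μ, τ • s ⊆ a := by
    intro s hs x hx
    rw [← B.tb, mem_smul']
    exact B.sub s hs (mem_smul'.mp hx)
  constructor
  · intro g hg s hs
    have hM : ∀ g ∈ M, ∀ s ∈ μ ∪ μ.image (fun s => τ • s), g • s ∈ μ ∪ μ.image fun s => τ • s := by
      intro g hg s hs
      rw [Finset.mem_union, Finset.mem_image] at hs ⊢
      rcases hs with hs | ⟨t, ht, rfl⟩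
      · exact Or.inl (B.inv g hg s hs)
      · refine Or.inr ⟨(τ⁻¹ * g * τ) • t, B.inv _ (B.norm g hg) t ht, ?_⟩
        rw [← mul_smul, ← mul_smul]
        congr 1
        group
    have hτ : ∀ s ∈ μ ∪ μ.image (fun s => τ • s), τ • s ∈ μ ∪ μ.image fun s => τ • s := by
      intro s hs
      rw [Finset.mem_union, Finset.mem_image] at hs ⊢
      rcases hs with hs | ⟨t, ht, rfl⟩
      · exact Or.inr ⟨s, hs, rfl⟩
      · left
        rw [← mul_smul]
        exact B.inv _ B.sq t ht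
    rcases B.cov g hg with h1 | h1
    · exact hM g h1 s hs
    · have h2 := hτ _ (hM _ h1 s hs)
      rw [← mul_smul, mul_inv_cancel_left] at h2
      exact h2
  · intro s hs
    rw [Finset.mem_union, Finset.mem_image] at hs
    rcases hs with hs | ⟨t, ht, rfl⟩
    · exact B.two s hs
    · rw [Finset.card_smul_finset, B.two t ht]
  · intro s hs ho
    rw [Finset.mem_union, Finset.mem_image] at hs
    rcases hs with hs | ⟨t, ht, rfl⟩
    · exact B.ob (B.sub s hs ho)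
    · exact B.oa (hab t ht ho)
  · intro x hx
    rcases B.uni x with h | h | h
    · exact absurd h hx
    · rw [← B.tb, mem_smul'] at h
      obtain ⟨s, hs, hxs⟩ := B.ex _ h
      exact ⟨τ • s, Finset.mem_union_right _ (Finset.mem_image_of_mem _ hs), mem_smul'.mpr hxs⟩
    · obtain ⟨s, hs, hxs⟩ := B.ex _ h
      exact ⟨s, Finset.mem_union_left _ hs, hxs⟩
  · intro s hs t ht x hxs hxt
    rw [Finset.mem_union, Finset.mem_image] at hs ht
    rcases hs with hs | ⟨s, hs, rfl⟩ <;> rcases ht with ht | ⟨t, ht, rfl⟩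
    · exact B.unq s hs t ht x hxs hxt
    · exact absurd (B.sub s hs hxs) (B.dis x (hab t ht hxt))
    · exact absurd (B.sub t ht hxt) (B.dis x (hab s hs hxs))
    · rw [B.unq s hs t ht _ (mem_smul'.mp hxs) (mem_smul'.mp hxt)]

theorem exists_off {n : ℕ} (hn : n < Fintype.card Ω) (s : Finset Ω) (hs : s.card ≤ n) : ∃ x, x ∉ s := by
  obtain ⟨x, -, hx⟩ := Finset.exists_mem_notMem_of_card_lt_card (s := s) (t := Finset.univ)
    (by rw [Finset.card_univ]; omega)
  exact ⟨x, hx⟩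

theorem exists_off4 (hc : 5 ≤ Fintype.card Ω) (i j k l : Ω) : ∃ x, x ≠ i ∧ x ≠ j ∧ x ≠ k ∧ x ≠ l := by
  obtain ⟨x, hx⟩ := exists_off (n := 4) (by omega) {i, j, k, l} Finset.card_le_four
  simp only [Finset.mem_insert, Finset.mem_singleton, not_or] at hx
  exact ⟨x, hx⟩

variable {Y : Type*} [AddCommGroup Y] [DistribMulAction (Perm Ω) Y]

/-- The exchange relation from an invariant matching. -/
theorem PM.exch {S : Subgroup (Perm Ω)} {o : Ω} {ν : Finset (Finset Ω)} (N : PM S o ν) (hc : 5 ≤ Fintype.card Ω)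
    (hfix : ∀ s ∈ S, s o = o)
    (hS : ∀ y : Y, (∀ s ∈ S, s • y = y) → ∀ σ : Perm Ω, σ o = o → σ • y = y) {E : Finset Ω → Y}
    (hE : ∀ σ : Perm Ω, σ o = o → ∀ i j, i ≠ j → i ≠ o → j ≠ o → σ • E {i, j} = E {σ i, σ j})
    {i j k l : Ω} (hij : i ≠ j) (hik : i ≠ k) (hil : i ≠ l) (hjk : j ≠ k) (hjl : j ≠ l) (hkl : k ≠ l)
    (hi : i ≠ o) (hj : j ≠ o) (hk : k ≠ o) (hl : l ≠ o) :
    E {i, j} + E {k, l} = E {i, k} + E {j, l} := by
  have hE' : ∀ σ : Perm Ω, σ o = o → ∀ s, s.card = 2 → o ∉ s → σ • E s = E (σ • s) := by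
    intro σ hσ s hs hos
    obtain ⟨u, v, huv, rfl⟩ := Finset.card_eq_two.mp hs
    simp only [Finset.mem_insert, Finset.mem_singleton, not_or] at hos
    rw [hE σ hσ u v huv (Ne.symm hos.1) (Ne.symm hos.2), pair_smul]
  -- two members of the matching
  obtain ⟨p, hp⟩ := exists_off (n := 1) (by omega) {o} (by simp)
  rw [Finset.mem_singleton] at hp
  obtain ⟨s1, hs1, hps1⟩ := N.ex p hp
  obtain ⟨p', hpp, rfl⟩ : ∃ p', p' ≠ p ∧ s1 = {p, p'} := by
    obtain ⟨u, v, huv, rfl⟩ := Finset.card_eq_two.mp (N.two s1 hs1)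
    rcases (by simpa using hps1 : p = u ∨ p = v) with rfl | rfl
    · exact ⟨v, huv.symm, rfl⟩
    · exact ⟨u, huv, Finset.pair_comm _ _⟩
  obtain ⟨q, hq⟩ := exists_off (n := 3) (by omega) {o, p, p'} Finset.card_le_three
  simp only [Finset.mem_insert, Finset.mem_singleton, not_or] at hq
  obtain ⟨hqo, hqp, hqp'⟩ := hq
  obtain ⟨s2, hs2, hqs2⟩ := N.ex q hqo
  obtain ⟨q', hqq, rfl⟩ : ∃ q', q' ≠ q ∧ s2 = {q, q'} := by
    obtain ⟨u, v, huv, rfl⟩ := Finset.card_eq_two.mp (N.two s2 hs2)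
    rcases (by simpa using hqs2 : q = u ∨ q = v) with rfl | rfl
    · exact ⟨v, huv.symm, rfl⟩
    · exact ⟨u, huv, Finset.pair_comm _ _⟩
  have hs12 : ({p, p'} : Finset Ω) ≠ {q, q'} := by
    intro h0
    have h1 : q ∈ ({p, p'} : Finset Ω) := by
      rw [h0]
      simp
    simp only [Finset.mem_insert, Finset.mem_singleton] at h1
    exact h1.elim hqp hqp'
  have hq'p : q' ≠ p := fun h0 => hs12 (N.unq _ hs1 _ hs2 p (by simp) (by rw [← h0]; simp))
  have hq'p' : q' ≠ p' := fun h0 => hs12 (N.unq _ hs1 _ hs2 p' (by simp) (by rw [← h0]; simp))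
  have ho1 := N.off _ hs1
  have ho2 := N.off _ hs2
  simp only [Finset.mem_insert, Finset.mem_singleton, not_or] at ho1 ho2
  have hbase : E {p, p'} + E {q, q'} = E {p, q} + E {p', q'} := by
    set g : Perm Ω := swap p' q with hg
    have hgo : g o = o := swap_apply_of_ne_of_ne ho1.2 ho2.1
    set y : Y := ∑ s ∈ ν, E s with hy
    have hyS : ∀ s ∈ S, s • y = y := by
      intro h hh
      rw [hy, Finset.smul_sum]
      exact Finset.sum_nbij' (fun s => h • s) (fun s => h⁻¹ • s) (fun s hs => N.inv h hh s hs)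
        (fun s hs => N.inv _ (S.inv_mem hh) s hs) (fun s _ => inv_smul_smul h s) (fun s _ => smul_inv_smul h s)
        fun s hs => hE' h (hfix h hh) s (N.two s hs) (N.off s hs)
    have h1 : y = E {p, p'} + (E {q, q'} + ∑ s ∈ (ν.erase {p, p'}).erase {q, q'}, E s) := by
      rw [hy, ← Finset.add_sum_erase ν _ hs1,
        ← Finset.add_sum_erase (ν.erase {p, p'}) _ (Finset.mem_erase.mpr ⟨hs12.symm, hs2⟩)]
    have h2 : g • y = y := hS y hyS g hgo
    have h3 : g • ∑ s ∈ (ν.erase {p, p'}).erase {q, q'}, E s = ∑ s ∈ (ν.erase {p, p'}).erase {q, q'}, E s := by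
      rw [Finset.smul_sum]
      refine Finset.sum_congr rfl fun s hs => ?_
      rw [Finset.mem_erase, Finset.mem_erase] at hs
      rw [hE' g hgo s (N.two s hs.2.2) (N.off s hs.2.2), swap_smul_eq_self]
      · intro h0
        exact hs.2.1 (N.unq s hs.2.2 _ hs1 p' h0 (by simp))
      · intro h0
        exact hs.1 (N.unq s hs.2.2 _ hs2 q h0 (by simp))
    have h4 : g p = p := swap_apply_of_ne_of_ne hpp.symm (Ne.symm hqp)
    have h5 : g p' = q := swap_apply_left _ _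
    have h6 : g q = p' := swap_apply_right _ _
    have h7 : g q' = q' := swap_apply_of_ne_of_ne hq'p' hqq
    rw [h1, smul_add, smul_add, h3, hE g hgo p p' hpp.symm (Ne.symm ho1.1) (Ne.symm ho1.2),
      hE g hgo q q' hqq.symm (Ne.symm ho2.1) (Ne.symm ho2.2), h4, h5, h6, h7, ← add_assoc, ← add_assoc] at h2
    exact (add_right_cancel h2).symm
  obtain ⟨g, hg⟩ := exists_perm (x := ![p, p', q, q', o]) (y := ![i, j, k, l, o])
    (inj5 hpp.symm (Ne.symm hqp) (Ne.symm hq'p) (Ne.symm ho1.1) (Ne.symm hqp') (Ne.symm hq'p') (Ne.symm ho1.2)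
      hqq.symm (Ne.symm ho2.1) (Ne.symm ho2.2))
    (inj5 hij hik hil hi hjk hjl hj hkl hk hl)
  have g1 : g p = i := hg 0
  have g2 : g p' = j := hg 1
  have g3 : g q = k := hg 2
  have g4 : g q' = l := hg 3
  have g5 : g o = o := hg 4
  have h7 := congrArg (fun w => g • w) hbase
  simp only [smul_add] at h7
  rw [hE g g5 p p' hpp.symm (Ne.symm ho1.1) (Ne.symm ho1.2), hE g g5 q q' hqq.symm (Ne.symm ho2.1) (Ne.symm ho2.2),
    hE g g5 p q (Ne.symm hqp) (Ne.symm ho1.1) (Ne.symm ho2.1),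
    hE g g5 p' q' (Ne.symm hq'p') (Ne.symm ho1.2) (Ne.symm ho2.2), g1, g2, g3, g4] at h7
  exact h7

end pm

section main

variable {Ω : Type*} [Fintype Ω] [DecidableEq Ω] {Y : Type*} [AddCommGroup Y] [DistribMulAction (Perm Ω) Y]

/-- The fixed vectors of `S` are the vectors `v` and `v + z_o` with `v` fixed by everything. -/
def FixS (S : Subgroup (Perm Ω)) (ι : (Ω → ZMod 2) → Y) : Prop :=
  ∀ o : Ω, (∀ s ∈ S, s o = o) → ∀ y : Y, (∀ s ∈ S, s • y = y) →
    ∃ v : Y, (∀ σ : Perm Ω, σ • v = v) ∧ (y = v ∨ y = v + ι (ind {o}))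

/-- An equivariant family of vectors with trivial sums. -/
structure Fam (F : Finset Ω → Ω → Y) : Prop where
  smul : ∀ (σ : Perm Ω) i j k, i ≠ j → i ≠ k → j ≠ k → σ • F {i, j} k = F {σ i, σ j} (σ k)
  sum : ∀ s : Finset Ω, s.card = 2 → ∑ k ∈ sᶜ, F s k = 0

theorem sum_ind {ι : (Ω → ZMod 2) → Y} (hM : Mod ι) (s : Finset Ω) : ∑ k ∈ s, ι (ind {k}) = ι (ind s) := by
  induction s using Finset.induction_on with
  | empty =>
    rw [Finset.sum_empty]
    exact ((hM.ker _).mpr (Or.inl (by funext x; simp [ind]))).symm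
  | insert a s ha ih =>
    rw [Finset.sum_insert ha, ih, ← hM.add]
    congr 1
    funext x
    by_cases hx : x = a
    · subst hx
      simp [ind, ha]
    · simp [ind, hx]

theorem ind_compl {ι : (Ω → ZMod 2) → Y} (hM : Mod ι) (s : Finset Ω) : ι (ind sᶜ) = ι (ind s) := by
  rw [hM.eq_iff_add, ← hM.add, hM.ker]
  right
  funext x
  by_cases hx : x ∈ s <;> simp [ind, hx]

theorem ind_insert {ι : (Ω → ZMod 2) → Y} (hM : Mod ι) {s : Finset Ω} {k : Ω} (hk : k ∉ s) :
    ι (ind (insert k s)) = ι (ind s) + ι (ind {k}) := by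
  rw [← sum_ind hM, Finset.sum_insert hk, sum_ind hM, add_comm]

theorem ind_pair {ι : (Ω → ZMod 2) → Y} (hM : Mod ι) {i j : Ω} (hij : i ≠ j) :
    ι (ind {i, j}) = ι (ind {i}) + ι (ind {j}) := by
  rw [← sum_ind hM, Finset.sum_pair hij]

theorem sum_smul (σ : Perm Ω) (s : Finset Ω) (f : Ω → Y) : ∑ i ∈ σ • s, f i = ∑ j ∈ s, f (σ j) :=
  Finset.sum_image fun _ _ _ _ h => σ.injective h

theorem main {ι : (Ω → ZMod 2) → Y} (hM : Mod ι) {m : ℕ} (hm : 2 ≤ m) (hc : Fintype.card Ω = 2 ^ m + 1)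
    {S : Subgroup (Perm Ω)} {o : Ω} {a b : Finset Ω} {M : Subgroup (Perm Ω)} {τ : Perm Ω}
    {μ : Finset (Finset Ω)} (B : Blocks m S o a b M τ μ) (hS : FixS S ι) {F : Finset Ω → Ω → Y} (hF : Fam F) :
    (∀ i j k, i ≠ j → i ≠ k → j ≠ k → F {i, j} k = 0) ∨
      ∀ i j k, i ≠ j → i ≠ k → j ≠ k → F {i, j} k = ι (ind {i, j}) + ι (ind {k}) := by
  have hc5 : 5 ≤ Fintype.card Ω := by
    have : 2 ^ 2 ≤ 2 ^ m := Nat.pow_le_pow_right (by norm_num) hm
    omega
  have h2 := hM.two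
  have N := pm_of B
  have hSo : ∀ y : Y, (∀ s ∈ S, s • y = y) → ∀ σ : Perm Ω, σ o = o → σ • y = y := by
    intro y hy σ hσ
    obtain ⟨v, hv, rfl | rfl⟩ := hS o B.fix y hy
    · exact hv σ
    · rw [smul_add, hv, hM.act_ind, Finset.smul_finset_singleton, Perm.smul_def, hσ]
  -- (1)
  have hA0 : ∀ i j k l, i ≠ j → i ≠ k → i ≠ l → j ≠ k → j ≠ l → k ≠ l → i ≠ o → j ≠ o → k ≠ o → l ≠ o →
      F {i, j} o + F {k, l} o = F {i, k} o + F {j, l} o := by
    intro i j k l h1 h2 h3 h4 h5 h6 h7 h8 h9 h10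
    refine N.exch hc5 B.fix hSo (E := fun s => F s o) ?_ h1 h2 h3 h4 h5 h6 h7 h8 h9 h10
    intro σ hσ i j hij hi hj
    have h11 := hF.smul σ i j o hij hi hj
    rw [hσ] at h11
    exact h11
  have hA : ∀ x i j k l, i ≠ j → i ≠ k → i ≠ l → j ≠ k → j ≠ l → k ≠ l → i ≠ x → j ≠ x → k ≠ x → l ≠ x →
      F {i, j} x + F {k, l} x = F {i, k} x + F {j, l} x := by
    intro x i j k l h1 h2 h3 h4 h5 h6 h7 h8 h9 h10
    have hsx : swap x o x = o := swap_apply_left _ _
    have hne : ∀ {u}, u ≠ x → swap x o u ≠ o := fun {u} hu h0 =>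
      hu ((swap x o).injective (h0.trans hsx.symm))
    have hinj : ∀ {u v : Ω}, u ≠ v → swap x o u ≠ swap x o v := fun h => (swap x o).injective.ne h
    have h11 := hA0 (swap x o i) (swap x o j) (swap x o k) (swap x o l) (hinj h1) (hinj h2) (hinj h3) (hinj h4)
      (hinj h5) (hinj h6) (hne h7) (hne h8) (hne h9) (hne h10)
    have h12 : ∀ u v, u ≠ v → u ≠ x → v ≠ x → F {swap x o u, swap x o v} o = swap x o • F {u, v} x := by
      intro u v huv hu hv
      rw [hF.smul _ u v x huv hu hv, hsx]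
    rw [h12 i j h1 h7 h8, h12 k l h6 h9 h10, h12 i k h2 h7 h9, h12 j l h5 h8 h10, ← smul_add, ← smul_add] at h11
    exact (MulAction.injective _) h11
  -- (2)
  set E : Ω → Finset Ω → Y := fun x s => ∑ k ∈ s, F (insert x (s.erase k)) k with hE
  have hEp : ∀ x i j, i ≠ j → E x {i, j} = F {x, j} i + F {x, i} j := by
    intro x i j hij
    have h1 : ({i, j} : Finset Ω).erase i = {j} := by
      rw [Finset.erase_insert]
      simpa using hij
    have h2 : ({i, j} : Finset Ω).erase j = {i} := by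
      rw [Finset.pair_comm, Finset.erase_insert]
      simpa using hij.symm
    rw [hE]
    simp only
    rw [Finset.sum_pair hij, h1, h2]
  have hB0 : ∀ i j k l, i ≠ j → i ≠ k → i ≠ l → j ≠ k → j ≠ l → k ≠ l → i ≠ o → j ≠ o → k ≠ o → l ≠ o →
      E o {i, j} + E o {k, l} = E o {i, k} + E o {j, l} := by
    intro i j k l h1 h2 h3 h4 h5 h6 h7 h8 h9 h10
    refine N.exch hc5 B.fix hSo (E := E o) ?_ h1 h2 h3 h4 h5 h6 h7 h8 h9 h10
    intro σ hσ i j hij hi hj
    rw [hEp o i j hij, hEp o _ _ (σ.injective.ne hij), smul_add, hF.smul σ o j i hj.symm hi.symm hij.symm,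
      hF.smul σ o i j hi.symm hj.symm hij, hσ]
  have hB : ∀ x i j k l, i ≠ j → i ≠ k → i ≠ l → j ≠ k → j ≠ l → k ≠ l → i ≠ x → j ≠ x → k ≠ x → l ≠ x →
      E x {i, j} + E x {k, l} = E x {i, k} + E x {j, l} := by
    intro x i j k l h1 h2 h3 h4 h5 h6 h7 h8 h9 h10
    have hsx : swap x o x = o := swap_apply_left _ _
    have hne : ∀ {u}, u ≠ x → swap x o u ≠ o := fun {u} hu h0 =>
      hu ((swap x o).injective (h0.trans hsx.symm))
    have hinj : ∀ {u v : Ω}, u ≠ v → swap x o u ≠ swap x o v := fun h => (swap x o).injective.ne h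
    have h11 := hB0 (swap x o i) (swap x o j) (swap x o k) (swap x o l) (hinj h1) (hinj h2) (hinj h3) (hinj h4)
      (hinj h5) (hinj h6) (hne h7) (hne h8) (hne h9) (hne h10)
    have h12 : ∀ u v, u ≠ v → u ≠ x → v ≠ x → E o {swap x o u, swap x o v} = swap x o • E x {u, v} := by
      intro u v huv hu hv
      rw [hEp o _ _ (hinj huv), hEp x u v huv, smul_add, hF.smul _ x v u hv.symm hu.symm huv.symm,
        hF.smul _ x u v hu.symm hv.symm huv, hsx]
    rw [h12 i j h1 h7 h8, h12 k l h6 h9 h10, h12 i k h2 h7 h9, h12 j l h5 h8 h10, ← smul_add, ← smul_add] at h11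
    exact (MulAction.injective _) h11
  -- the constants
  have hconst : ∀ x, ∃ c : Y, ∀ i j k, i ≠ j → i ≠ k → j ≠ k → i ≠ x → j ≠ x → k ≠ x →
      F {i, j} x + F {i, k} x + F {j, k} x = c := by
    intro x
    let κ : {y // y ≠ x} → {y // y ≠ x} → {y // y ≠ x} → Y := fun i j k =>
      F {(i : Ω), (j : Ω)} x + F {(i : Ω), (k : Ω)} x + F {(j : Ω), (k : Ω)} x
    obtain ⟨i0, hi0, -, -, -⟩ := exists_off4 hc5 x x x x
    obtain ⟨j0, hj0, hj1, -, -⟩ := exists_off4 hc5 x i0 x x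
    obtain ⟨k0, hk0, hk1, hk2, -⟩ := exists_off4 hc5 x i0 j0 x
    refine ⟨κ ⟨i0, hi0⟩ ⟨j0, hj0⟩ ⟨k0, hk0⟩, fun i j k hij hik hjk hi hj hk => ?_⟩
    refine const_triple (κ := κ) ?_ ?_ ?_ ?_ (i := ⟨i, hi⟩) (j := ⟨j, hj⟩) (k := ⟨k, hk⟩)
      (fun h => hij (congrArg Subtype.val h)) (fun h => hik (congrArg Subtype.val h))
      (fun h => hjk (congrArg Subtype.val h)) (fun h => hj1 (congrArg Subtype.val h).symm)
      (fun h => hk1 (congrArg Subtype.val h).symm) (fun h => hk2 (congrArg Subtype.val h).symm)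
    · intro i j k
      change F {(i : Ω), (j : Ω)} x + F {(i : Ω), (k : Ω)} x + F {(j : Ω), (k : Ω)} x =
        F {(j : Ω), (i : Ω)} x + F {(j : Ω), (k : Ω)} x + F {(i : Ω), (k : Ω)} x
      rw [Finset.pair_comm (i : Ω) j]
      abel
    · intro i j k
      change F {(i : Ω), (j : Ω)} x + F {(i : Ω), (k : Ω)} x + F {(j : Ω), (k : Ω)} x =
        F {(i : Ω), (k : Ω)} x + F {(i : Ω), (j : Ω)} x + F {(k : Ω), (j : Ω)} x
      rw [Finset.pair_comm (j : Ω) k]
      abel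
    · intro j k
      obtain ⟨i, h1, h2, h3, -⟩ := exists_off4 hc5 x j k x
      exact ⟨⟨i, h1⟩, fun h => h2 (congrArg Subtype.val h), fun h => h3 (congrArg Subtype.val h)⟩
    · rintro ⟨i, hi⟩ ⟨j, hj⟩ ⟨k, hk⟩ ⟨l, hl⟩ h1 h2 h3 h4 h5 h6
      rw [Ne, Subtype.mk.injEq] at h1 h2 h3 h4 h5 h6
      change F {i, j} x + F {i, k} x + F {j, k} x = F {i, j} x + F {i, l} x + F {j, l} x
      have h7 := hA x i k j l h2 h1 h3 (Ne.symm h4) h6 h5 hi hk hj hl
      have h8 := hA x i l j k h3 h1 h2 (Ne.symm h5) (Ne.symm h6) h4 hi hl hj hk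
      rw [Finset.pair_comm l k, ← h7, add_comm (F {i, l} x)] at h8
      have h9 := hM.exch h8.symm
      rw [add_assoc, add_assoc, h9, add_comm (F {j, l} x)]
  choose c hcc using hconst
  have hcσ : ∀ (σ : Perm Ω) x, σ • c x = c (σ x) := by
    intro σ x
    obtain ⟨i, hi, -, -, -⟩ := exists_off4 hc5 x x x x
    obtain ⟨j, hj, hj1, -, -⟩ := exists_off4 hc5 x i x x
    obtain ⟨k, hk, hk1, hk2, -⟩ := exists_off4 hc5 x i j x
    rw [← hcc x i j k hj1.symm hk1.symm hk2.symm hi hj hk, smul_add, smul_add, hF.smul _ _ _ _ hj1.symm hi hj,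
      hF.smul _ _ _ _ hk1.symm hi hk, hF.smul _ _ _ _ hk2.symm hj hk]
    exact hcc (σ x) _ _ _ (σ.injective.ne hj1.symm) (σ.injective.ne hk1.symm) (σ.injective.ne hk2.symm)
      (σ.injective.ne hi) (σ.injective.ne hj) (σ.injective.ne hk)
  set Gf : Finset Ω → Ω → Y := fun s k => F s k + c k with hGf
  have hGσ : ∀ (σ : Perm Ω) i j k, i ≠ j → i ≠ k → j ≠ k → σ • Gf {i, j} k = Gf {σ i, σ j} (σ k) := by
    intro σ i j k h1 h2 h3
    change σ • (F {i, j} k + c k) = F {σ i, σ j} (σ k) + c (σ k)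
    rw [smul_add, hF.smul σ i j k h1 h2 h3, hcσ]
  have hGadd : ∀ i j l k, i ≠ j → i ≠ l → j ≠ l → i ≠ k → j ≠ k → l ≠ k →
      Gf {i, j} k + Gf {j, l} k = Gf {i, l} k := by
    intro i j l k h1 h2 h3 h4 h5 h6
    rw [hM.eq_iff_add]
    change F {i, j} k + c k + (F {j, l} k + c k) + (F {i, l} k + c k) = 0
    calc F {i, j} k + c k + (F {j, l} k + c k) + (F {i, l} k + c k)
        = (F {i, j} k + F {i, l} k + F {j, l} k) + c k + (c k + c k) := by abel
      _ = 0 := by rw [hcc k i j l h1 h2 h3 h4 h5 h6, hM.two]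
  have hGx : ∀ x i j k, i ≠ j → x ≠ i → x ≠ j → i ≠ k → j ≠ k → x ≠ k →
      Gf {i, j} k = Gf {x, i} k + Gf {x, j} k := by
    intro x i j k h1 h2 h3 h4 h5 h6
    rw [← hGadd i x j k h2.symm h1 h3 h4 h6 h5, Finset.pair_comm i x]
  have hEG : ∀ x i k, i ≠ k → Gf {x, k} i + Gf {x, i} k = E x {i, k} + (c i + c k) := by
    intro x i k hik
    rw [hEp x i k hik]
    change F {x, k} i + c i + (F {x, i} k + c k) = _
    abel
  have hGsym : ∀ i j k l, i ≠ j → i ≠ k → i ≠ l → j ≠ k → j ≠ l → k ≠ l →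
      Gf {i, j} k + Gf {i, j} l = Gf {k, l} i + Gf {k, l} j := by
    intro i j k l h1 h2 h3 h4 h5 h6
    obtain ⟨x, hx1, hx2, hx3, hx4⟩ := exists_off4 hc5 i j k l
    rw [hGx x i j k h1 hx1 hx2 h2 h4 hx3, hGx x i j l h1 hx1 hx2 h3 h5 hx4,
      hGx x k l i h6 hx3 hx4 (Ne.symm h2) (Ne.symm h3) hx1, hGx x k l j h6 hx3 hx4 (Ne.symm h4) (Ne.symm h5) hx2,
      hM.eq_iff_add]
    have e1 := hEG x i k h2
    have e2 := hEG x j k h4
    have e3 := hEG x i l h3
    have e4 := hEG x j l h5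
    have b1 := hB x i k j l h2 h1 h3 (Ne.symm h4) h6 h5 hx1.symm hx3.symm hx2.symm hx4.symm
    have b2 := hB x i l j k h3 h1 h2 (Ne.symm h5) (Ne.symm h6) h4 hx1.symm hx4.symm hx2.symm hx3.symm
    calc Gf {x, i} k + Gf {x, j} k + (Gf {x, i} l + Gf {x, j} l) +
          (Gf {x, k} i + Gf {x, l} i + (Gf {x, k} j + Gf {x, l} j))
        = (Gf {x, k} i + Gf {x, i} k) + (Gf {x, k} j + Gf {x, j} k) + (Gf {x, l} i + Gf {x, i} l) +
          (Gf {x, l} j + Gf {x, j} l) := by abel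
      _ = (E x {i, k} + (c i + c k)) + (E x {j, k} + (c j + c k)) + (E x {i, l} + (c i + c l)) +
          (E x {j, l} + (c j + c l)) := by rw [e1, e2, e3, e4]
      _ = (E x {i, k} + E x {j, l}) + (E x {i, l} + E x {j, k}) + (c i + c i) + (c j + c j) + (c k + c k) +
          (c l + c l) := by abel
      _ = 0 := by
        rw [b1, b2, Finset.pair_comm l k]
        simp only [hM.two]
  -- (3)
  have hba : ∀ {i}, i ∈ b → i ∉ a := fun {i} hi h0 => B.dis i h0 hi
  have hab : ∀ {i}, i ∈ a → i ∉ b := fun {i} hi h0 => B.dis i hi h0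
  set H : Finset Ω → Y := fun s => ∑ i ∈ a, Gf s i with hH
  have hHσ : ∀ σ : Perm Ω, σ • a = a → ∀ i j, i ≠ j → i ∉ a → j ∉ a → σ • H {i, j} = H {σ i, σ j} := by
    intro σ hσ i j hij hi hj
    change σ • ∑ k ∈ a, Gf {i, j} k = ∑ k ∈ a, Gf {σ i, σ j} k
    have h1 : ∑ k ∈ a, Gf {σ i, σ j} k = ∑ k ∈ σ • a, Gf {σ i, σ j} k := by rw [hσ]
    rw [h1, sum_smul, Finset.smul_sum]
    refine Finset.sum_congr rfl fun k hk => hGσ σ i j k hij ?_ ?_
    · rintro rfl
      exact hi hk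
    · rintro rfl
      exact hj hk
  have hHs : ∀ σ : Perm Ω, σ • a = a → ∀ s ∈ μ, σ • H s = H (σ • s) := by
    intro σ hσ s hs
    obtain ⟨u, v, huv, rfl⟩ := Finset.card_eq_two.mp (B.two s hs)
    rw [hHσ σ hσ u v huv (hba (B.sub _ hs (by simp))) (hba (B.sub _ hs (by simp))), pair_smul]
  have hsumb : ∀ f : Ω → Y, ∑ j ∈ b, f j = ∑ q ∈ μ, ∑ j ∈ q, f j := by
    intro f
    have h1 : b = μ.biUnion id := by
      ext x
      rw [Finset.mem_biUnion]
      exact ⟨fun hx => B.ex x hx, fun ⟨s, hs, hx⟩ => B.sub s hs hx⟩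
    conv_lhs => rw [h1]
    rw [Finset.sum_biUnion]
    · rfl
    · intro s hs t ht hst
      rw [Function.onFun, Finset.disjoint_left]
      intro x hxs hxt
      exact hst (B.unq s hs t ht x hxs hxt)
  have hsuma : ∀ f : Ω → Y, ∑ i ∈ a, f i = ∑ q ∈ μ, ∑ i ∈ τ • q, f i := by
    intro f
    have h1 : ∑ i ∈ a, f i = ∑ i ∈ τ • b, f i := by rw [B.tb]
    rw [h1, sum_smul, hsumb]
    refine Finset.sum_congr rfl fun q _ => ?_
    rw [sum_smul]
  set y : Y := ∑ s ∈ μ, H s with hy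
  have hyM : ∀ g ∈ M, g • y = y := by
    intro g hg
    rw [hy, Finset.smul_sum]
    refine Finset.sum_nbij' (fun s => g • s) (fun s => g⁻¹ • s) (fun s hs => B.inv g hg s hs)
      (fun s hs => B.inv _ (M.inv_mem hg) s hs) (fun s _ => inv_smul_smul g s) (fun s _ => smul_inv_smul g s) ?_
    intro s hs
    exact hHs g (B.Ma g hg) s hs
  have hτi : ∀ x, τ⁻¹ (τ x) = x := fun x => τ.symm_apply_apply x
  have hyτ : τ • y = y := by
    have h1 : τ • y = ∑ p ∈ μ, ∑ q ∈ μ, ∑ j ∈ q, Gf (τ • p) j := by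
      rw [hy, Finset.smul_sum]
      refine Finset.sum_congr rfl fun p hp => ?_
      rw [← hsumb]
      change τ • ∑ i ∈ a, Gf p i = _
      have h1 : ∑ j ∈ b, Gf (τ • p) j = ∑ j ∈ τ • a, Gf (τ • p) j := by rw [B.ta]
      rw [h1, sum_smul, Finset.smul_sum]
      refine Finset.sum_congr rfl fun k hk => ?_
      obtain ⟨u, v, huv, rfl⟩ := Finset.card_eq_two.mp (B.two p hp)
      have hu : u ∈ b := B.sub _ hp (by simp)
      have hv : v ∈ b := B.sub _ hp (by simp)
      rw [hGσ τ u v k huv (fun h => hab hk (h ▸ hu)) (fun h => hab hk (h ▸ hv)), pair_smul]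
    have h2 : y = ∑ p ∈ μ, ∑ q ∈ μ, ∑ i ∈ τ • q, Gf p i := by
      rw [hy]
      exact Finset.sum_congr rfl fun p _ => hsuma _
    rw [h1, h2, Finset.sum_comm]
    refine Finset.sum_congr rfl fun q hq => Finset.sum_congr rfl fun p hp => ?_
    obtain ⟨u, v, huv, rfl⟩ := Finset.card_eq_two.mp (B.two p hp)
    obtain ⟨k, l, hkl, rfl⟩ := Finset.card_eq_two.mp (B.two q hq)
    have hu : τ u ∈ a := by
      rw [← B.tb, mem_smul', hτi]
      exact B.sub _ hp (by simp)
    have hv : τ v ∈ a := by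
      rw [← B.tb, mem_smul', hτi]
      exact B.sub _ hp (by simp)
    have hk : k ∈ b := B.sub _ hq (by simp)
    have hl : l ∈ b := B.sub _ hq (by simp)
    rw [pair_smul, Finset.sum_pair hkl, Finset.sum_pair (τ.injective.ne huv)]
    exact hGsym (τ u) (τ v) k l (τ.injective.ne huv) (fun h => hab hu (h ▸ hk)) (fun h => hab hu (h ▸ hl))
      (fun h => hab hv (h ▸ hk)) (fun h => hab hv (h ▸ hl)) hkl
  have hyS : ∀ s ∈ S, s • y = y := by
    intro s hs
    rcases B.cov s hs with h1 | h1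
    · exact hyM s h1
    · calc s • y = τ • (τ⁻¹ * s) • y := by rw [← mul_smul, mul_inv_cancel_left]
        _ = y := by rw [hyM _ h1, hyτ]
  -- the transposition `(o p')`
  have hoa := B.oa
  have hob := B.ob
  have hcb2 : 2 ≤ b.card := by
    rw [B.cb]
    calc 2 = 2 ^ 1 := by norm_num
      _ ≤ 2 ^ (m - 1) := Nat.pow_le_pow_right (by norm_num) (by omega)
  obtain ⟨p', hp'⟩ : ∃ p', p' ∈ b := Finset.card_pos.mp (by omega)
  obtain ⟨s1, hs1, hps1⟩ := B.ex p' hp'
  obtain ⟨p, hpp, hp, rfl⟩ : ∃ p, p ≠ p' ∧ p ∈ b ∧ s1 = {p, p'} := by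
    obtain ⟨u, v, huv, rfl⟩ := Finset.card_eq_two.mp (B.two s1 hs1)
    have hu := B.sub _ hs1 (by simp : u ∈ ({u, v} : Finset Ω))
    have hv := B.sub _ hs1 (by simp : v ∈ ({u, v} : Finset Ω))
    rcases (by simpa using hps1 : p' = u ∨ p' = v) with rfl | rfl
    · exact ⟨v, huv.symm, hv, Finset.pair_comm _ _⟩
    · exact ⟨u, huv, hu, rfl⟩
  have hpo : p ≠ o := fun h0 => hob (h0 ▸ hp)
  have hp'o : p' ≠ o := fun h0 => hob (h0 ▸ hp')
  obtain ⟨i0, hi0⟩ : ∃ i0, i0 ∈ a := Finset.card_pos.mp (by rw [B.ca]; positivity)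
  have hi0o : i0 ≠ o := fun h0 => hoa (h0 ▸ hi0)
  have hi0p : i0 ≠ p := fun h0 => hba hp (h0 ▸ hi0)
  have hi0p' : i0 ≠ p' := fun h0 => hba hp' (h0 ▸ hi0)
  set g : Perm Ω := swap o p' with hgdef
  have hga : g • a = a := swap_smul_eq_self hoa (hba hp')
  have hgy : y + g • y = H {p', o} := by
    have h1 : y = H {p, p'} + ∑ s ∈ μ.erase {p, p'}, H s := by
      rw [hy, ← Finset.add_sum_erase μ _ hs1]
    have h3 : g • ∑ s ∈ μ.erase {p, p'}, H s = ∑ s ∈ μ.erase {p, p'}, H s := by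
      rw [Finset.smul_sum]
      refine Finset.sum_congr rfl fun s hs => ?_
      rw [Finset.mem_erase] at hs
      rw [hHs g hga s hs.2, swap_smul_eq_self]
      · intro h0
        exact hob (B.sub s hs.2 h0)
      · intro h0
        exact hs.1 (B.unq s hs.2 _ hs1 p' h0 (by simp))
    have h4 : g p = p := swap_apply_of_ne_of_ne hpo hpp
    have h5 : g p' = o := swap_apply_right _ _
    have h6 : g • y = H {p, o} + ∑ s ∈ μ.erase {p, p'}, H s := by
      rw [h1, smul_add, h3, hHσ g hga p p' hpp (hba hp) (hba hp'), h4, h5]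
    have h7 : H {p, p'} + H {p, o} = H {p', o} := by
      rw [hH]
      simp only
      rw [← Finset.sum_add_distrib]
      refine Finset.sum_congr rfl fun k hk => ?_
      have hkp : p ≠ k := fun h0 => hba hp (h0 ▸ hk)
      have hkp' : p' ≠ k := fun h0 => hba hp' (h0 ▸ hk)
      have hko : o ≠ k := fun h0 => hoa (h0 ▸ hk)
      rw [Finset.pair_comm p p']
      exact hGadd p' p o k hpp.symm hp'o hpo hkp' hkp hko
    rw [h6]
    nth_rw 1 [h1]
    set R := ∑ s ∈ μ.erase {p, p'}, H s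
    calc H {p, p'} + R + (H {p, o} + R) = H {p, p'} + H {p, o} + (R + R) := by abel
      _ = _ := by rw [hM.two, add_zero, h7]
  have hD : H {p', o} = 0 ∨ H {p', o} = ι (ind {o}) + ι (ind {p'}) := by
    obtain ⟨v, hv, h1 | h1⟩ := hS o B.fix y hyS
    · left
      rw [← hgy, h1, hv, hM.two]
    · right
      have h4 : g o = p' := swap_apply_left _ _
      rw [← hgy, h1, smul_add, hv, hM.act_ind, Finset.smul_finset_singleton, Perm.smul_def, h4]
      calc v + ι (ind {o}) + (v + ι (ind {p'})) = (v + v) + (ι (ind {o}) + ι (ind {p'})) := by abel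
        _ = _ := by rw [hM.two, zero_add]
  have hG0 : Gf {p', o} i0 = Gf {p', o} p := by
    set h : Perm Ω := swap i0 p with hhdef
    have ho : h o = o := swap_apply_of_ne_of_ne hi0o.symm hpo.symm
    have hp1 : h p' = p' := swap_apply_of_ne_of_ne hi0p'.symm hpp.symm
    have h1 : h • H {p', o} = H {p', o} := by
      rcases hD with h2 | h2
      · rw [h2, smul_zero]
      · rw [h2, smul_add, hM.act_ind, hM.act_ind, Finset.smul_finset_singleton, Finset.smul_finset_singleton,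
          Perm.smul_def, Perm.smul_def, ho, hp1]
    have h2 : h • H {p', o} = Gf {p', o} p + ∑ k ∈ a.erase i0, Gf {p', o} k := by
      change h • ∑ i ∈ a, Gf {p', o} i = _
      rw [← Finset.add_sum_erase a _ hi0, smul_add, hGσ h p' o i0 hp'o hi0p'.symm hi0o.symm, ho, hp1,
        swap_apply_left, Finset.smul_sum]
      congr 1
      refine Finset.sum_congr rfl fun k hk => ?_
      rw [Finset.mem_erase] at hk
      rw [hGσ h p' o k hp'o (fun h0 => hba hp' (h0 ▸ hk.2)) (fun h0 => hoa (h0 ▸ hk.2)), ho, hp1,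
        swap_apply_of_ne_of_ne hk.1 (fun h0 : k = p => hba hp (h0 ▸ hk.2))]
    have h3 : H {p', o} = Gf {p', o} i0 + ∑ k ∈ a.erase i0, Gf {p', o} k := by
      change ∑ i ∈ a, Gf {p', o} i = _
      rw [← Finset.add_sum_erase a _ hi0]
    rw [h2] at h1
    rw [h3] at h1
    exact (add_right_cancel h1).symm
  have hGc : ∀ i j k l, i ≠ j → i ≠ k → i ≠ l → j ≠ k → j ≠ l → Gf {i, j} k = Gf {i, j} l := by
    intro i j k l h1 h2 h3 h4 h5
    by_cases h6 : k = l
    · rw [h6]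
    obtain ⟨g, hg⟩ := exists_perm (x := ![p', o, i0, p]) (y := ![i, j, k, l])
      (inj4 hp'o hi0p'.symm hpp.symm hi0o.symm hpo.symm hi0p) (inj4 h1 h2 h3 h4 h5 h6)
    have g1 : g p' = i := hg 0
    have g2 : g o = j := hg 1
    have g3 : g i0 = k := hg 2
    have g4 : g p = l := hg 3
    have h7 : g • Gf {p', o} i0 = g • Gf {p', o} p := by rw [hG0]
    rw [hGσ g p' o i0 hp'o hi0p'.symm hi0o.symm, hGσ g p' o p hp'o hpp.symm hpo.symm, g1, g2, g3, g4] at h7
    exact h7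
  -- the constants
  have hodd : ∀ s : Finset Ω, s.card = 2 → Odd sᶜ.card := by
    intro s hs
    rw [Finset.card_compl, hs, hc]
    obtain ⟨k, rfl⟩ : ∃ k, m = k + 1 := ⟨m - 1, by omega⟩
    have h1 : 1 ≤ 2 ^ k := Nat.one_le_two_pow
    exact ⟨2 ^ k - 1, by rw [pow_succ]; omega⟩
  have hGsum : ∀ i j k, i ≠ j → i ≠ k → j ≠ k → Gf {i, j} k = ∑ l ∈ ({i, j} : Finset Ω)ᶜ, c l := by
    intro i j k hij hik hjk
    have hcard : ({i, j} : Finset Ω).card = 2 := Finset.card_pair hij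
    have h1 : ∑ l ∈ ({i, j} : Finset Ω)ᶜ, Gf {i, j} l = ∑ l ∈ ({i, j} : Finset Ω)ᶜ, c l := by
      rw [hGf]
      simp only
      rw [Finset.sum_add_distrib, hF.sum _ hcard, zero_add]
    rw [← h1, Finset.sum_congr rfl (g := fun _ => Gf {i, j} k), Finset.sum_const,
      odd_nsmul hM.two (hodd _ hcard)]
    intro l hl
    simp only [Finset.mem_compl, Finset.mem_insert, Finset.mem_singleton, not_or] at hl
    exact hGc i j l k hij (Ne.symm hl.1) hik (Ne.symm hl.2) hjk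
  have hcoS : ∀ s ∈ S, s • c o = c o := by
    intro s hs
    rw [hcσ, B.fix s hs]
  have htr : ∀ k, swap o k o = k := fun k => swap_apply_left _ _
  have hadd3 : ∀ v : Y, ∀ f : Ω → Ω → Y, (∀ i j k, i ≠ j → i ≠ k → j ≠ k → Gf {i, j} k = v + f i j) →
      (∀ i j l, f i j + f j l = f i l) → v = 0 := by
    intro v f h1 h2
    obtain ⟨j, hj, -, -, -⟩ := exists_off4 hc5 o o o o
    obtain ⟨l, hl, hl1, -, -⟩ := exists_off4 hc5 o j o o
    obtain ⟨k, hk, hk1, hk2, -⟩ := exists_off4 hc5 o j l o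
    have h3 := hGadd o j l k hj.symm hl.symm hl1.symm hk.symm hk1.symm hk2.symm
    rw [h1 o j k hj.symm hk.symm hk1.symm, h1 j l k hl1.symm hk1.symm hk2.symm,
      h1 o l k hl.symm hk.symm hk2.symm, ← h2 o j l] at h3
    have h4 : v + f o j + (v + f j l) = (v + v) + (f o j + f j l) := by abel
    rw [h4, hM.two, zero_add] at h3
    exact right_eq_add.mp h3
  obtain ⟨v, hv, hco | hco⟩ := hS o B.fix (c o) hcoS
  · left
    have hck : ∀ k, c k = v := by
      intro k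
      rw [← htr k, ← hcσ, hco, hv]
    have h1 : ∀ i j k, i ≠ j → i ≠ k → j ≠ k → Gf {i, j} k = v := by
      intro i j k h1 h2 h3
      rw [hGsum i j k h1 h2 h3, Finset.sum_congr rfl (fun l _ => hck l), Finset.sum_const,
        odd_nsmul hM.two (hodd _ (Finset.card_pair h1))]
    have hv0 : v = 0 := hadd3 v (fun _ _ => 0) (fun i j k h2 h3 h4 => by rw [h1 i j k h2 h3 h4, add_zero])
      (fun _ _ _ => add_zero 0)
    intro i j k h2 h3 h4
    have h5 : F {i, j} k + c k = v := h1 i j k h2 h3 h4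
    rw [hck, hv0, add_zero] at h5
    exact h5
  · right
    have hck : ∀ k, c k = v + ι (ind {k}) := by
      intro k
      rw [← htr k, ← hcσ, hco, smul_add, hv, hM.act_ind, Finset.smul_finset_singleton, Perm.smul_def]
    have h1 : ∀ i j k, i ≠ j → i ≠ k → j ≠ k → Gf {i, j} k = v + (ι (ind {i}) + ι (ind {j})) := by
      intro i j k h1 h2 h3
      rw [hGsum i j k h1 h2 h3, Finset.sum_congr rfl (fun l _ => hck l), Finset.sum_add_distrib, Finset.sum_const,
        odd_nsmul hM.two (hodd _ (Finset.card_pair h1)), sum_ind hM, ind_compl hM, ind_pair hM h1]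
    have hv0 : v = 0 := hadd3 v (fun i j => ι (ind {i}) + ι (ind {j})) h1 (fun i j l => by
      calc ι (ind {i}) + ι (ind {j}) + (ι (ind {j}) + ι (ind {l}))
          = ι (ind {i}) + ι (ind {l}) + (ι (ind {j}) + ι (ind {j})) := by abel
        _ = _ := by rw [hM.two, add_zero])
    intro i j k h2 h3 h4
    have h5 : F {i, j} k + c k = v + (ι (ind {i}) + ι (ind {j})) := h1 i j k h2 h3 h4
    rw [hck, hv0, zero_add, zero_add] at h5
    rw [ind_pair hM h2, ← h5, add_assoc, hM.two, add_zero]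

/-- **The matching lemma with `V₀`**: `f k`, `k ∉ e`, is an equivariant family for the stabiliser of the pair `e` with
trivial sum: it is trivial, or it is the family of the sets `e ∪ {k}`. -/
theorem matching_lemma {ι : (Ω → ZMod 2) → Y} (hM : Mod ι) {m : ℕ} (hm : 2 ≤ m)
    (hc : Fintype.card Ω = 2 ^ m + 1) (S : Sylow 2 (Perm Ω)) (hS : FixS (S : Subgroup (Perm Ω)) ι) {e : Finset Ω}
    (he : e.card = 2) {f : Ω → Y} (hf : ∀ σ : Perm Ω, σ • e = e → ∀ k, k ∉ e → σ • f k = f (σ k))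
    (h0 : ∑ k ∈ eᶜ, f k = 0) :
    (∀ k, k ∉ e → f k = 0) ∨ ∀ k, k ∉ e → f k = ι (ind e) + ι (ind {k}) := by
  classical
  obtain ⟨o, a, b, M, τ, μ, B⟩ := exists_blocks hm hc S
  obtain ⟨u, v, huv, rfl⟩ := Finset.card_eq_two.mp he
  have hex : ∀ s : Finset Ω, s.card = 2 → ∃ g : Perm Ω, g • ({u, v} : Finset Ω) = s := by
    intro s hs
    obtain ⟨i, j, hij, rfl⟩ := Finset.card_eq_two.mp hs
    obtain ⟨g, hg⟩ := exists_perm (inj_two huv) (inj_two hij)
    have h1 : g u = i := hg 0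
    have h2 : g v = j := hg 1
    exact ⟨g, by rw [pair_smul, h1, h2]⟩
  let F : Finset Ω → Ω → Y := fun s k => if h : ∃ g : Perm Ω, g • ({u, v} : Finset Ω) = s then
    h.choose • f (h.choose⁻¹ k) else 0
  have hFeq : ∀ (g : Perm Ω) k, k ∉ ({u, v} : Finset Ω) → F (g • {u, v}) (g k) = g • f k := by
    intro g k hk
    have h : ∃ g' : Perm Ω, g' • ({u, v} : Finset Ω) = g • {u, v} := ⟨g, rfl⟩
    have h1 : F (g • {u, v}) (g k) = h.choose • f (h.choose⁻¹ (g k)) := dif_pos h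
    rw [h1]
    have h2 := h.choose_spec
    set g' := h.choose
    have h3 : (g'⁻¹ * g) • ({u, v} : Finset Ω) = {u, v} := by
      rw [mul_smul, inv_smul_eq_iff, h2]
    have h4 := hf _ h3 k hk
    rw [Perm.mul_apply] at h4
    rw [← h4, ← mul_smul, mul_inv_cancel_left]
  have hFs : ∀ (σ : Perm Ω) s k, s.card = 2 → k ∉ s → σ • F s k = F (σ • s) (σ k) := by
    intro σ s k hs hk
    obtain ⟨g, rfl⟩ := hex s hs
    have h1 : g⁻¹ k ∉ ({u, v} : Finset Ω) := fun h2 => hk (mem_smul'.mpr h2)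
    have h2 := hFeq g (g⁻¹ k) h1
    have h3 := hFeq (σ * g) (g⁻¹ k) h1
    have h4 : g (g⁻¹ k) = k := g.apply_symm_apply k
    rw [h4] at h2
    rw [Perm.mul_apply, h4, mul_smul, mul_smul, ← h2] at h3
    exact h3.symm
  have hF : Fam F := by
    refine ⟨fun σ i j k hij hik hjk => ?_, fun s hs => ?_⟩
    · rw [hFs σ _ k (Finset.card_pair hij) (by simp [hik.symm, hjk.symm]), pair_smul]
    · obtain ⟨g, rfl⟩ := hex s hs
      have h1 : (g • ({u, v} : Finset Ω))ᶜ = g • ({u, v} : Finset Ω)ᶜ := by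
        ext x
        rw [Finset.mem_compl, mem_smul', mem_smul', Finset.mem_compl]
      rw [h1, sum_smul, Finset.sum_congr rfl (g := fun k => g • f k), ← Finset.smul_sum, h0, smul_zero]
      intro k hk
      exact hFeq g k (Finset.mem_compl.mp hk)
  have hf1 : ∀ k, k ∉ ({u, v} : Finset Ω) → F {u, v} k = f k := by
    intro k hk
    have h1 := hFeq 1 k hk
    rw [one_smul, one_smul] at h1
    exact h1
  have hne : ∀ k, k ∉ ({u, v} : Finset Ω) → u ≠ k ∧ v ≠ k := by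
    intro k hk
    simp only [Finset.mem_insert, Finset.mem_singleton, not_or] at hk
    exact ⟨Ne.symm hk.1, Ne.symm hk.2⟩
  rcases main hM hm hc B hS hF with h | h
  · left
    intro k hk
    rw [← hf1 k hk]
    exact h u v k huv (hne k hk).1 (hne k hk).2
  · right
    intro k hk
    rw [← hf1 k hk]
    exact h u v k huv (hne k hk).1 (hne k hk).2

end main

end Cfsg.Agent.Omega.F4Leaf.Match
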