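import Cfsg.Agent.Omega.F4Leaf.Pos
import Cfsg.Agent.Omega.F4Leaf.NatStep
import Cfsg.Agent.Omega.NSix.Zero
import Cfsg.Agent.Omega.NSix.NoTk

/-!
# LeafF4: the partner of a member of type `S_{2^m+1}`

* `entry_sym` : a partner of type `S_{2^m'+1}`: `b ∈ A'` induces `(i j)` on `A`, `c ∈ A` induces `(k l)` on `A'`,
  `r_ij = r'_kl` (`m, m' ≥ 2`);
* `Partner ε i j e p` : `e ∈ O₂(C_G(r_ij))`, `[O₂(C_G(r_ij)), e] ≤ ⟨r_ij⟩`, `e` moves `z_i`, `p` interchanges `r_ij`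
  and `e`; `partner_nat` : a natural partner.
-/

set_option autoImplicit false
set_option linter.dupNamespace false

namespace Cfsg.Agent.Omega.F4Leaf.Part

open Subgroup Pointwise Cfsg Cfsg.Agent Cfsg.Agent.Omega.MinPar
open Cfsg.Agent.ZN (o2 zc zl)
open Cfsg.Agent.ZN.ChoiceBase
open Cfsg.Agent.Omega.FFThm
open Cfsg.Agent.Omega.FrameFF (cv Single Free)
open Cfsg.Agent.Omega.FrameMulti (IsSym IsNat)
open Cfsg.Agent.Omega.S5.Def Cfsg.Agent.Omega.S5.Syl Cfsg.Agent.Omega.S5.Pair Cfsg.Agent.Omega.F4Leaf.Def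
open Cfsg.Agent.Omega.NSix.Base Cfsg.Agent.Omega.NSix.Basic
open Cfsg.Agent.Omega.NSix.Zero (WP mem_WP)
open Cfsg.Agent.Omega.NSix.PtCen (conj_o2_cent)
open Cfsg.Agent.Omega.F4Leaf.Pos

universe u

variable {G : Type u} [Group G]

theorem rr_eq {n : ℕ} {V L : Subgroup G} {ε : (Fin n → ZMod 2) → G} (h : EvenSet n V L ε) (i j : Fin n) :
    rr ε i j = ε (Pi.single i 1 + Pi.single j 1) := (h.add _ _).symm

/-- membership in `WP` -/
theorem wp_of {n : ℕ} {ε : (Fin n → ZMod 2) → G} {i j : Fin n} {e : G} (he : e ∈ NN ε i j)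
    (h : ∀ q ∈ o2 (NN ε i j), q * e * q⁻¹ = e ∨ q * e * q⁻¹ = e * rr ε i j) :
    e ∈ WP ε i j := by
  refine mem_WP.mpr ⟨he, fun q hq => ?_⟩
  have her : e * rr ε i j = rr ε i j * e := mem_NN.mp he
  rcases h q⁻¹ (inv_mem hq) with h1 | h1
  · have h2 : e * q = q * e := by
      calc e * q = q * (q⁻¹ * e * q⁻¹⁻¹) := by group
        _ = q * e := by rw [h1]
    have h3 : e * q * e⁻¹ * q⁻¹ = 1 := by rw [h2]; group
    rw [h3]
    exact one_mem _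
  · have hqr : q * rr ε i j = rr ε i j * q := mem_NN.mp (MinSimple.VModule.o2_le _ hq)
    have h2 : e * q = q * (e * rr ε i j) := by
      calc e * q = q * (q⁻¹ * e * q⁻¹⁻¹) := by group
        _ = _ := by rw [h1]
    have h3 : e * q * e⁻¹ * q⁻¹ = rr ε i j := by
      rw [h2, her, ← mul_assoc, hqr]
      group
    rw [h3]
    exact mem_zpowers _

section sym

variable [Finite G] {S : Sylow 2 G} {P₁ P₂ : Subgroup G} {y : G} {m m' : ℕ} {A A₂ : Subgroup G}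
  {ε : (Fin (2 ^ m + 1) → ZMod 2) → G} {ε₂ : (Fin (2 ^ m' + 1) → ZMod 2) → G}

theorem sit₁ (hG : IsCharacteristicTwoType G) (hm : 2 ≤ m) (hl : LabZ S P₁ P₂ y m A ε) : Sit S P₁ m A ε :=
  ⟨hG, hl.pair.star₁, hm, hl.split⟩

theorem sit₂ (hG : IsCharacteristicTwoType G) (hm' : 2 ≤ m') (hl : LabTwoZ S P₁ P₂ y m m' A ε A₂ ε₂) :
    Sit S P₂ m' A₂ ε₂ := ⟨hG, hl.pair.star₂, hm', hl.split₂⟩

theorem V1_le (hl : LabZ S P₁ P₂ y m A ε) : zl (S : Subgroup G) P₁ ≤ cj y P₂ :=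
  hl.ge.trans (cj_mono y hl.pair.star₂.le)

theorem not_cent (hG : IsCharacteristicTwoType G) (hm : 2 ≤ m) (hl : LabZ S P₁ P₂ y m A ε) :
    ¬ cj y (zl (S : Subgroup G) P₂) ≤ centralizer (A : Set G) := by
  intro h0
  apply hl.pair.ne
  rw [commutator_eq_bot_iff_le_centralizer]
  have hs := sit₁ hG hm hl
  intro v hv
  rw [mem_centralizer_iff]
  intro w hw
  obtain ⟨c, hc, a, ha, rfl⟩ := hs.mul_eq hv
  have h1 : w * c = c * w := hs.V0_comm hc (hl.pair.star₁.le (hl.le hw))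
  have h2 : a * w = w * a := mem_centralizer_iff.mp (h0 hw) a ha
  rw [← mul_assoc, h1, mul_assoc, ← h2, mul_assoc]

/-- `V_0'` centralises `V` -/
theorem comm_cv₂ (hl : LabTwoZ S P₁ P₂ y m m' A ε A₂ ε₂) {v : G} (hv : v ∈ cv (S : Subgroup G) P₂) {a : G}
    (ha : a ∈ zl (S : Subgroup G) P₁) : a * (y * v * y⁻¹) = y * v * y⁻¹ * a := by
  have h1 := V1_le hl.toLabZ ha
  rw [mem_cj] at h1
  have h2 : y⁻¹ * a * y * v = v * (y⁻¹ * a * y) := hl.split₂.comm h1 hv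
  calc a * (y * v * y⁻¹) = y * (y⁻¹ * a * y * v) * y⁻¹ := by group
    _ = y * (v * (y⁻¹ * a * y)) * y⁻¹ := by rw [h2]
    _ = _ := by group

/-- an element of `V'` acts on `A` as an element of `A'` -/
theorem exists_A₂ (hG : IsCharacteristicTwoType G) (hm : 2 ≤ m) (hm' : 2 ≤ m')
    (hl : LabTwoZ S P₁ P₂ y m m' A ε A₂ ε₂) {b : G} (hb : b ∈ cj y (zl (S : Subgroup G) P₂))
    {σ : Equiv.Perm (Fin (2 ^ m + 1))} (hbs : Acts ε b σ) : ∃ b' ∈ cj y A₂, Acts ε b' σ := by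
  have hs₁ := sit₁ hG hm hl.toLabZ
  have hs₂ := sit₂ hG hm' hl
  rw [mem_cj] at hb
  obtain ⟨v, hv, a, ha, h1⟩ := hs₂.mul_eq hb
  refine ⟨y * a * y⁻¹, ?_, fun x => ?_⟩
  · rw [mem_cj]
    have e : y⁻¹ * (y * a * y⁻¹) * y = a := by group
    rwa [e]
  · have h2 : b = y * v * y⁻¹ * (y * a * y⁻¹) := by
      calc b = y * (y⁻¹ * b * y) * y⁻¹ := by group
        _ = _ := by rw [h1]; group
    have h3 : y * a * y⁻¹ = (y * v * y⁻¹)⁻¹ * b := by rw [h2]; group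
    have h4 : ∀ w ∈ A, (y * v * y⁻¹)⁻¹ * w * (y * v * y⁻¹)⁻¹⁻¹ = w := by
      intro w hw
      have h5 := comm_cv₂ hl hv (hs₁.split.A_le hw)
      rw [inv_inv, mul_assoc, h5, inv_mul_cancel_left]
    rw [h3, ← hbs x]
    have h6 : b * ε x * b⁻¹ ∈ A := by
      rw [hbs x]
      exact hl.split.even.mem _
    calc (y * v * y⁻¹)⁻¹ * b * ε x * ((y * v * y⁻¹)⁻¹ * b)⁻¹
        = (y * v * y⁻¹)⁻¹ * (b * ε x * b⁻¹) * (y * v * y⁻¹)⁻¹⁻¹ := by group
      _ = _ := h4 _ h6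

/-- an element of `V` acts on `A'` as an element of `A` -/
theorem exists_A₁ (hG : IsCharacteristicTwoType G) (hm : 2 ≤ m) (hm' : 2 ≤ m')
    (hl : LabTwoZ S P₁ P₂ y m m' A ε A₂ ε₂) {b : G} (hb : b ∈ zl (S : Subgroup G) P₁)
    {σ : Equiv.Perm (Fin (2 ^ m' + 1))} (hbs : Acts (fun x => y * ε₂ x * y⁻¹) b σ) :
    ∃ b' ∈ A, Acts (fun x => y * ε₂ x * y⁻¹) b' σ := by
  have hs₁ := sit₁ hG hm hl.toLabZ
  have hs₂ := sit₂ hG hm' hl
  obtain ⟨v, hv, a, ha, rfl⟩ := hs₁.mul_eq hb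
  refine ⟨a, ha, fun x => ?_⟩
  have h4 : ∀ w ∈ cj y A₂, v⁻¹ * w * v⁻¹⁻¹ = w := by
    intro w hw
    have h5 : w ∈ P₁ := hl.pair.star₁.le (hl.le (cj_mono y hs₂.split.A_le hw))
    have h6 := hs₁.V0_comm hv h5
    rw [inv_inv, mul_assoc, h6, inv_mul_cancel_left]
  have h6 : v * a * (y * ε₂ x * y⁻¹) * (v * a)⁻¹ ∈ cj y A₂ := by
    rw [hbs x, mem_cj]
    have e : y⁻¹ * (y * ε₂ (x ∘ σ.symm) * y⁻¹) * y = ε₂ (x ∘ σ.symm) := by group
    rw [e]
    exact hl.split₂.even.mem _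
  rw [← hbs x]
  calc a * (y * ε₂ x * y⁻¹) * a⁻¹ = v⁻¹ * (v * a * (y * ε₂ x * y⁻¹) * (v * a)⁻¹) * v⁻¹⁻¹ := by group
    _ = _ := h4 _ h6

/-- `A` acts on `A'` by products of disjoint transpositions induced by `A`. -/
theorem side_A (hG : IsCharacteristicTwoType G) (hm : 2 ≤ m) (hm' : 2 ≤ m')
    (hl : LabTwoZ S P₁ P₂ y m m' A ε A₂ ε₂) : Side A (fun x => y * ε₂ x * y⁻¹) := by
  intro a ha
  obtain ⟨τ, h1, h2⟩ := hl.side₂ a (hl.split.A_le ha)
  refine ⟨τ, h1, fun i hi => ⟨(h2 i hi).1, ?_⟩⟩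
  obtain ⟨b, hb, h3⟩ := (h2 i hi).2
  exact exists_A₁ hG hm hm' hl hb h3

/-- **The entry.** -/
theorem entry_sym (hG : IsCharacteristicTwoType G) (hm : 2 ≤ m) (hm' : 2 ≤ m')
    (hl : LabTwoZ S P₁ P₂ y m m' A ε A₂ ε₂) : ∃ i j k l, i ≠ j ∧ k ≠ l ∧
      rr ε i j = rr (fun x => y * ε₂ x * y⁻¹) k l ∧
      (∃ b ∈ cj y A₂, Acts ε b (Equiv.swap i j)) ∧
      ∃ c ∈ A, Acts (fun x => y * ε₂ x * y⁻¹) c (Equiv.swap k l) := by
  obtain ⟨b, hb, i, j, hij, hbs⟩ := S5.Nat.exists_swap hl.split.even hl.side (not_cent hG hm hl.toLabZ)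
  obtain ⟨b', hb', hbs'⟩ := exists_A₂ hG hm hm' hl hb hbs
  have hE' : EvenSet (2 ^ m' + 1) (cj y A₂) (cj y P₂) (fun x => y * ε₂ x * y⁻¹) := hl.split₂.even.conj y
  obtain ⟨k, l, hkl, h1, c, hc, hcs, -⟩ := match_swap hl.split.even hE' (three_le (by omega)) (three_le (by omega))
    (side_A hG hm hm' hl) hb' hij hbs'
  refine ⟨i, j, k, l, hij, hkl, ?_, ⟨b', hb', hbs'⟩, c, hc, hcs⟩
  rw [rr_eq hl.split.even, rr_eq hE']
  exact h1

end sym

/-- The partner data. -/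
structure Partner {n : ℕ} (ε : (Fin n → ZMod 2) → G) (i j : Fin n) (e p : G) : Prop where
  ne : i ≠ j
  mem : e ∈ o2 (NN ε i j)
  wp : e ∈ WP ε i j
  mov : e * zz ε i ≠ zz ε i * e
  pr : p * rr ε i j * p⁻¹ = e
  pe : p * e * p⁻¹ = rr ε i j

section nat

variable [Finite G] {S : Sylow 2 G} {P₁ P₂ : Subgroup G} {y : G} {m : ℕ} {A : Subgroup G}
  {ε : (Fin (2 ^ m + 1) → ZMod 2) → G}

theorem sit_le (hG : IsCharacteristicTwoType G) {P : Subgroup G} (hP : IsParS (S : Subgroup G) P) :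
    zl (S : Subgroup G) P ≤ (S : Subgroup G) :=
  ((hP.isLoc.zl_le S hG).trans (MinSimple.VModule.zc_le _)).trans (hP.isLoc.o2_le S)

/-- two elements of `F` -/
theorem two_of_card {F : Type} [Field F] [Finite F] (hF : Nat.card F = 2) (a : F) : a = 0 ∨ a = 1 := by
  by_contra hcon
  push Not at hcon
  have h3 : Nat.card (Fin 3) ≤ Nat.card F := by
    refine Nat.card_le_card_of_injective (![0, 1, a] : Fin 3 → F) ?_
    intro i j hij
    fin_cases i <;> fin_cases j <;> simp_all [eq_comm]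
  rw [Nat.card_fin, hF] at h3
  omega

/-- the elements `r'`, `e'` of a natural module with `q = 2` -/
theorem nat_elems (hG : IsCharacteristicTwoType G) {P : Subgroup G} (hP : IsParS (S : Subgroup G) P)
    {F : Type} [Field F] [Finite F] [CharP F 2]
    (M : NatK F (S : Subgroup G) P (zl (S : Subgroup G) P) (cv (S : Subgroup G) P) 1) (hF : Nat.card F = 2)
    {B : Subgroup G} (hB : B ≤ (S : Subgroup G)) (hoff : Off (zl (S : Subgroup G) P) B) {c : G} (hc : c ∈ B)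
    (hne : ¬ ∀ v ∈ zl (S : Subgroup G) P, c * v = v * c) :
    ∃ r ∈ zl (S : Subgroup G) P, ∃ e ∈ zl (S : Subgroup G) P, ∃ g ∈ P, r ≠ 1 ∧
      (∃ v ∈ zl (S : Subgroup G) P, r = c * v * c⁻¹ * v⁻¹) ∧ (∀ s ∈ (S : Subgroup G), s * r = r * s) ∧
      (∀ s ∈ (S : Subgroup G), s * e * s⁻¹ = e ∨ s * e * s⁻¹ = e * r) ∧ c * e ≠ e * c ∧
      g * r * g⁻¹ = e ∧ g * e * g⁻¹ = r := by
  have hs := HOne.splitPar_of_two hG S hP M.natOver hF
  have hDZ := IId.Cv.cv_le_zc hG S hP M hs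
  have hVle : ∀ {v : G}, v ∈ HOne.Main.vx (S : Subgroup G) P → v ∈ zl (S : Subgroup G) P := fun hv =>
    HOne.vx_le _ _ hv
  have hPN : ∀ {g v : G}, g ∈ P → v ∈ HOne.Main.vx (S : Subgroup G) P →
      g * v * g⁻¹ ∈ HOne.Main.vx (S : Subgroup G) P := fun hg hv => HOne.conj_mem_vx hg hv
  -- the coordinates are injective on `N`
  have hinj : ∀ {v w : G}, v ∈ HOne.Main.vx (S : Subgroup G) P → w ∈ HOne.Main.vx (S : Subgroup G) P →
      M.e v 0 0 = M.e w 0 0 → M.e v 0 1 = M.e w 0 1 → v = w := by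
    intro v w hv hw h0 h1
    have h2 : M.e v = M.e w := by
      funext i
      rw [Subsingleton.elim i 0]
      exact NatPair.ext2 h0 h1
    have h3 : v * w⁻¹ ∈ HOne.Main.vx (S : Subgroup G) P ⊓ cv (S : Subgroup G) P :=
      mem_inf.2 ⟨mul_mem hv (inv_mem hw), (IId.Cv.eq_iff M (hVle hv) (hVle hw)).1 h2⟩
    rw [hs, mem_bot, mul_inv_eq_one] at h3
    exact h3
  have hF2 := two_of_card hF
  -- the action of `c`
  obtain ⟨I, h1, -⟩ := M.off B hB hoff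
  obtain ⟨b, -, hb, -⟩ := h1 c hc
  have hcS := hB hc
  have hcP : c ∈ P := hP.le hcS
  have hb0 : b 0 ≠ 0 := by
    intro h0
    apply hne
    refine IId.Cv.comm_of_quot hG S hP M one_pos hcS ((IId.Cv.mem_kern M).2 ⟨hcP, fun v hv => ?_⟩)
    funext i
    have h4 : b i = 0 := by rw [Subsingleton.elim i 0]; exact h0
    rw [hb v hv i]
    change NatPair.ap (Lib.SL2Mat.up (b i)) _ = _
    rw [h4, Lib.SL2Mat.up_zero, NatPair.ap_one]
  have hb1 : b 0 = 1 := (hF2 _).resolve_left hb0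
  obtain ⟨r, hr, hre⟩ := IId.Cv.vx_surj M (fun _ => ![1, 0])
  obtain ⟨e, he, hee⟩ := IId.Cv.vx_surj M (fun _ => ![0, 1])
  have r0 : M.e r 0 0 = 1 := by rw [hre]; rfl
  have r1 : M.e r 0 1 = 0 := by rw [hre]; rfl
  have e0 : M.e e 0 0 = 0 := by rw [hee]; rfl
  have e1 : M.e e 0 1 = 1 := by rw [hee]; rfl
  have h11 : (1 : F) + 1 = 0 := CharTwo.add_self_eq_zero 1
  have hr1 : r ≠ 1 := by
    intro h0
    rw [h0, IId.Cv.e_one M] at r0
    exact zero_ne_one r0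
  -- `r = [c, e]`
  have hrce : r = c * e * c⁻¹ * e⁻¹ := by
    apply hinj hr (mul_mem (hPN hcP he) (inv_mem he))
    · rw [M.mul _ (hVle (hPN hcP he)) _ (inv_mem (hVle he)), IId.Cv.e_inv M (hVle he), Pi.add_apply, Pi.add_apply,
        hb _ (hVle he) 0, NatPair.ap_zero', hee, r0]
      simp [hb1]
    · rw [M.mul _ (hVle (hPN hcP he)) _ (inv_mem (hVle he)), IId.Cv.e_inv M (hVle he), Pi.add_apply, Pi.add_apply,
        hb _ (hVle he) 0, NatPair.ap_one', hee, r1]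
      simp
  have hline : ∀ s ∈ (S : Subgroup G), ∀ v ∈ zl (S : Subgroup G) P,
      M.e (s * v * s⁻¹) 0 1 = 0 ↔ M.e v 0 1 = 0 := by
    intro s hs' v hv
    obtain ⟨σ, hσ⟩ := M.line s hs'
    have h2 := hσ v hv 0
    rwa [Subsingleton.elim (σ 0) 0] at h2
  obtain ⟨g, hg, hga, -⟩ := M.lift fun _ => Lib.SL2Mat.mk 0 1 1 0 (by linear_combination -h11)
  refine ⟨r, hVle hr, e, hVle he, g, hg, hr1, ⟨e, hVle he, hrce⟩, ?_, ?_, ?_, ?_, ?_⟩
  · intro s hs'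
    have hsP := hP.le hs'
    have h3 : s * r * s⁻¹ = r := by
      have h4 : M.e (s * r * s⁻¹) 0 1 = 0 := (hline s hs' r (hVle hr)).2 r1
      refine hinj (hPN hsP hr) hr ?_ (h4.trans r1.symm)
      rw [r0]
      refine (hF2 _).resolve_left fun h5 => hr1 ?_
      have h6 : s * r * s⁻¹ = 1 := hinj (hPN hsP hr) (one_mem _)
        (by rw [h5, IId.Cv.e_one M]; rfl) (by rw [h4, IId.Cv.e_one M]; rfl)
      have h7 : r = s⁻¹ * (s * r * s⁻¹) * s := by group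
      rw [h7, h6]
      group
    exact mul_inv_eq_iff_eq_mul.mp h3
  · intro s hs'
    have hsP := hP.le hs'
    have h4 : M.e (s * e * s⁻¹) 0 1 = 1 := by
      refine (hF2 _).resolve_left fun h5 => ?_
      rw [hline s hs' e (hVle he), e1] at h5
      exact one_ne_zero h5
    rcases hF2 (M.e (s * e * s⁻¹) 0 0) with h5 | h5
    · left
      exact hinj (hPN hsP he) he (h5.trans e0.symm) (h4.trans e1.symm)
    · right
      refine hinj (hPN hsP he) (mul_mem he hr) ?_ ?_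
      · rw [h5, M.mul _ (hVle he) _ (hVle hr), Pi.add_apply, Pi.add_apply, e0, r0, zero_add]
      · rw [h4, M.mul _ (hVle he) _ (hVle hr), Pi.add_apply, Pi.add_apply, e1, r1, add_zero]
  · intro h0
    apply hr1
    rw [hrce, h0]
    group
  · apply hinj (hPN hg hr) he
    · rw [hga _ (hVle hr) 0, NatPair.ap_zero', e0, r0, r1]
      simp
    · rw [hga _ (hVle hr) 0, NatPair.ap_one', e1, r0, r1]
      simp
  · apply hinj (hPN hg he) hr
    · rw [hga _ (hVle he) 0, NatPair.ap_zero', r0, e0, e1]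
      simp
    · rw [hga _ (hVle he) 0, NatPair.ap_one', r1, e0, e1]
      simp

/-- **The natural partner.** -/
theorem partner_nat (hG : IsCharacteristicTwoType G) (hm : 2 ≤ m) (hl : LabZ S P₁ P₂ y m A ε)
    (hN : IsNat (S : Subgroup G) P₂ 1) : ∃ i j e p, Partner ε i j e p := by
  obtain ⟨F, i1, i2, i3, ⟨M⟩⟩ := hN
  have hF := NatStep.card_F hG hm hl M
  have hn := three_le (by omega : 1 ≤ m)
  have h := hl.split.even
  have hs := hl.side
  have hAV : A ≤ zl (S : Subgroup G) P₁ := hl.split.A_le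
  obtain ⟨b, hb, i, j, hij, hbs⟩ := S5.Nat.exists_swap h hs (not_cent hG hm hl)
  have hab : ∀ a ∈ cj y (zl (S : Subgroup G) P₂), ∀ b ∈ cj y (zl (S : Subgroup G) P₂), a * b = b * a := by
    intro a ha b hb
    have h1 := hl.off₁.elem.1
    exact congrArg Subtype.val (h1.is_comm.comm (⟨a, ha⟩ : ↥(cj y (zl (S : Subgroup G) P₂))) ⟨b, hb⟩)
  set c : G := ε (Pi.single i 1) with hc
  have hcb : b * c ≠ c * b := by
    intro h1
    have h2 := (swap_comm_iff h hn hij hbs _).mp h1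
    rw [Pi.single_eq_same, Pi.single_eq_of_ne hij.symm] at h2
    exact one_ne_zero h2
  have hcomm : ∀ a ∈ cj y (zl (S : Subgroup G) P₂), c * a * c⁻¹ * a⁻¹ = 1 ∨
      c * a * c⁻¹ * a⁻¹ = ε (Pi.single i 1 + Pi.single j 1) :=
    fun a ha => S5.Nat.comm_single hn h hs hab hb hij hbs ha
  have o3 := off_cj hl.off₂ y⁻¹
  rw [cj_inv_cj] at o3
  have hA : cj y⁻¹ (zl (S : Subgroup G) P₁) ≤ (S : Subgroup G) := by
    rw [cj_le_iff, inv_inv]
    exact hl.ge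
  have hcA : y⁻¹ * c * y ∈ cj y⁻¹ (zl (S : Subgroup G) P₁) := by
    rw [mem_cj]
    have e : y⁻¹⁻¹ * (y⁻¹ * c * y) * y⁻¹ = c := by group
    rw [e]
    exact hAV (h.mem _)
  have hcne : ¬ ∀ v ∈ zl (S : Subgroup G) P₂, y⁻¹ * c * y * v = v * (y⁻¹ * c * y) := by
    intro h1
    apply hcb
    have h2 := h1 (y⁻¹ * b * y) (mem_cj.mp hb)
    have e1 : b * c = y * (y⁻¹ * b * y * (y⁻¹ * c * y)) * y⁻¹ := by group
    have e2 : c * b = y * (y⁻¹ * c * y * (y⁻¹ * b * y)) * y⁻¹ := by group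
    rw [e1, e2, h2]
  obtain ⟨r', hr', e', he', g, hg, hr1, ⟨v, hv, hrv⟩, hrS, heS, hce, hgr, hge⟩ :=
    nat_elems hG hl.pair.star₂ M hF hA o3 hcA hcne
  have hcj : ∀ {w : G}, w ∈ zl (S : Subgroup G) P₂ → y * w * y⁻¹ ∈ cj y (zl (S : Subgroup G) P₂) := by
    intro w hw
    rw [mem_cj]
    have e : y⁻¹ * (y * w * y⁻¹) * y = w := by group
    rwa [e]
  -- `r = y r' y⁻¹`
  have hr : y * r' * y⁻¹ = rr ε i j := by
    rw [rr_eq h]
    have e1 : y * r' * y⁻¹ = c * (y * v * y⁻¹) * c⁻¹ * (y * v * y⁻¹)⁻¹ := by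
      rw [hrv]; group
    rw [e1]
    refine (hcomm _ (hcj hv)).resolve_left fun h2 => hr1 ?_
    rw [← e1] at h2
    have e2 : r' = y⁻¹ * (y * r' * y⁻¹) * y := by group
    rw [e2, h2]
    group
  have hr' : r' = y⁻¹ * rr ε i j * y := by rw [← hr]; group
  have hrr1 : rr ε i j ≠ 1 := rr_ne_one h hn hij
  -- `S ^ y ≤ C_G(r)`
  have hSy : ((y • S : Sylow 2 G) : Subgroup G) ≤ NN ε i j := by
    rw [NSix.NoTk.coe_smul]
    intro x hx
    have hx' : y⁻¹ * x * y ∈ (S : Subgroup G) := mem_cj.mp hx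
    rw [mem_NN]
    have h2 := hrS _ hx'
    calc x * rr ε i j = y * (y⁻¹ * x * y * r') * y⁻¹ := by rw [hr']; group
      _ = y * (r' * (y⁻¹ * x * y)) * y⁻¹ := by rw [h2]
      _ = _ := by rw [hr']; group
  have hQ : o2 (NN ε i j) ≤ ((y • S : Sylow 2 G) : Subgroup G) :=
    MinSimple.VModule.o2_le_of_sylow (y • S : Sylow 2 G).isPGroup'
      (MinSimple.Basic.not_dvd_relIndex (y • S) hSy)
  rw [NSix.NoTk.coe_smul] at hQ
  have heN : y * e' * y⁻¹ ∈ NN ε i j := by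
    apply hSy
    rw [NSix.NoTk.coe_smul]
    exact cj_mono y (sit_le hG hl.pair.star₂) (hcj he')
  have hwp : y * e' * y⁻¹ ∈ WP ε i j := by
    apply wp_of heN
    intro q hq
    have hq' : y⁻¹ * q * y ∈ (S : Subgroup G) := mem_cj.mp (hQ hq)
    rcases heS _ hq' with h2 | h2
    · left
      calc q * (y * e' * y⁻¹) * q⁻¹ = y * (y⁻¹ * q * y * e' * (y⁻¹ * q * y)⁻¹) * y⁻¹ := by group
        _ = _ := by rw [h2]
    · right
      calc q * (y * e' * y⁻¹) * q⁻¹ = y * (y⁻¹ * q * y * e' * (y⁻¹ * q * y)⁻¹) * y⁻¹ := by group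
        _ = _ := by rw [h2, hr']; group
  refine ⟨i, j, y * e' * y⁻¹, y * g * y⁻¹, hij, ?_, hwp, ?_, ?_, ?_⟩
  · exact MinSimple.Geo.mem_o2_of_stab hG (rr_sq h i j) hrr1 heN hwp.2
  · intro h2
    apply hce
    change y⁻¹ * zz ε i * y * e' = e' * (y⁻¹ * zz ε i * y)
    calc y⁻¹ * zz ε i * y * e' = y⁻¹ * (zz ε i * (y * e' * y⁻¹)) * y := by group
      _ = y⁻¹ * (y * e' * y⁻¹ * zz ε i) * y := by rw [h2]
      _ = _ := by group
  · rw [← hr, ← hgr]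
    group
  · rw [← hr, ← hge]
    group

end nat

end Cfsg.Agent.Omega.F4Leaf.Part
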